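import Mathlib
import Cfsg.Prelude.Def_Characters

/-!
Elementary facts about `Cfsg.extendByZero` and `Cfsg.indFun`, and permutation characters.
-/

set_option autoImplicit false

namespace Cfsg.Agent.CharTheory.IndBasic

universe u

variable {G : Type u} [Group G]

theorem extendByZero_coe (H : Subgroup G) (θ : H → ℂ) (h : H) :
    Cfsg.extendByZero H θ (h : G) = θ h :=
  Subtype.val_injective.extend_apply θ 0 h

theorem extendByZero_of_mem (H : Subgroup G) (θ : H → ℂ) {g : G} (hg : g ∈ H) :
    Cfsg.extendByZero H θ g = θ ⟨g, hg⟩ :=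
  extendByZero_coe H θ ⟨g, hg⟩

theorem extendByZero_of_notMem (H : Subgroup G) (θ : H → ℂ) {g : G} (hg : g ∉ H) :
    Cfsg.extendByZero H θ g = 0 := by
  rw [Cfsg.extendByZero, Function.extend_apply']
  · rfl
  · rintro ⟨h, rfl⟩; exact hg h.2

theorem extendByZero_one (H : Subgroup G) (g : G) [Decidable (g ∈ H)] :
    Cfsg.extendByZero H (fun _ => 1) g = if g ∈ H then 1 else 0 := by
  split_ifs with hg
  · rw [extendByZero_of_mem H _ hg]
  · rw [extendByZero_of_notMem H _ hg]

variable [Fintype G]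

theorem card_mul_indFun (H : Subgroup G) (θ : H → ℂ) (g : G) :
    (Nat.card H : ℂ) * Cfsg.indFun H θ g = ∑ x : G, Cfsg.extendByZero H θ (x⁻¹ * g * x) := by
  have h0 : (Nat.card H : ℂ) ≠ 0 := Nat.cast_ne_zero.mpr Nat.card_pos.ne'
  rw [Cfsg.indFun, mul_inv_cancel_left₀ h0]

theorem indFun_conj (H : Subgroup G) (θ : H → ℂ) (g a : G) :
    Cfsg.indFun H θ (a * g * a⁻¹) = Cfsg.indFun H θ g := by
  rw [Cfsg.indFun]
  congr 1
  exact Fintype.sum_equiv (Equiv.mulLeft a⁻¹) _ _ fun x => by simp [mul_assoc]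

theorem indFun_inv_conj (H : Subgroup G) (θ : H → ℂ) (g a : G) :
    Cfsg.indFun H θ (a⁻¹ * g * a) = Cfsg.indFun H θ g := by
  simpa using indFun_conj H θ g a⁻¹

/-- The character induced from the constant `1` counts fixed cosets. -/
theorem indFun_one_eq_card_fixed (H : Subgroup G) (g : G) :
    Cfsg.indFun H (fun _ => 1) g = (Nat.card {c : G ⧸ H // g • c = c} : ℂ) := by
  classical
  have h0 : (Nat.card H : ℂ) ≠ 0 := Nat.cast_ne_zero.mpr Nat.card_pos.ne'
  have hiff : ∀ x : G, x⁻¹ * g * x ∈ H ↔ g • (x : G ⧸ H) = (x : G ⧸ H) := by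
    intro x
    rw [MulAction.Quotient.smul_coe, eq_comm, QuotientGroup.eq, smul_eq_mul, mul_assoc]
  have e : {x : G // x⁻¹ * g * x ∈ H} ≃ {c : G ⧸ H // g • c = c} × H :=
    (Equiv.subtypeEquivRight hiff).trans
      (QuotientGroup.preimageMkEquivSubgroupProdSet H {c : G ⧸ H | g • c = c} |>.trans
        (Equiv.prodComm _ _))
  have hc := Nat.card_congr e
  rw [Nat.card_prod] at hc
  apply mul_left_cancel₀ h0
  rw [card_mul_indFun]
  simp only [extendByZero_one]
  rw [Finset.sum_boole, ← Nat.cast_mul, mul_comm (Nat.card H), ← hc]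
  rw [Nat.card_eq_fintype_card, Fintype.card_subtype]

/-- The character induced from the constant `1` only depends on the conjugacy class of the
subgroup. -/
theorem indFun_one_map_conj (H : Subgroup G) (a g : G) :
    Cfsg.indFun (H.map (MulAut.conj a).toMonoidHom) (fun _ => 1) g =
      Cfsg.indFun H (fun _ => 1) g := by
  classical
  rw [Cfsg.indFun, Cfsg.indFun, Subgroup.card_map_of_injective (MulAut.conj a).injective]
  congr 1
  refine Fintype.sum_equiv (Equiv.mulRight a) _ _ fun x => ?_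
  simp only [extendByZero_one, Equiv.coe_mulRight]
  refine if_congr ?_ rfl rfl
  rw [show (MulAut.conj a).toMonoidHom = ((MulAut.conj a : G ≃* G) : G →* G) from rfl,
    Subgroup.map_equiv_eq_comap_symm, Subgroup.mem_comap]
  simp [mul_assoc]

end Cfsg.Agent.CharTheory.IndBasic
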