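import Mathlib
import Cfsg.Agent.Lib.Characters.Induction

/-!
Clifford theory for a normal subgroup: conjugate characters, restriction of induced functions,
Clifford's theorem in "sum over the group" form, the Clifford correspondent.
-/

set_option autoImplicit false

namespace Cfsg.Agent.CharTheory.Clifford

open Cfsg.Agent.Characters
open scoped ComplexConjugate

universe u

variable {G : Type u} [Group G] (N : Subgroup G) [hN : N.Normal]

/-- The conjugate of a function on a normal subgroup: `n ↦ θ (g * n * g⁻¹)`. -/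
def conjBy (g : G) (θ : N → ℂ) : N → ℂ :=
  fun n => θ ⟨g * n * g⁻¹, hN.conj_mem (n : G) n.2 g⟩

theorem conjBy_apply (g : G) (θ : N → ℂ) (n : N) :
    conjBy N g θ n = θ ⟨g * n * g⁻¹, hN.conj_mem (n : G) n.2 g⟩ := rfl

theorem conjBy_eq_comp (g : G) (θ : N → ℂ) :
    conjBy N g θ = θ ∘ (MulAut.conjNormal g : N ≃* N).toMonoidHom := by
  funext n
  exact congrArg θ (Subtype.ext (by simp))

theorem conjBy_one (θ : N → ℂ) : conjBy N 1 θ = θ := by
  funext n
  exact congrArg θ (Subtype.ext (by simp))

theorem conjBy_at_one (g : G) (θ : N → ℂ) : conjBy N g θ 1 = θ 1 :=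
  congrArg θ (Subtype.ext (by simp))

theorem conjBy_conjBy (g h : G) (θ : N → ℂ) :
    conjBy N g (conjBy N h θ) = conjBy N (h * g) θ := by
  funext n
  exact congrArg θ (Subtype.ext (by simp [mul_assoc]))

theorem conjBy_injective (g : G) : Function.Injective (conjBy N g) := by
  intro θ φ h
  have h2 := congrArg (conjBy N g⁻¹) h
  rwa [conjBy_conjBy, conjBy_conjBy, mul_inv_cancel, conjBy_one, conjBy_one] at h2

theorem isCharacter_conjBy (g : G) {θ : N → ℂ} (h : Cfsg.IsCharacter N θ) :
    Cfsg.IsCharacter N (conjBy N g θ) := by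
  rw [conjBy_eq_comp]; exact isCharacter_comp _ h

theorem conjBy_restrict {χ : G → ℂ} (h : Cfsg.IsClassFunction G χ) (g : G) :
    conjBy N g (fun n : N => χ n) = fun n : N => χ n := by
  funext n
  exact h (n : G) g

theorem classInner_conjBy [Fintype N] (g : G) (θ φ : N → ℂ) :
    Cfsg.classInner (conjBy N g θ) (conjBy N g φ) = Cfsg.classInner θ φ := by
  rw [classInner_def, classInner_def]
  congr 1
  rw [conjBy_eq_comp, conjBy_eq_comp]
  exact Fintype.sum_equiv (MulAut.conjNormal g : N ≃* N).toEquiv _ _ fun n => rfl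

theorem isIrrCharacter_conjBy [Finite G] (g : G) {θ : N → ℂ} (h : Cfsg.IsIrrCharacter N θ) :
    Cfsg.IsIrrCharacter N (conjBy N g θ) := by
  haveI := Fintype.ofFinite N
  exact isIrr_of_isCharacter_of_norm_one (isCharacter_conjBy N g (isCharacter_of_isIrr h))
    ((classInner_conjBy N g θ θ).trans (classInner_isIrr_self h))

variable [Fintype G]

/-- Restriction of an induced function to a normal subgroup. -/
theorem card_mul_indFun_coe (θ : N → ℂ) (n : N) :
    (Nat.card N : ℂ) * Cfsg.indFun N θ (n : G) = ∑ x : G, conjBy N x θ n := by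
  rw [IndBasic.card_mul_indFun]
  refine Fintype.sum_equiv (Equiv.inv G) _ _ fun x => ?_
  have hm : x⁻¹ * (n : G) * x ∈ N := by simpa using hN.conj_mem (n : G) n.2 x⁻¹
  rw [IndBasic.extendByZero_of_mem N θ hm, conjBy_apply]
  exact congrArg θ (Subtype.ext (by simp))

/-- An induced function from a normal subgroup vanishes outside it. -/
theorem indFun_of_notMem (θ : N → ℂ) {g : G} (hg : g ∉ N) : Cfsg.indFun N θ g = 0 := by
  have h0 : (Nat.card N : ℂ) ≠ 0 := Nat.cast_ne_zero.mpr Nat.card_pos.ne'
  apply mul_left_cancel₀ h0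
  rw [IndBasic.card_mul_indFun, mul_zero]
  refine Finset.sum_eq_zero fun x _ => IndBasic.extendByZero_of_notMem N θ fun h => hg ?_
  simpa [mul_assoc] using hN.conj_mem _ h x

theorem indFun_coe_of_invariant {θ : N → ℂ} (hinv : ∀ g : G, conjBy N g θ = θ) (n : N) :
    Cfsg.indFun N θ (n : G) = (N.index : ℂ) * θ n := by
  have h0 : (Nat.card N : ℂ) ≠ 0 := Nat.cast_ne_zero.mpr Nat.card_pos.ne'
  apply mul_left_cancel₀ h0
  rw [card_mul_indFun_coe, ← mul_assoc, ← Nat.cast_mul, N.card_mul_index]
  simp [hinv, Nat.card_eq_fintype_card]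

theorem restrict_indFun_of_invariant {θ : N → ℂ} (hinv : ∀ g : G, conjBy N g θ = θ) :
    (fun n : N => Cfsg.indFun N θ n) = (N.index : ℂ) • θ :=
  funext fun n => indFun_coe_of_invariant N hinv n

/-- For an invariant irreducible `θ`, the induced character has norm the index. -/
theorem classInner_indFun_self [Fintype N] {θ : N → ℂ} (hθ : Cfsg.IsIrrCharacter N θ)
    (hinv : ∀ g : G, conjBy N g θ = θ) :
    Cfsg.classInner (Cfsg.indFun N θ) (Cfsg.indFun N θ) = (N.index : ℂ) := by
  rw [frobenius_reciprocity' N θ (indFun_isClassFunction N θ), restrict_indFun_of_invariant N hinv,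
    classInner_smul_left, classInner_isIrr_self hθ, mul_one]

/-- A constituent of a character contributes its restriction: if `χ` occurs in `Φ` and `φ` in the
restriction of `χ`, then `φ` occurs in the restriction of `Φ`. -/
theorem classInner_restrict_ne_zero (H : Subgroup G) [Fintype H] {Φ χ : G → ℂ} {φ : H → ℂ}
    (hΦ : Cfsg.IsCharacter G Φ) (hχ : Cfsg.IsIrrCharacter G χ) (hφ : Cfsg.IsCharacter H φ)
    (h1 : Cfsg.classInner Φ χ ≠ 0) (h2 : Cfsg.classInner (fun h : H => χ h) φ ≠ 0) :
    Cfsg.classInner (fun h : H => Φ h) φ ≠ 0 := by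
  classical
  haveI := Fintype.ofFinite (Cfsg.IrrCharacter G)
  choose a ha using fun ψ : Cfsg.IrrCharacter G => classInner_char_nat hΦ (irr_isCharacter ψ)
  choose b hb using fun ψ : Cfsg.IrrCharacter G =>
    classInner_char_nat (isCharacter_restrict H (irr_isCharacter ψ)) hφ
  have hexp : (fun h : H => Φ h) = ∑ ψ : Cfsg.IrrCharacter G,
      (a ψ : ℂ) • (fun h : H => (ψ : G → ℂ) h) := by
    funext h
    have := congrFun (classFun_eq_sum (char_isClassFunction hΦ)) (h : G)
    simpa [ha, Finset.sum_apply] using this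
  rw [hexp, classInner_sum_left]
  simp only [classInner_smul_left, hb, ← Nat.cast_mul, ← Nat.cast_sum, Nat.cast_ne_zero]
  intro h0
  have h3 := (Finset.sum_eq_zero_iff.mp h0) ⟨χ, hχ⟩ (Finset.mem_univ _)
  rcases mul_eq_zero.mp h3 with h | h
  · exact h1 (by rw [show Cfsg.classInner Φ χ = _ from ha ⟨χ, hχ⟩, h, Nat.cast_zero])
  · exact h2 (by rw [show Cfsg.classInner (fun h : H => χ h) φ = _ from hb ⟨χ, hχ⟩, h,
      Nat.cast_zero])

variable [Fintype N]

theorem classInner_restrict_conjBy {χ : G → ℂ} (hχ : Cfsg.IsClassFunction G χ) (g : G)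
    (θ : N → ℂ) : Cfsg.classInner (fun n : N => χ n) (conjBy N g θ) =
      Cfsg.classInner (fun n : N => χ n) θ := by
  conv_lhs => rw [← conjBy_restrict N hχ g]
  exact classInner_conjBy N g _ _

/-- Clifford: the constituents of `χ|N` form one conjugacy orbit. -/
theorem exists_conjBy_eq {χ : G → ℂ} (hχ : Cfsg.IsIrrCharacter G χ) {θ φ : N → ℂ}
    (hθ : Cfsg.IsIrrCharacter N θ) (hφ : Cfsg.IsIrrCharacter N φ)
    (h1 : Cfsg.classInner (fun n : N => χ n) θ ≠ 0)
    (h2 : Cfsg.classInner (fun n : N => χ n) φ ≠ 0) : ∃ g : G, conjBy N g θ = φ := by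
  classical
  have hind : Cfsg.classInner (Cfsg.indFun N θ) χ ≠ 0 := by
    rw [frobenius_reciprocity N θ (char_isClassFunction (isCharacter_of_isIrr hχ)),
      classInner_conj_symm]
    simpa using h1
  have h3 := classInner_restrict_ne_zero N (isCharacter_indFun N (isCharacter_of_isIrr hθ)) hχ
    (isCharacter_of_isIrr hφ) hind h2
  have hexp : (fun n : N => Cfsg.indFun N θ n) =
      (Nat.card N : ℂ)⁻¹ • ∑ x : G, conjBy N x θ := by
    funext n
    simp only [Pi.smul_apply, Finset.sum_apply, smul_eq_mul]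
    rw [← card_mul_indFun_coe, inv_mul_cancel_left₀ natCard_ne_zero]
  rw [hexp, classInner_smul_left, classInner_sum_left] at h3
  by_contra hne
  push Not at hne
  apply h3
  rw [Finset.sum_eq_zero fun x _ => classInner_isIrr_ne (isIrrCharacter_conjBy N x hθ) hφ (hne x),
    mul_zero]

/-- Clifford's formula, with `T` the inertia group of `θ`. -/
theorem card_smul_restrict {χ : G → ℂ} (hχ : Cfsg.IsIrrCharacter G χ) {θ : N → ℂ}
    (hθ : Cfsg.IsIrrCharacter N θ) (h1 : Cfsg.classInner (fun n : N => χ n) θ ≠ 0)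
    (T : Subgroup G) (hT : ∀ g : G, g ∈ T ↔ conjBy N g θ = θ) :
    (Nat.card T : ℂ) • (fun n : N => χ n) =
      Cfsg.classInner (fun n : N => χ n) θ • ∑ x : G, conjBy N x θ := by
  classical
  have hcl := char_isClassFunction (isCharacter_of_isIrr hχ)
  refine classFun_ext (fun g h => ?_) (fun g h => ?_) fun φ hφ => ?_
  · simp only [Pi.smul_apply, smul_eq_mul]; exact congrArg _ (classFun_restrict N hcl g h)
  · simp only [Pi.smul_apply, Finset.sum_apply]
    congr 1
    exact Finset.sum_congr rfl fun x _ =>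
      char_isClassFunction (isCharacter_conjBy N x (isCharacter_of_isIrr hθ)) g h
  · rw [classInner_smul_left, classInner_smul_left, classInner_sum_left]
    by_cases h2 : Cfsg.classInner (fun n : N => χ n) φ = 0
    · rw [h2, mul_zero, Finset.sum_eq_zero, mul_zero]
      intro x _
      refine classInner_isIrr_ne (isIrrCharacter_conjBy N x hθ) hφ fun he => ?_
      rw [← he, classInner_restrict_conjBy N hcl] at h2
      exact h1 h2
    · obtain ⟨g, rfl⟩ := exists_conjBy_eq N hχ hθ hφ h1 h2
      rw [classInner_restrict_conjBy N hcl, mul_comm]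
      congr 1
      have hmem : ∀ x : G, conjBy N x θ = conjBy N g θ ↔ x * g⁻¹ ∈ T := by
        intro x
        rw [hT]
        constructor
        · intro h
          apply conjBy_injective N g
          rw [conjBy_conjBy, inv_mul_cancel_right, h]
        · intro h
          have h' := congrArg (conjBy N g) h
          rwa [conjBy_conjBy, inv_mul_cancel_right] at h'
      rw [Finset.sum_congr rfl (g := fun x => if x * g⁻¹ ∈ T then (1 : ℂ) else 0) fun x _ => ?_]
      · rw [Finset.sum_boole, Nat.cast_inj, Nat.card_eq_fintype_card,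
          ← Fintype.card_subtype]
        exact Fintype.card_congr ((Equiv.mulRight g⁻¹).subtypeEquiv fun x => Iff.rfl).symm
      · by_cases hx : x * g⁻¹ ∈ T
        · rw [if_pos hx, (hmem x).mpr hx, classInner_conjBy, classInner_isIrr_self hθ]
        · rw [if_neg hx]
          exact classInner_isIrr_ne (isIrrCharacter_conjBy N x hθ) hφ fun he => hx ((hmem x).mp he)

/-- Clifford for an invariant constituent: the restriction is a multiple of it. -/
theorem restrict_eq_smul_of_invariant {χ : G → ℂ} (hχ : Cfsg.IsIrrCharacter G χ) {θ : N → ℂ}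
    (hθ : Cfsg.IsIrrCharacter N θ) (h1 : Cfsg.classInner (fun n : N => χ n) θ ≠ 0)
    (hinv : ∀ g : G, conjBy N g θ = θ) :
    (fun n : N => χ n) = Cfsg.classInner (fun n : N => χ n) θ • θ := by
  have h := card_smul_restrict N hχ hθ h1 ⊤ (fun g => by simp [hinv])
  rw [Finset.sum_congr rfl fun x _ => hinv x, Finset.sum_const, Finset.card_univ,
    Subgroup.card_top, ← Nat.cast_smul_eq_nsmul ℂ, smul_comm, ← Nat.card_eq_fintype_card] at h
  exact smul_right_injective _ natCard_ne_zero h

/-- Degree formula in Clifford's theorem. -/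
theorem card_mul_degree {χ : G → ℂ} (hχ : Cfsg.IsIrrCharacter G χ) {θ : N → ℂ}
    (hθ : Cfsg.IsIrrCharacter N θ) (h1 : Cfsg.classInner (fun n : N => χ n) θ ≠ 0)
    (T : Subgroup G) (hT : ∀ g : G, g ∈ T ↔ conjBy N g θ = θ) :
    (Nat.card T : ℂ) * χ 1 =
      Cfsg.classInner (fun n : N => χ n) θ * ((Nat.card G : ℂ) * θ 1) := by
  have h := congrFun (card_smul_restrict N hχ hθ h1 T hT) 1
  simp only [Pi.smul_apply, Finset.sum_apply, smul_eq_mul, OneMemClass.coe_one] at h
  rw [h]
  congr 1
  rw [Finset.sum_congr rfl (g := fun _ => θ 1) (fun x _ => conjBy_at_one N x θ),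
    Finset.sum_const, Finset.card_univ, nsmul_eq_mul, Nat.card_eq_fintype_card]

end Cfsg.Agent.CharTheory.Clifford
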