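import Mathlib
import Cfsg.Agent.Lib.Characters.Induction

/-!
Small general facts: transport along isomorphisms, complex conjugates of characters, degree
comparisons, products with linear characters.
-/

set_option autoImplicit false

namespace Cfsg.Agent.CharTheory.Basics

open Cfsg.Agent.Characters
open scoped ComplexConjugate

universe u v

variable {G : Type u} [Group G]

theorem classInner_comp_equiv [Fintype G] {H : Type v} [Group H] [Fintype H] (e : H ≃* G)
    (f f' : G → ℂ) : Cfsg.classInner (f ∘ e) (f' ∘ e) = Cfsg.classInner f f' := by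
  rw [classInner_def, classInner_def, Nat.card_congr e.toEquiv]
  congr 1
  exact Fintype.sum_equiv e.toEquiv _ _ fun x => rfl

theorem isIrrCharacter_comp_equiv [Finite G] {H : Type v} [Group H] (e : H ≃* G) {χ : G → ℂ}
    (h : Cfsg.IsIrrCharacter G χ) : Cfsg.IsIrrCharacter H (χ ∘ e) := by
  haveI := Fintype.ofFinite G
  haveI : Finite H := Finite.of_equiv G e.symm.toEquiv
  haveI := Fintype.ofFinite H
  exact isIrr_of_isCharacter_of_norm_one
    (isCharacter_comp e.toMonoidHom (isCharacter_of_isIrr h))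
    ((classInner_comp_equiv e χ χ).trans (classInner_isIrr_self h))

/-- The complex conjugate of a character is a character. -/
theorem isCharacter_conj [Finite G] {χ : G → ℂ} (h : Cfsg.IsCharacter G χ) :
    Cfsg.IsCharacter G (fun g => conj (χ g)) := by
  obtain ⟨n, ρ, rfl⟩ := h
  have he : (fun g => conj (ρ.character g)) = ρ.dual.character := by
    funext g
    rw [ρ.char_dual, rep_char_inv]
  rw [he]
  exact isCharacter_character ρ.dual

/-- A character of degree `0` vanishes. -/
theorem char_eq_zero_of_one [Finite G] {χ : G → ℂ} (h : Cfsg.IsCharacter G χ) (h1 : χ 1 = 0) :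
    χ = 0 := by
  funext g
  simpa [h1] using char_norm_le h g

theorem char_norm_eq_one [Finite G] {χ : G → ℂ} (h : Cfsg.IsCharacter G χ) (h1 : χ 1 = 1)
    (g : G) : χ g * conj (χ g) = 1 := by
  rw [← char_inv h g, ← char_mul_of_degree_one h h1, mul_inv_cancel, h1]

theorem isIrr_of_degree_one [Fintype G] {χ : G → ℂ} (h : Cfsg.IsCharacter G χ) (h1 : χ 1 = 1) :
    Cfsg.IsIrrCharacter G χ := by
  refine isIrr_of_isCharacter_of_norm_one h ?_
  rw [classInner_def, Finset.sum_congr rfl fun g _ => char_norm_eq_one h h1 g, Finset.sum_const,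
    Finset.card_univ, nsmul_eq_mul, mul_one, ← Nat.card_eq_fintype_card,
    inv_mul_cancel₀ natCard_ne_zero]

/-- The product of an irreducible character with a character of degree one is irreducible. -/
theorem isIrr_mul_linear [Fintype G] {χ μ : G → ℂ} (hχ : Cfsg.IsIrrCharacter G χ)
    (hμ : Cfsg.IsCharacter G μ) (h1 : μ 1 = 1) : Cfsg.IsIrrCharacter G (χ * μ) := by
  refine isIrr_of_isCharacter_of_norm_one (isCharacter_mul (isCharacter_of_isIrr hχ) hμ) ?_
  rw [← classInner_isIrr_self hχ, classInner_def, classInner_def]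
  congr 1
  refine Finset.sum_congr rfl fun g _ => ?_
  rw [Pi.mul_apply, map_mul, mul_mul_mul_comm, char_norm_eq_one hμ h1, mul_one]

/-- An irreducible constituent has at most the degree of the character; equality forces
`Φ = m • ψ`. -/
theorem eq_smul_of_degree [Fintype G] {Φ ψ : G → ℂ} (hΦ : Cfsg.IsCharacter G Φ)
    (hψ : Cfsg.IsIrrCharacter G ψ) {m : ℕ} (hm : Cfsg.classInner Φ ψ = (m : ℂ)) :
    ∃ ρ : G → ℂ, Cfsg.IsCharacter G ρ ∧ Φ = (m : ℂ) • ψ + ρ := by
  classical
  refine ⟨Φ - (m : ℂ) • ψ, isCharacter_of_classInner_nat ?_ ?_, (add_sub_cancel _ _).symm⟩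
  · intro g h
    simp only [Pi.sub_apply, Pi.smul_apply, char_isClassFunction hΦ g h,
      char_isClassFunction (isCharacter_of_isIrr hψ) g h]
  · intro φ hφ
    by_cases he : ψ = φ
    · subst he
      exact ⟨0, by rw [classInner_sub_left, classInner_smul_left, classInner_isIrr_self hψ, hm]; simp⟩
    · obtain ⟨k, hk⟩ := classInner_char_nat hΦ (isCharacter_of_isIrr hφ)
      exact ⟨k, by rw [classInner_sub_left, classInner_smul_left, classInner_isIrr_ne hψ hφ he, hk];
                   simp⟩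

theorem degree_le [Fintype G] {Φ ψ : G → ℂ} (hΦ : Cfsg.IsCharacter G Φ)
    (hψ : Cfsg.IsIrrCharacter G ψ) {m a b : ℕ} (hm : Cfsg.classInner Φ ψ = (m : ℂ))
    (ha : Φ 1 = (a : ℂ)) (hb : ψ 1 = (b : ℂ)) : m * b ≤ a := by
  obtain ⟨ρ, hρ, he⟩ := eq_smul_of_degree hΦ hψ hm
  obtain ⟨c, hc⟩ := char_one_nat hρ
  have h := congrFun he 1
  simp only [Pi.add_apply, Pi.smul_apply, smul_eq_mul, ha, hb, hc] at h
  have h' : a = m * b + c := by exact_mod_cast h
  omega

theorem eq_of_degree_eq [Fintype G] {Φ ψ : G → ℂ} (hΦ : Cfsg.IsCharacter G Φ)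
    (hψ : Cfsg.IsIrrCharacter G ψ) {m : ℕ} (hm : Cfsg.classInner Φ ψ = (m : ℂ))
    (hd : Φ 1 = (m : ℂ) * ψ 1) : Φ = (m : ℂ) • ψ := by
  obtain ⟨ρ, hρ, he⟩ := eq_smul_of_degree hΦ hψ hm
  have h := congrFun he 1
  simp only [Pi.add_apply, Pi.smul_apply, smul_eq_mul, hd] at h
  rw [he, char_eq_zero_of_one hρ (by linear_combination (-h)), add_zero]

end Cfsg.Agent.CharTheory.Basics
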