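import Mathlib
import Cfsg.Agent.Lib.CharTheory.Basics
import Cfsg.Agent.Lib.CharTheory.Clifford

/-!
Averaging over the cosets of a normal subgroup, Gallagher's correspondence.
-/

set_option autoImplicit false

namespace Cfsg.Agent.CharTheory.Average

open Cfsg.Agent.Characters
open Cfsg.Agent.CharTheory
open scoped ComplexConjugate

universe u

variable {G : Type u} [Group G] (N : Subgroup G) [Fintype N]

/-- The average of `f` over the coset of `g`. -/
noncomputable def avg (f : G → ℂ) : G → ℂ :=
  fun g => (Nat.card N : ℂ)⁻¹ * ∑ n : N, f ((n : G) * g)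

theorem avg_mul_left (f : G → ℂ) (m : N) (g : G) : avg N f ((m : G) * g) = avg N f g := by
  unfold avg
  congr 1
  exact Fintype.sum_equiv (Equiv.mulRight m) _ _ fun n => by simp [mul_assoc]

theorem avg_one (f : G → ℂ) : avg N f 1 = (Nat.card N : ℂ)⁻¹ * ∑ n : N, f n := by
  simp [avg]

theorem avg_sum_smul {ι : Type*} (s : Finset ι) (c : ι → ℂ) (f : ι → G → ℂ) :
    avg N (∑ i ∈ s, c i • f i) = ∑ i ∈ s, c i • avg N (f i) := by
  funext g
  simp only [avg, Finset.sum_apply, Pi.smul_apply, smul_eq_mul, Finset.mul_sum]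
  rw [Finset.sum_comm]
  exact Finset.sum_congr rfl fun i _ => Finset.sum_congr rfl fun n _ => by ring

variable [Fintype G]

/-- A coset-constant function sees only the average. -/
theorem sum_avg_mul (f h : G → ℂ) (hh : ∀ (n : N) (g : G), h ((n : G) * g) = h g) :
    ∑ g : G, avg N f g * h g = ∑ g : G, f g * h g := by
  have h0 : (Nat.card N : ℂ) ≠ 0 := natCard_ne_zero
  simp only [avg, mul_assoc, ← Finset.mul_sum, Finset.sum_mul]
  rw [Finset.sum_comm, Finset.sum_congr rfl (g := fun _ : N => ∑ g : G, f g * h g) fun n _ =>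
      Fintype.sum_equiv (Equiv.mulLeft (n : G)) _ _ fun g => by simp [hh],
    Finset.sum_const, Finset.card_univ, nsmul_eq_mul, ← Nat.card_eq_fintype_card,
    inv_mul_cancel_left₀ h0]

variable [hN : N.Normal]

omit [Fintype G] in
theorem avg_irr [Finite G] {β : G → ℂ} (hβ : Cfsg.IsIrrCharacter G β) :
    avg N β = β ∨ avg N β = 0 := by
  obtain ⟨d, ρ, hρ, rfl⟩ := hβ
  have h0 : (Nat.card N : ℂ) ≠ 0 := natCard_ne_zero
  set P : (Fin d → ℂ) →ₗ[ℂ] (Fin d → ℂ) := ∑ n : N, ρ (n : G) with hP
  have hcomm : ∀ g v, P (ρ g v) = ρ g (P v) := by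
    intro g v
    simp only [hP, LinearMap.sum_apply, map_sum]
    refine Fintype.sum_equiv (MulAut.conjNormal g⁻¹ : N ≃* N).toEquiv _ _ fun n => ?_
    simp only [← Module.End.mul_apply, ← map_mul]
    congr 2
    simp [mul_assoc]
  obtain ⟨c, hc⟩ := schur_scalar ρ P hcomm
  have havg : avg N ρ.character = ((Nat.card N : ℂ)⁻¹ * c) • ρ.character := by
    funext g
    simp only [avg, Pi.smul_apply, smul_eq_mul, Representation.character, mul_assoc]
    congr 1
    rw [← map_sum]
    have : ∑ n : N, ρ ((n : G) * g) = c • ρ g := by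
      rw [Finset.sum_congr rfl fun (n : N) _ => map_mul ρ (n : G) g, ← Finset.sum_mul, ← hP, hc]
      ext v
      simp [Module.End.mul_apply]
    rw [this, map_smul, smul_eq_mul]
  by_cases hfix : ∀ n : N, ρ (n : G) = 1
  · left
    funext g
    simp only [avg, Representation.character, map_mul, hfix, one_mul, Finset.sum_const,
      Finset.card_univ, nsmul_eq_mul, ← Nat.card_eq_fintype_card]
    rw [inv_mul_cancel_left₀ h0]
  · right
    suffices c = 0 by rw [havg, this, mul_zero, zero_smul]
    push Not at hfix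
    obtain ⟨m, hm⟩ := hfix
    by_contra hc0
    apply hm
    have h1 : ρ (m : G) * P = P := by
      rw [hP, Finset.mul_sum]
      exact Fintype.sum_equiv (Equiv.mulLeft m) _ _ fun n => by simp
    refine LinearMap.ext fun v => ?_
    have h2 := LinearMap.congr_fun h1 v
    rw [hc] at h2
    simp only [Module.End.mul_apply, LinearMap.smul_apply, LinearMap.id_coe, id_eq, map_smul] at h2
    exact smul_right_injective _ hc0 h2

/-- The average of a character over the cosets of a normal subgroup is a character. -/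
theorem isCharacter_avg {Φ : G → ℂ} (hΦ : Cfsg.IsCharacter G Φ) :
    Cfsg.IsCharacter G (avg N Φ) := by
  haveI := Fintype.ofFinite (Cfsg.IrrCharacter G)
  rw [classFun_eq_sum (char_isClassFunction hΦ), avg_sum_smul]
  refine isCharacter_sum _ _ fun β _ => ?_
  obtain ⟨k, hk⟩ := classInner_char_nat hΦ (irr_isCharacter β)
  rw [hk]
  rcases avg_irr N β.2 with h | h <;> rw [h]
  · exact isCharacter_natSmul (irr_isCharacter β) k
  · exact isCharacter_natSmul isCharacter_zero k

/-- The quotient character of `ψ` by `χ` (`χ|N` irreducible). -/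
noncomputable def quotChar (χ ψ : G → ℂ) : G → ℂ := avg N (fun g => ψ g * conj (χ g))

theorem quotChar_apply (χ ψ : G → ℂ) (g : G) : quotChar N χ ψ g =
    (Nat.card N : ℂ)⁻¹ * ∑ n : N, ψ ((n : G) * g) * conj (χ ((n : G) * g)) := rfl

theorem quotChar_mul_left (χ ψ : G → ℂ) (m : N) (g : G) :
    quotChar N χ ψ ((m : G) * g) = quotChar N χ ψ g := avg_mul_left N _ m g

theorem isCharacter_quotChar {χ ψ : G → ℂ} (hχ : Cfsg.IsCharacter G χ)
    (hψ : Cfsg.IsCharacter G ψ) : Cfsg.IsCharacter G (quotChar N χ ψ) :=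
  isCharacter_avg N (isCharacter_mul hψ (Basics.isCharacter_conj hχ))

omit [Fintype G] hN in
theorem quotChar_one (χ ψ : G → ℂ) :
    quotChar N χ ψ 1 = Cfsg.classInner (fun n : N => ψ n) (fun n : N => χ n) := by
  rw [quotChar, avg_one, classInner_def]

theorem classInner_quotChar_self (χ ψ : G → ℂ) :
    Cfsg.classInner ψ (quotChar N χ ψ * χ) =
      Cfsg.classInner (quotChar N χ ψ) (quotChar N χ ψ) := by
  rw [classInner_def, classInner_def]
  congr 1
  rw [quotChar, sum_avg_mul N _ (fun g => conj (avg N (fun g => ψ g * conj (χ g)) g))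
    (fun n g => by simp only [avg_mul_left])]
  exact Finset.sum_congr rfl fun g _ => by simp only [Pi.mul_apply, map_mul]; ring

theorem quotChar_self {χ : G → ℂ} (hχ : Cfsg.IsIrrCharacter G χ)
    (hχN : Cfsg.IsIrrCharacter N (fun n : N => χ n)) : quotChar N χ χ = fun _ => 1 := by
  have h1 : quotChar N χ χ 1 = 1 := by rw [quotChar_one, classInner_isIrr_self hχN]
  have hc := isCharacter_quotChar N (isCharacter_of_isIrr hχ) (isCharacter_of_isIrr hχ)
  by_contra hne
  have h0 := classInner_isIrr_ne (Basics.isIrr_of_degree_one hc h1) isIrrCharacter_one hne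
  rw [classInner_def, quotChar] at h0
  simp only [map_one] at h0
  rw [sum_avg_mul N _ (fun _ => 1) (fun _ _ => rfl)] at h0
  have h2 := classInner_isIrr_self hχ
  rw [classInner_def] at h2
  simp only [mul_one] at h0
  rw [h2] at h0
  exact one_ne_zero h0

/-- Gallagher: a constituent over `χ|N` is the product of `χ` with an irreducible character
constant on cosets. -/
theorem gallagher {χ ψ : G → ℂ} (hχ : Cfsg.IsIrrCharacter G χ)
    (hχN : Cfsg.IsIrrCharacter N (fun n : N => χ n)) (hψ : Cfsg.IsIrrCharacter G ψ)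
    (hcon : Cfsg.classInner (fun n : N => ψ n) (fun n : N => χ n) ≠ 0) :
    Cfsg.IsIrrCharacter G (quotChar N χ ψ) ∧ quotChar N χ ψ * χ = ψ := by
  set η := quotChar N χ ψ with hη
  have hc : Cfsg.IsCharacter G η :=
    isCharacter_quotChar N (isCharacter_of_isIrr hχ) (isCharacter_of_isIrr hψ)
  obtain ⟨m, hm⟩ := classInner_char_nat hc hc
  have hmul : Cfsg.IsCharacter G (η * χ) := isCharacter_mul hc (isCharacter_of_isIrr hχ)
  have hdeg : (η * χ) 1 = ψ 1 := by
    have hres := Clifford.restrict_eq_smul_of_invariant N hψ hχN hcon fun g =>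
      Clifford.conjBy_restrict N (char_isClassFunction (isCharacter_of_isIrr hχ)) g
    have := congrFun hres 1
    simp only [Pi.smul_apply, smul_eq_mul, OneMemClass.coe_one] at this
    rw [Pi.mul_apply, hη, quotChar_one, this]
  have hin : Cfsg.classInner (η * χ) ψ = (m : ℂ) := by
    rw [classInner_conj_symm ψ, hη, classInner_quotChar_self, ← hη, hm, map_natCast]
  have hm0 : m ≠ 0 := by
    rintro rfl
    rw [Nat.cast_zero, classInner_self_eq_zero] at hm
    exact hcon (by rw [← quotChar_one, ← hη, hm, Pi.zero_apply])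
  obtain ⟨a, ha⟩ := char_one_nat hmul
  obtain ⟨b, hb0, hb⟩ := irr_one_pos hψ
  have hab : a = b := by rw [ha, hb] at hdeg; exact_mod_cast hdeg
  have hle := Basics.degree_le hmul hψ hin ha hb
  have hm1 : m = 1 := by
    rw [hab] at hle
    nlinarith [Nat.pos_of_ne_zero hm0]
  subst hm1
  refine ⟨isIrr_of_isCharacter_of_norm_one hc (by rw [hm, Nat.cast_one]), ?_⟩
  have := Basics.eq_of_degree_eq hmul hψ hin (by rw [hdeg, Nat.cast_one, one_mul])
  simpa using this

end Cfsg.Agent.CharTheory.Average
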