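import Mathlib

/-!
Transfer of homomorphisms and a Bezout trick: extending a homomorphism from normal-type data on
subgroups of pairwise "coprime" index.
-/

set_option autoImplicit false

namespace Cfsg.Agent.CharTheory.TransferExt

universe u v

variable {G : Type u} [Group G] {A : Type v} [CommGroup A]

/-- The value of a transfer at an element all of whose relevant conjugate powers have the
expected value. -/
theorem transfer_eq_pow_index {H : Subgroup G} [H.FiniteIndex] (ϕ : H →* A) (x : G) (a : A)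
    (hx : ∀ (g : G) (k : ℕ) (h : g⁻¹ * x ^ k * g ∈ H), ϕ ⟨g⁻¹ * x ^ k * g, h⟩ = a ^ k) :
    MonoidHom.transfer ϕ x = a ^ H.index := by
  classical
  letI := H.fintypeQuotientOfFiniteIndex
  haveI := Fintype.ofFinite (Quotient (MulAction.orbitRel (Subgroup.zpowers x) (G ⧸ H)))
  rw [MonoidHom.transfer_eq_prod_quotient_orbitRel_zpowers_quot,
    Finset.prod_congr rfl fun q _ => hx q.out.out _ _, Finset.prod_pow_eq_pow_sum]
  congr 1
  haveI : ∀ q : Quotient (MulAction.orbitRel (Subgroup.zpowers x) (G ⧸ H)),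
      NeZero (Function.minimalPeriod (x • ·) q.out) := fun q => MulAction.minimalPeriod_pos x q.out
  rw [Subgroup.index_eq_card, Nat.card_congr (Subgroup.quotientEquivSigmaZMod H x), Nat.card_sigma]
  simp [Nat.card_zmod]

/-- If for every prime `p` some exponent `k` not divisible by `p` is achievable, and the achievable
exponents are closed under the group operations, then the exponent `1` is achievable. -/
theorem one_mem_of_forall_prime (S : AddSubgroup ℤ)
    (h : ∀ p : ℕ, p.Prime → ∃ k ∈ S, ¬ (p : ℤ) ∣ k) : (1 : ℤ) ∈ S := by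
  obtain ⟨d, hd⟩ := Int.subgroup_cyclic S
  rw [← AddSubgroup.zmultiples_eq_closure] at hd
  subst hd
  have hu : IsUnit d := by
    by_contra hu
    rw [Int.isUnit_iff_natAbs_eq] at hu
    obtain ⟨p, hp, hpd⟩ := Nat.exists_prime_and_dvd hu
    obtain ⟨k, hk, hpk⟩ := h p hp
    exact hpk ((Int.natCast_dvd.mpr hpd).trans (Int.mem_zmultiples_iff.mp hk))
  exact Int.mem_zmultiples_iff.mpr (isUnit_iff_dvd_one.mp hu)

/-- The exponents `k` such that `f ^ k` extends along `i` to a homomorphism killing `j`. -/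
def exponents {B C : Type*} [Group B] [Group C] (i : B →* G) (j : C →* G) (f : B →* A) :
    AddSubgroup ℤ where
  carrier := {k | ∃ R : G →* A, (∀ b, R (i b) = f b ^ k) ∧ ∀ c, R (j c) = 1}
  zero_mem' := ⟨1, fun b => by simp, fun c => by simp⟩
  add_mem' := by
    rintro k l ⟨R, hR, hR'⟩ ⟨Q, hQ, hQ'⟩
    exact ⟨R * Q, fun b => by simp [hR, hQ, zpow_add], fun c => by simp [hR', hQ']⟩
  neg_mem' := by
    rintro k ⟨R, hR, hR'⟩
    exact ⟨R⁻¹, fun b => by simp [hR], fun c => by simp [hR']⟩

theorem mem_exponents {B C : Type*} [Group B] [Group C] {i : B →* G} {j : C →* G} {f : B →* A}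
    {k : ℤ} : k ∈ exponents i j f ↔
      ∃ R : G →* A, (∀ b, R (i b) = f b ^ k) ∧ ∀ c, R (j c) = 1 := Iff.rfl

end Cfsg.Agent.CharTheory.TransferExt
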