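import Mathlib
import Cfsg.Agent.Lib.Characters.Kernel
import Cfsg.Agent.Lib.CharTheory.Clifford
import Cfsg.Agent.Lib.CharTheory.TransferExt

/-!
Extending an invariant irreducible character of a normal subgroup.

For a representation `ρ` of `N ◁ G` the group `LiftGroup N ρ` consists of the pairs `(g, S)` with
`S` intertwining `ρ` and its conjugate by `g`.  It is a central extension of `G` by the scalars, and
a homomorphism to `ℂˣ` that is the identity on scalars and trivial on the copy of `N` yields an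
extension of `ρ`.
-/

set_option autoImplicit false

namespace Cfsg.Agent.CharTheory.Extension

open Cfsg.Agent.Characters
open Cfsg.Agent.CharTheory

universe u

variable {G : Type u} [Group G] {N : Subgroup G} [hN : N.Normal] {d : ℕ}
  (ρ : Representation ℂ N (Fin d → ℂ))

/-- The units of the endomorphism algebra. -/
abbrev W (d : ℕ) : Type := ((Fin d → ℂ) →ₗ[ℂ] (Fin d → ℂ))ˣ

/-- `ρ` with values in units. -/
noncomputable def rhoU : N →* W d := MonoidHom.toHomUnits ρ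

omit hN in
@[simp] theorem rhoU_coe (n : N) : ((rhoU ρ n : W d) : (Fin d → ℂ) →ₗ[ℂ] (Fin d → ℂ)) = ρ n := rfl

/-- The pairs `(g, S)` with `S * ρ n = ρ (g * n * g⁻¹) * S`. -/
noncomputable def liftGroup : Subgroup (G × W d) where
  carrier := {e | ∀ n : N, e.2 * rhoU ρ n = rhoU ρ (MulAut.conjNormal e.1 n) * e.2}
  one_mem' n := by simp
  mul_mem' {a b} ha hb n := by
    simp only [Set.mem_ofPred_eq] at ha hb ⊢
    rw [Prod.snd_mul, Prod.fst_mul, mul_assoc, hb, ← mul_assoc, ha, mul_assoc, map_mul,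
      MulAut.mul_apply]
  inv_mem' {a} ha n := by
    simp only [Set.mem_ofPred_eq] at ha ⊢
    have h := ha (MulAut.conjNormal a⁻¹.1 n)
    rw [Prod.fst_inv, map_inv, MulAut.apply_inv_self] at h
    rw [Prod.snd_inv, Prod.fst_inv, inv_mul_eq_iff_eq_mul, map_inv, ← mul_assoc, h,
      mul_inv_cancel_right]

/-- The lifting group, as a type. -/
abbrev LiftGroup : Type u := ↥(liftGroup ρ)

theorem mem_liftGroup {e : G × W d} :
    e ∈ liftGroup ρ ↔ ∀ n : N, e.2 * rhoU ρ n = rhoU ρ (MulAut.conjNormal e.1 n) * e.2 := Iff.rfl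

/-- The projection to `G`. -/
noncomputable def proj : LiftGroup ρ →* G := (MonoidHom.fst G (W d)).comp (liftGroup ρ).subtype

/-- The matrix component. -/
noncomputable def mat : LiftGroup ρ →* W d := (MonoidHom.snd G (W d)).comp (liftGroup ρ).subtype

theorem rel (e : LiftGroup ρ) (n : N) :
    mat ρ e * rhoU ρ n = rhoU ρ (MulAut.conjNormal (proj ρ e) n) * mat ρ e := e.2 n

theorem ext_iff' {e e' : LiftGroup ρ} : e = e' ↔ proj ρ e = proj ρ e' ∧ mat ρ e = mat ρ e' :=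
  ⟨fun h => h ▸ ⟨rfl, rfl⟩, fun h => Subtype.ext (Prod.ext h.1 h.2)⟩

/-- Scalars as units. -/
noncomputable def scU (d : ℕ) : ℂˣ →* W d :=
  Units.map (algebraMap ℂ ((Fin d → ℂ) →ₗ[ℂ] (Fin d → ℂ))).toMonoidHom

theorem scU_coe (c : ℂˣ) :
    ((scU d c : W d) : (Fin d → ℂ) →ₗ[ℂ] (Fin d → ℂ)) = (c : ℂ) • LinearMap.id :=
  Algebra.algebraMap_eq_smul_one _

theorem scU_comm (c : ℂˣ) (w : W d) : scU d c * w = w * scU d c :=
  Units.ext (Algebra.commutes _ _)

/-- The scalars inside the lifting group. -/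
noncomputable def sc : ℂˣ →* LiftGroup ρ :=
  ((MonoidHom.inr G (W d)).comp (scU d)).codRestrict (liftGroup ρ) fun c n => by
    simp [scU_comm]

@[simp] theorem proj_sc (c : ℂˣ) : proj ρ (sc ρ c) = 1 := rfl
@[simp] theorem mat_sc (c : ℂˣ) : mat ρ (sc ρ c) = scU d c := rfl

/-- The copy of `N` inside the lifting group. -/
noncomputable def incl : N →* LiftGroup ρ :=
  (N.subtype.prod (rhoU ρ)).codRestrict (liftGroup ρ) fun m n => by
    show rhoU ρ m * rhoU ρ n = rhoU ρ (MulAut.conjNormal (m : G) n) * rhoU ρ m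
    rw [← map_mul, ← map_mul]
    congr 1
    apply Subtype.ext
    simp

@[simp] theorem proj_incl (n : N) : proj ρ (incl ρ n) = (n : G) := rfl
@[simp] theorem mat_incl (n : N) : mat ρ (incl ρ n) = rhoU ρ n := rfl

theorem sc_comm (c : ℂˣ) (e : LiftGroup ρ) : sc ρ c * e = e * sc ρ c :=
  (ext_iff' ρ).mpr ⟨by simp, by simp [scU_comm]⟩

theorem conj_incl (e : LiftGroup ρ) (n : N) :
    e * incl ρ n * e⁻¹ = incl ρ (MulAut.conjNormal (proj ρ e) n) := by
  refine (ext_iff' ρ).mpr ⟨by simp, ?_⟩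
  simp only [map_mul, map_inv, mat_incl]
  rw [rel, mul_inv_cancel_right]

variable [hρ : ρ.IsIrreducible]

theorem exists_scU_of_comm (w : W d) (h : ∀ n : N, w * rhoU ρ n = rhoU ρ n * w) :
    ∃ c : ℂˣ, w = scU d c := by
  obtain ⟨c, hc⟩ := schur_scalar ρ (w : (Fin d → ℂ) →ₗ[ℂ] (Fin d → ℂ)) fun n v =>
    LinearMap.congr_fun (congrArg Units.val (h n)) v
  have hc0 : c ≠ 0 := by
    rintro rfl
    haveI := nontrivial_of_isIrreducible ρ
    have h1 : ((w⁻¹ : W d) : (Fin d → ℂ) →ₗ[ℂ] (Fin d → ℂ)) * (w : (Fin d → ℂ) →ₗ[ℂ] _) = 1 :=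
      Units.inv_mul w
    rw [hc, zero_smul, mul_zero] at h1
    exact zero_ne_one h1
  exact ⟨Units.mk0 c hc0, Units.ext (by rw [scU_coe]; exact hc)⟩

theorem proj_eq_one {e : LiftGroup ρ} (h : proj ρ e = 1) : ∃ c : ℂˣ, e = sc ρ c := by
  obtain ⟨c, hc⟩ := exists_scU_of_comm ρ (mat ρ e) fun n => by
    rw [rel ρ e n, h, map_one, MulAut.one_apply]
  exact ⟨c, (ext_iff' ρ).mpr ⟨by rw [h, proj_sc], by rw [hc, mat_sc]⟩⟩

omit hρ in
/-- An invariant character makes every group element liftable. -/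
theorem proj_surjective [Finite G] (hinv : ∀ g : G, Clifford.conjBy N g ρ.character = ρ.character) :
    Function.Surjective (proj ρ) := by
  intro g
  let σ : Representation ℂ N (Fin d → ℂ) := ρ.comp (MulAut.conjNormal g : N ≃* N).toMonoidHom
  have hchar : ρ.character = σ.character := by
    conv_lhs => rw [← hinv g, Clifford.conjBy_eq_comp]
    rfl
  obtain ⟨φ⟩ := nonempty_equiv_of_character_eq ρ σ hchar
  let w : W d :=
    { val := φ.toLinearEquiv.toLinearMap
      inv := φ.toLinearEquiv.symm.toLinearMap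
      val_inv := LinearMap.ext fun v => φ.toLinearEquiv.apply_symm_apply v
      inv_val := LinearMap.ext fun v => φ.toLinearEquiv.symm_apply_apply v }
  refine ⟨⟨(g, w), fun n => Units.ext (LinearMap.ext fun v => ?_)⟩, rfl⟩
  exact φ.toIntertwiningMap.isIntertwining _ _ n v

/-- A splitting character of the lifting group gives an extension of `ρ`. -/
theorem exists_extension_of_hom (hsurj : Function.Surjective (proj ρ)) (R : LiftGroup ρ →* ℂˣ)
    (hsc : ∀ c, R (sc ρ c) = c) (hincl : ∀ n, R (incl ρ n) = 1) :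
    ∃ τ : Representation ℂ G (Fin d → ℂ), τ.IsIrreducible ∧ ∀ n : N, τ (n : G) = ρ n := by
  let σ : LiftGroup ρ →* W d :=
    { toFun := fun e => scU d (R e)⁻¹ * mat ρ e
      map_one' := by simp
      map_mul' := fun a b => by
        rw [map_mul R, mul_inv, map_mul (scU d), map_mul (mat ρ), mul_assoc (scU d (R a)⁻¹),
          ← mul_assoc (scU d (R b)⁻¹), scU_comm (R b)⁻¹ (mat ρ a), mul_assoc (mat ρ a),
          ← mul_assoc] }
  have hker : (proj ρ).ker ≤ σ.ker := by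
    intro e he
    obtain ⟨c, rfl⟩ := proj_eq_one ρ he
    show scU d (R (sc ρ c))⁻¹ * mat ρ (sc ρ c) = 1
    rw [hsc, mat_sc, ← map_mul, inv_mul_cancel, map_one]
  let f : G →* W d := (proj ρ).liftOfSurjective hsurj ⟨σ, hker⟩
  let τ : Representation ℂ G (Fin d → ℂ) := (Units.coeHom _).comp f
  have hτ : ∀ n : N, τ (n : G) = ρ n := by
    intro n
    have h1 : f (proj ρ (incl ρ n)) = σ (incl ρ n) :=
      MonoidHom.liftOfRightInverse_comp_apply _ _ _ _ _
    rw [proj_incl] at h1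
    show ((f (n : G) : W d) : (Fin d → ℂ) →ₗ[ℂ] _) = ρ n
    rw [h1]
    show ((scU d (R (incl ρ n))⁻¹ * mat ρ (incl ρ n) : W d) : (Fin d → ℂ) →ₗ[ℂ] _) = ρ n
    rw [hincl, inv_one, map_one, one_mul, mat_incl, rhoU_coe]
  refine ⟨τ, (isIrreducible_iff τ).2 ⟨nontrivial_of_isIrreducible ρ, fun U hU => ?_⟩, hτ⟩
  exact ((isIrreducible_iff ρ).1 hρ).2 U fun n v hv => hτ n ▸ hU (n : G) v hv

/-- An extension over an intermediate subgroup gives the exponent "index". -/
theorem index_mem_exponents [Finite G] (hsurj : Function.Surjective (proj ρ)) (H : Subgroup G)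
    (hNH : N ≤ H) {η : H → ℂ} (hη : Cfsg.IsCharacter H η)
    (hext : ∀ n : N, η ⟨(n : G), hNH n.2⟩ = ρ.character n) :
    (H.index : ℤ) ∈ TransferExt.exponents (sc ρ) (incl ρ) (MonoidHom.id ℂˣ) := by
  obtain ⟨m, τ, rfl⟩ := hη
  let τN : Representation ℂ N (Fin m → ℂ) := τ.comp (Subgroup.inclusion hNH)
  obtain ⟨φ⟩ := nonempty_equiv_of_character_eq τN ρ (funext hext)
  let τ' : Representation ℂ H (Fin d → ℂ) := transportRep φ.toLinearEquiv τ
  have hτ' : ∀ n : N, τ' (Subgroup.inclusion hNH n) = ρ n := fun n => LinearMap.ext fun v => by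
    have h1 : φ.toLinearEquiv (τN n (φ.toLinearEquiv.symm v)) =
        ρ n (φ.toLinearEquiv (φ.toLinearEquiv.symm v)) :=
      φ.toIntertwiningMap.isIntertwining _ _ n _
    rw [LinearEquiv.apply_symm_apply] at h1
    exact h1
  let t : H →* W d := MonoidHom.toHomUnits τ'
  have ht : ∀ n : N, t (Subgroup.inclusion hNH n) = rhoU ρ n := fun n => Units.ext (hτ' n)
  let K : Subgroup (LiftGroup ρ) := H.comap (proj ρ)
  have hKidx : K.index = H.index := Subgroup.index_comap_of_surjective H hsurj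
  haveI : K.FiniteIndex := ⟨hKidx ▸ Subgroup.index_ne_zero_of_finite⟩
  have hex : ∀ e : K, ∃ c : ℂˣ, (t ⟨proj ρ e, e.2⟩)⁻¹ * mat ρ (e : LiftGroup ρ) = scU d c := by
    intro e
    refine exists_scU_of_comm ρ _ fun n => ?_
    rw [mul_assoc, rel, ← mul_assoc, ← mul_assoc]
    congr 1
    rw [inv_mul_eq_iff_eq_mul, ← mul_assoc, eq_mul_inv_iff_mul_eq, ← ht, ← ht, ← map_mul,
      ← map_mul]
    congr 1
    apply Subtype.ext
    simp
  choose r hr using hex
  have hscinj : Function.Injective (scU d) := fun a b h => by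
    have h1 := congrArg (fun w : W d => LinearMap.trace ℂ _ (w : (Fin d → ℂ) →ₗ[ℂ] _)) h
    simp only [scU_coe, map_smul, LinearMap.trace_id, smul_eq_mul] at h1
    exact Units.ext (mul_right_cancel₀ (Nat.cast_ne_zero.mpr
      (finrank_pos_of_isIrreducible ρ).ne') h1)
  let rK : K →* ℂˣ := MonoidHom.mk' r fun a b => hscinj <| by
    have hm : ∀ e : K, mat ρ (e : LiftGroup ρ) = t ⟨proj ρ e, e.2⟩ * scU d (r e) := fun e => by
      rw [← hr, mul_inv_cancel_left]
    have ht' : t ⟨proj ρ ((a * b : K) : LiftGroup ρ), (a * b).2⟩ =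
        t ⟨proj ρ a, a.2⟩ * t ⟨proj ρ b, b.2⟩ := by
      rw [← map_mul]
      exact congrArg t (Subtype.ext (map_mul (proj ρ) (a : LiftGroup ρ) (b : LiftGroup ρ)))
    rw [← hr (a * b), ht', map_mul (scU d), Subgroup.coe_mul, map_mul (mat ρ), hm a, hm b,
      inv_mul_eq_iff_eq_mul, mul_assoc (t ⟨proj ρ a, a.2⟩), ← mul_assoc (scU d (r a)),
      scU_comm (r a) (t ⟨proj ρ b, b.2⟩), mul_assoc (t ⟨proj ρ b, b.2⟩), ← mul_assoc]
  refine ⟨MonoidHom.transfer rK, fun c => ?_, fun n => ?_⟩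
  · rw [zpow_natCast, TransferExt.transfer_eq_pow_index rK (sc ρ c) c fun g k h => ?_, hKidx]
    · rfl
    · have heq : g⁻¹ * sc ρ c ^ k * g = sc ρ (c ^ k) := by
        rw [← map_pow, mul_assoc, sc_comm, inv_mul_cancel_left]
      refine hscinj ((hr _).symm.trans ?_)
      have h1 : t ⟨proj ρ (g⁻¹ * sc ρ c ^ k * g), h⟩ = 1 :=
        (congrArg t (show (⟨proj ρ (g⁻¹ * sc ρ c ^ k * g), h⟩ : H) = 1 from
          Subtype.ext (by show proj ρ (g⁻¹ * sc ρ c ^ k * g) = 1; rw [heq, proj_sc]))).trans (map_one t)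
      show (t ⟨proj ρ (g⁻¹ * sc ρ c ^ k * g), h⟩)⁻¹ * mat ρ (g⁻¹ * sc ρ c ^ k * g) = _
      rw [h1, inv_one, one_mul, heq, mat_sc]
  · rw [TransferExt.transfer_eq_pow_index rK (incl ρ n) 1 fun g k h => ?_, one_pow]
    rw [one_pow]
    obtain ⟨m', hm'⟩ : ∃ m' : N, g⁻¹ * incl ρ n ^ k * g = incl ρ m' :=
      ⟨MulAut.conjNormal (proj ρ g⁻¹) (n ^ k), by
        rw [← conj_incl, inv_inv, map_pow]⟩
    refine hscinj ((hr _).symm.trans ?_)
    have h1 : t ⟨proj ρ (g⁻¹ * incl ρ n ^ k * g), h⟩ = rhoU ρ m' :=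
      (congrArg t (show (⟨proj ρ (g⁻¹ * incl ρ n ^ k * g), h⟩ : H) = Subgroup.inclusion hNH m' from
        Subtype.ext (by show proj ρ (g⁻¹ * incl ρ n ^ k * g) = (m' : G); rw [hm', proj_incl]))).trans
          (ht m')
    show (t ⟨proj ρ (g⁻¹ * incl ρ n ^ k * g), h⟩)⁻¹ * mat ρ (g⁻¹ * incl ρ n ^ k * g) = _
    rw [h1, hm', mat_incl, inv_mul_cancel, map_one]

omit hρ in
/-- The determinant gives the exponent "degree", corrected by an extension of `det ρ`. -/
theorem degree_mem_exponents (μ : G →* ℂˣ)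
    (hμ : ∀ n : N, (μ (n : G) : ℂ) = LinearMap.det (ρ n)) :
    (d : ℤ) ∈ TransferExt.exponents (sc ρ) (incl ρ) (MonoidHom.id ℂˣ) := by
  refine ⟨(Units.map (LinearMap.det : ((Fin d → ℂ) →ₗ[ℂ] (Fin d → ℂ)) →* ℂ)).comp (mat ρ) /
    μ.comp (proj ρ), fun c => Units.ext ?_, fun n => ?_⟩
  · simp [scU_coe, LinearMap.det_smul, Module.finrank_fin_fun]
  · rw [MonoidHom.div_apply, div_eq_one]
    exact Units.ext (hμ n).symm

/-- Extension from exponents with gcd one. -/
theorem exists_extension_of_exponents (hsurj : Function.Surjective (proj ρ))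
    (h : ∀ p : ℕ, p.Prime →
      ∃ k ∈ TransferExt.exponents (sc ρ) (incl ρ) (MonoidHom.id ℂˣ), ¬ (p : ℤ) ∣ k) :
    ∃ τ : Representation ℂ G (Fin d → ℂ), τ.IsIrreducible ∧ ∀ n : N, τ (n : G) = ρ n := by
  obtain ⟨R, hR, hR'⟩ := TransferExt.one_mem_of_forall_prime _ h
  exact exists_extension_of_hom ρ hsurj R (fun c => by simpa using hR c) hR'

/-- Invariant irreducible representations extend over cyclic quotients. -/
theorem exists_extension_of_cyclic [Finite G] (hsurj : Function.Surjective (proj ρ))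
    (hcyc : IsCyclic (G ⧸ N)) :
    ∃ τ : Representation ℂ G (Fin d → ℂ), τ.IsIrreducible ∧ ∀ n : N, τ (n : G) = ρ n := by
  obtain ⟨q, hq⟩ := hcyc.exists_generator
  obtain ⟨g, rfl⟩ := QuotientGroup.mk'_surjective N q
  obtain ⟨e, he⟩ := hsurj g
  set m := orderOf (QuotientGroup.mk' N g) with hm
  have hgm : g ^ m ∈ N := by
    rw [← QuotientGroup.eq_one_iff, ← QuotientGroup.mk'_apply, map_pow, hm, pow_orderOf_eq_one]
  obtain ⟨c, hc⟩ := proj_eq_one ρ (e := e ^ m * (incl ρ ⟨g ^ m, hgm⟩)⁻¹) (by simp [he])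
  have hmpos : 0 < m := orderOf_pos _
  obtain ⟨z, hz⟩ := IsAlgClosed.exists_pow_nat_eq ((c : ℂ)⁻¹) hmpos
  have hz0 : z ≠ 0 := by
    rintro rfl
    rw [zero_pow hmpos.ne', eq_comm, inv_eq_zero] at hz
    exact c.ne_zero hz
  set e' := sc ρ (Units.mk0 z hz0) * e with he'
  have hproj' : proj ρ e' = g := by rw [he', map_mul, proj_sc, one_mul, he]
  have hpow : e' ^ m = incl ρ ⟨g ^ m, hgm⟩ := by
    rw [he', (show Commute (sc ρ _) e from sc_comm ρ _ e).mul_pow, ← map_pow,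
      show (Units.mk0 z hz0) ^ m = c⁻¹ from Units.ext (by simp [hz]), map_inv, ← hc]
    group
  have hnorm : ∀ x : LiftGroup ρ, ∀ y ∈ (incl ρ).range, x * y * x⁻¹ ∈ (incl ρ).range := by
    rintro x _ ⟨n, rfl⟩
    exact ⟨_, (conj_incl ρ x n).symm⟩
  haveI hnormal : (incl ρ).range.Normal := ⟨fun y hy x => hnorm x y hy⟩
  set L : Subgroup (LiftGroup ρ) := (incl ρ).range ⊔ Subgroup.zpowers e' with hL
  let π : L →* G := (proj ρ).comp L.subtype
  have hmem : ∀ x ∈ L, ∃ (n : N) (i : ℤ), x = incl ρ n * e' ^ i := by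
    intro x hx
    obtain ⟨y, hy, w, hw, rfl⟩ := Subgroup.mem_sup_of_normal_left.mp hx
    obtain ⟨n, rfl⟩ := hy
    obtain ⟨i, rfl⟩ := hw
    exact ⟨n, i, rfl⟩
  have hinj : Function.Injective π := by
    rw [injective_iff_map_eq_one]
    rintro ⟨x, hx⟩ h1
    obtain ⟨n, i, rfl⟩ := hmem x hx
    have h2 : (n : G) * g ^ i = 1 := by
      simpa [π, hproj'] using h1
    have h3 : (QuotientGroup.mk' N g) ^ i = 1 := by
      rw [← map_zpow, QuotientGroup.mk'_apply, QuotientGroup.eq_one_iff,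
        eq_inv_of_mul_eq_one_right h2]
      exact N.inv_mem n.2
    obtain ⟨j, rfl⟩ := orderOf_dvd_iff_zpow_eq_one.mpr h3
    apply Subtype.ext
    show incl ρ n * e' ^ ((m : ℤ) * j) = 1
    rw [zpow_mul, zpow_natCast, hpow, ← map_zpow, ← map_mul]
    have : n * (⟨g ^ m, hgm⟩ : N) ^ j = 1 := Subtype.ext (by
      rw [zpow_mul, zpow_natCast] at h2
      exact h2)
    rw [this, map_one]
  have hsur : Function.Surjective π := by
    intro x
    obtain ⟨i, hi⟩ := Subgroup.mem_zpowers_iff.mp (hq (QuotientGroup.mk' N x))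
    have hxN : x * (g ^ i)⁻¹ ∈ N := by
      rw [← QuotientGroup.eq_one_iff, ← QuotientGroup.mk'_apply, map_mul, map_inv, map_zpow, hi,
        mul_inv_cancel]
    refine ⟨⟨incl ρ ⟨_, hxN⟩ * e' ^ i,
      Subgroup.mul_mem_sup ⟨_, rfl⟩ (Subgroup.zpow_mem _ (Subgroup.mem_zpowers e') i)⟩, ?_⟩
    simp [π, hproj']
  let f : G →* W d :=
    ((mat ρ).comp L.subtype).comp (MulEquiv.ofBijective π ⟨hinj, hsur⟩).symm.toMonoidHom
  let τ : Representation ℂ G (Fin d → ℂ) := (Units.coeHom _).comp f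
  have hτ : ∀ n : N, τ (n : G) = ρ n := by
    intro n
    have h1 : (MulEquiv.ofBijective π ⟨hinj, hsur⟩).symm (n : G) =
        ⟨incl ρ n, Subgroup.mem_sup_left ⟨n, rfl⟩⟩ := by
      rw [MulEquiv.symm_apply_eq]; rfl
    show ((mat ρ ((MulEquiv.ofBijective π ⟨hinj, hsur⟩).symm (n : G) : L) : W d) :
      (Fin d → ℂ) →ₗ[ℂ] _) = ρ n
    rw [h1]
    rfl
  refine ⟨τ, (isIrreducible_iff τ).2 ⟨nontrivial_of_isIrreducible ρ, fun U hU => ?_⟩, hτ⟩
  exact ((isIrreducible_iff ρ).1 hρ).2 U fun n v hv => hτ n ▸ hU (n : G) v hv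

end Cfsg.Agent.CharTheory.Extension
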