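import Mathlib
import Cfsg.Prelude.Def_CharExt
import Cfsg.Agent.Lib.CharTheory.Extension
import Cfsg.Agent.Lib.CharTheory.Average

/-!
Character forms of the extension theorems, determinant characters, linear characters.
-/

set_option autoImplicit false

namespace Cfsg.Agent.CharTheory.ExtendChar

open Cfsg.Agent.Characters
open Cfsg.Agent.CharTheory

universe u

variable {G : Type u} [Group G]

/-! ## Determinant characters -/

theorem detChar_of_rep [Finite G] {n : ℕ} (ρ : Representation ℂ G (Fin n → ℂ)) (g : G) :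
    Cfsg.detChar ρ.character g = LinearMap.det (ρ g) := by
  classical
  have h : Cfsg.IsCharacter G ρ.character := ⟨n, ρ, rfl⟩
  unfold Cfsg.detChar
  rw [dif_pos h]
  obtain ⟨φ⟩ := nonempty_equiv_of_character_eq (Classical.choose (Classical.choose_spec h)) ρ
    (Classical.choose_spec (Classical.choose_spec h))
  have hcomp : φ.toLinearEquiv.toLinearMap ∘ₗ
      (Classical.choose (Classical.choose_spec h)) g ∘ₗ φ.toLinearEquiv.symm.toLinearMap = ρ g := by
    refine LinearMap.ext fun v => ?_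
    exact (φ.toIntertwiningMap.isIntertwining _ _ g _).trans
      (congrArg (ρ g) (φ.toLinearEquiv.apply_symm_apply v))
  rw [← hcomp, LinearMap.det_conj]

theorem detChar_isLinear [Finite G] {χ : G → ℂ} (h : Cfsg.IsCharacter G χ) :
    Cfsg.IsCharacter G (Cfsg.detChar χ) ∧ Cfsg.detChar χ 1 = 1 := by
  obtain ⟨n, ρ, rfl⟩ := h
  have he : Cfsg.detChar ρ.character =
      ⇑((LinearMap.det : ((Fin n → ℂ) →ₗ[ℂ] (Fin n → ℂ)) →* ℂ).comp ρ) :=
    funext fun g => detChar_of_rep ρ g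
  exact ⟨he ▸ isCharacter_of_isIrr (isIrrCharacter_monoidHom _), by rw [he, map_one]⟩

theorem detChar_comp [Finite G] {H : Type u} [Group H] [Finite H] (f : H →* G) {χ : G → ℂ}
    (h : Cfsg.IsCharacter G χ) : Cfsg.detChar (χ ∘ f) = Cfsg.detChar χ ∘ f := by
  obtain ⟨n, ρ, rfl⟩ := h
  funext x
  rw [Function.comp, detChar_of_rep]
  exact detChar_of_rep (ρ.comp f : Representation ℂ H (Fin n → ℂ)) x

theorem detChar_restrict [Finite G] (H : Subgroup G) {χ : G → ℂ} (h : Cfsg.IsCharacter G χ)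
    {θ : H → ℂ} (hext : ∀ x : H, χ x = θ x) (x : H) :
    Cfsg.detChar χ (x : G) = Cfsg.detChar θ x := by
  rw [show θ = χ ∘ H.subtype from funext fun y => (hext y).symm, detChar_comp _ h]
  rfl

/-- The determinant of the product with a linear character. -/
theorem detChar_mul_linear [Finite G] {χ lam : G → ℂ} (hχ : Cfsg.IsCharacter G χ)
    (hl : Cfsg.IsCharacter G lam) (hl1 : lam 1 = 1) {d : ℕ} (hd : χ 1 = (d : ℂ)) (g : G) :
    Cfsg.detChar (lam * χ) g = lam g ^ d * Cfsg.detChar χ g := by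
  obtain ⟨n, ρ, rfl⟩ := hχ
  have hdn : d = n := by
    rw [ρ.char_one, Module.finrank_fin_fun] at hd
    exact_mod_cast hd.symm
  subst hdn
  let τ : Representation ℂ G (Fin d → ℂ) :=
    { toFun := fun x => lam x • ρ x
      map_one' := by rw [hl1, map_one, one_smul]
      map_mul' := fun x y => by
        rw [char_mul_of_degree_one hl hl1, map_mul, smul_mul_assoc, mul_smul_comm, smul_smul] }
  have hτ : τ.character = lam * ρ.character := funext fun x => by
    show LinearMap.trace ℂ _ (lam x • ρ x) = _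
    rw [map_smul, smul_eq_mul]
    rfl
  rw [← hτ, detChar_of_rep, detChar_of_rep]
  show LinearMap.det (lam g • ρ g) = _
  rw [LinearMap.det_smul, Module.finrank_fin_fun]

/-! ## Linear characters as homomorphisms -/

theorem exists_hom {lam : G → ℂ} [Finite G] (h : Cfsg.IsCharacter G lam) (h1 : lam 1 = 1) :
    ∃ f : G →* ℂˣ, ∀ g, (f g : ℂ) = lam g :=
  ⟨linearOfDegreeOne h h1, fun _ => rfl⟩

theorem hom_isLinear (f : G →* ℂˣ) :
    Cfsg.IsCharacter G (fun g => (f g : ℂ)) ∧ (fun g => (f g : ℂ)) 1 = 1 :=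
  ⟨isCharacter_linear f, by simp⟩

theorem linear_pow_orderOf {S : Type*} (lam : S → ℂ) (x : S) : lam x ^ orderOf lam = 1 := by
  rw [← Pi.pow_apply, pow_orderOf_eq_one, Pi.one_apply]

theorem isOfFinOrder_linear [Finite G] (f : G →* ℂˣ) :
    IsOfFinOrder (fun g => (f g : ℂ)) :=
  isOfFinOrder_iff_pow_eq_one.mpr ⟨Nat.card G, Nat.card_pos, funext fun g => by
    rw [Pi.pow_apply, ← Units.val_pow_eq_pow_val, ← map_pow, pow_card_eq_one', map_one,
      Units.val_one, Pi.one_apply]⟩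

/-- Roots of unity of coprime orders are determined by a power. -/
theorem eq_one_of_pow_coprime {M : Type*} [Monoid M] {a : M} {m n : ℕ} (hm : a ^ m = 1)
    (hn : a ^ n = 1) (h : Nat.Coprime m n) : a = 1 := by
  have h1 := Nat.dvd_gcd (orderOf_dvd_of_pow_eq_one hm) (orderOf_dvd_of_pow_eq_one hn)
  rw [Nat.Coprime.gcd_eq_one h, Nat.dvd_one] at h1
  exact orderOf_eq_one_iff.mp h1

/-- An inverse of `m` modulo `n`. -/
theorem exists_pow_inverse {m n : ℕ} (h : Nat.Coprime m n) :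
    ∃ k : ℕ, ∀ {M : Type} [Monoid M] (a : M), a ^ n = 1 → (a ^ m) ^ k = a := by
  rcases Nat.eq_zero_or_pos n with rfl | hn
  · have : m = 1 := Nat.coprime_zero_right m |>.mp h
    subst this
    exact ⟨1, fun a _ => by simp⟩
  rcases eq_or_ne n 1 with rfl | hn1
  · exact ⟨1, fun a ha => by rw [pow_one] at ha; simp [ha]⟩
  obtain ⟨k, -, hk⟩ := Nat.exists_mul_mod_eq_gcd (k := n) (n := m)
    (by rw [h.gcd_eq_one]; omega)
  refine ⟨k, fun {M} _ a ha => ?_⟩
  rw [← pow_mul, pow_eq_pow_mod _ ha, hk, h.gcd_eq_one, pow_one]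

/-! ## Invariant linear characters -/

/-- The transfer of an invariant linear character restricts to its index-th power. -/
theorem transfer_linear [Finite G] (N : Subgroup G) [hN : N.Normal] (f : N →* ℂˣ)
    (hinv : ∀ (g : G) (n : N), f ⟨g * n * g⁻¹, hN.conj_mem (n : G) n.2 g⟩ = f n) (H : Subgroup G)
    (hNH : N ≤ H) (ν : H →* ℂˣ) (hν : ∀ n : N, ν ⟨(n : G), hNH n.2⟩ = f n) (n : N) :
    MonoidHom.transfer ν (n : G) = f n ^ H.index := by
  refine TransferExt.transfer_eq_pow_index ν (n : G) (f n) fun g k h => ?_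
  have hmem : g⁻¹ * (n : G) ^ k * g ∈ N := by
    simpa using hN.conj_mem _ (N.pow_mem n.2 k) g⁻¹
  rw [show (⟨g⁻¹ * (n : G) ^ k * g, h⟩ : H) = ⟨((⟨_, hmem⟩ : N) : G), hNH hmem⟩ from rfl, hν,
    ← map_pow f n k, ← hinv g⁻¹ (n ^ k)]
  exact congrArg f (Subtype.ext (by simp))

/-- An invariant linear character of order prime to the index has a unique extension of the same
order. -/
theorem exists_linear_extension_coprime [Finite G] (N : Subgroup G) [hN : N.Normal] {lam : N → ℂ}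
    (hlam : Cfsg.IsCharacter N lam ∧ lam 1 = 1)
    (hinv : ∀ (g : G) (n : N), lam ⟨g * n * g⁻¹, hN.conj_mem (n : G) n.2 g⟩ = lam n)
    (hcop : Nat.Coprime N.index (orderOf lam)) :
    ∃ μ : G →* ℂˣ, (∀ n : N, (μ (n : G) : ℂ) = lam n) ∧
      orderOf (fun g => (μ g : ℂ)) = orderOf lam := by
  classical
  obtain ⟨f, hf⟩ := exists_hom hlam.1 hlam.2
  obtain ⟨k, hk⟩ := exists_pow_inverse hcop
  have hpow : ∀ n : N, f n ^ orderOf lam = 1 := fun n => Units.ext (by
    rw [Units.val_pow_eq_pow_val, hf, linear_pow_orderOf, Units.val_one])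
  set μ : G →* ℂˣ := MonoidHom.transfer f ^ k with hμ
  have hres : ∀ n : N, (μ (n : G) : ℂ) = lam n := by
    intro n
    rw [hμ, MonoidHom.pow_apply, transfer_linear N f
      (fun g m => Units.ext (by rw [hf, hf]; exact hinv g m)) N le_rfl f (fun m => rfl) n,
      hk (f n) (hpow n), hf]
  refine ⟨μ, hres, Nat.dvd_antisymm ?_ ?_⟩
  · refine orderOf_dvd_of_pow_eq_one (funext fun g => ?_)
    haveI := Fintype.ofFinite (Quotient (MulAction.orbitRel (Subgroup.zpowers g) (G ⧸ N)))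
    rw [Pi.pow_apply, Pi.one_apply, ← Units.val_pow_eq_pow_val, hμ, MonoidHom.pow_apply,
      pow_right_comm, MonoidHom.transfer_eq_prod_quotient_orbitRel_zpowers_quot, ← Finset.prod_pow,
      Finset.prod_congr rfl fun q _ => hpow _, Finset.prod_const_one, one_pow, Units.val_one]
  · refine orderOf_dvd_of_pow_eq_one (funext fun n => ?_)
    rw [Pi.pow_apply, Pi.one_apply, ← hres n,
      linear_pow_orderOf (fun g => (μ g : ℂ)) (n : G)]

/-- Uniqueness of the extension of coprime order. -/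
theorem linear_extension_unique [Finite G] (N : Subgroup G) [N.Normal] {μ μ' : G → ℂ}
    (hμ : Cfsg.IsCharacter G μ) (hμ1 : μ 1 = 1) (hμ' : Cfsg.IsCharacter G μ') (hμ'1 : μ' 1 = 1)
    (heq : ∀ n : N, μ' n = μ n) (hcop : Nat.Coprime N.index (orderOf μ))
    (hcop' : Nat.Coprime N.index (orderOf μ')) : μ' = μ := by
  obtain ⟨f, hf⟩ := exists_hom hμ hμ1
  obtain ⟨f', hf'⟩ := exists_hom hμ' hμ'1
  funext g
  rw [← hf, ← hf']
  congr 1
  rw [← div_eq_one]
  refine eq_one_of_pow_coprime ?_ ?_ (hcop'.mul_right hcop)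
  · rw [div_pow, ← map_pow, ← map_pow, div_eq_one]
    exact Units.ext (by rw [hf, hf']; exact heq ⟨_, Subgroup.pow_index_mem N g⟩)
  · rw [div_pow, div_eq_one]
    refine Units.ext ?_
    rw [Units.val_pow_eq_pow_val, Units.val_pow_eq_pow_val, hf, hf', pow_mul, linear_pow_orderOf,
      mul_comm, pow_mul, linear_pow_orderOf, one_pow, one_pow]

/-- An invariant linear character extending to subgroups of index prime to each prime divisor of
its order extends. -/
theorem exists_linear_extension_sylow [Finite G] (N : Subgroup G) [hN : N.Normal] {lam : N → ℂ}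
    (hlam : Cfsg.IsCharacter N lam ∧ lam 1 = 1)
    (hinv : ∀ (g : G) (n : N), lam ⟨g * n * g⁻¹, hN.conj_mem (n : G) n.2 g⟩ = lam n)
    (hsyl : ∀ p : ℕ, p.Prime → p ∣ orderOf lam → ∃ (H : Subgroup G) (hNH : N ≤ H) (ν : H → ℂ),
      Nat.Coprime H.index p ∧ Cfsg.IsCharacter H ν ∧ ν 1 = 1 ∧
        ∀ n : N, ν ⟨(n : G), hNH n.2⟩ = lam n) :
    ∃ μ : G →* ℂˣ, ∀ n : N, (μ (n : G) : ℂ) = lam n := by
  obtain ⟨f, hf⟩ := exists_hom hlam.1 hlam.2
  have h1 : (1 : ℤ) ∈ TransferExt.exponents N.subtype (1 : N →* G) f := by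
    refine TransferExt.one_mem_of_forall_prime _ fun p hp => ?_
    by_cases hpo : p ∣ orderOf lam
    · obtain ⟨H, hNH, ν, hidx, hν, hν1, hext⟩ := hsyl p hp hpo
      obtain ⟨g, hg⟩ := exists_hom hν hν1
      refine ⟨(H.index : ℤ), ⟨MonoidHom.transfer g, fun n => ?_, fun n => ?_⟩, ?_⟩
      · rw [zpow_natCast]
        exact transfer_linear N f (fun x m => Units.ext (by rw [hf, hf]; exact hinv x m)) H hNH g
          (fun m => Units.ext (by rw [hf, hg]; exact hext m)) n
      · simp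
      · rw [Int.natCast_dvd_natCast]
        exact (Nat.Prime.coprime_iff_not_dvd hp).mp hidx.symm
    · refine ⟨(orderOf lam : ℤ), ⟨1, fun n => ?_, fun n => ?_⟩, by rwa [Int.natCast_dvd_natCast]⟩
      · rw [MonoidHom.one_apply, zpow_natCast]
        exact Units.ext (by rw [Units.val_pow_eq_pow_val, hf, linear_pow_orderOf, Units.val_one])
      · simp
  obtain ⟨μ, hμ, -⟩ := h1
  exact ⟨μ, fun n => by rw [show μ (n : G) = f n by simpa using hμ n, hf]⟩

/-! ## Extending irreducible characters -/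

variable (N : Subgroup G) [hN : N.Normal] {θ : N → ℂ}

theorem exists_rep (hθ : Cfsg.IsIrrCharacter N θ) :
    ∃ (d : ℕ) (ρ : Representation ℂ N (Fin d → ℂ)), ρ.IsIrreducible ∧ ρ.character = θ := hθ

variable [Finite G]

omit hN in
theorem isIrr_of_rep_extension {d : ℕ} (ρ : Representation ℂ N (Fin d → ℂ))
    (τ : Representation ℂ G (Fin d → ℂ)) (hτ : τ.IsIrreducible) (h : ∀ n : N, τ (n : G) = ρ n) :
    ∃ χ : G → ℂ, Cfsg.IsIrrCharacter G χ ∧ ∀ n : N, χ n = ρ.character n :=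
  ⟨τ.character, ⟨d, τ, hτ, rfl⟩, fun n => by simp [Representation.character, h n]⟩

theorem exists_extension_cyclic (hcyc : IsCyclic (G ⧸ N)) (hθ : Cfsg.IsIrrCharacter N θ)
    (hinv : ∀ g : G, Clifford.conjBy N g θ = θ) :
    ∃ χ : G → ℂ, Cfsg.IsIrrCharacter G χ ∧ ∀ n : N, χ n = θ n := by
  obtain ⟨d, ρ, hρ, rfl⟩ := hθ
  obtain ⟨τ, hτ, h⟩ := Extension.exists_extension_of_cyclic ρ
    (Extension.proj_surjective ρ hinv) hcyc
  exact isIrr_of_rep_extension N ρ τ hτ h

theorem exists_extension_sylow (hθ : Cfsg.IsIrrCharacter N θ)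
    (hinv : ∀ g : G, Clifford.conjBy N g θ = θ)
    (hsyl : ∀ p : ℕ, p.Prime → ∃ (P : Subgroup G) (hNP : N ≤ P) (η : P → ℂ),
      Nat.Coprime P.index p ∧ Cfsg.IsCharacter P η ∧ ∀ n : N, η ⟨(n : G), hNP n.2⟩ = θ n) :
    ∃ χ : G → ℂ, Cfsg.IsIrrCharacter G χ ∧ ∀ n : N, χ n = θ n := by
  obtain ⟨d, ρ, hρ, rfl⟩ := hθ
  have hs := Extension.proj_surjective ρ hinv
  obtain ⟨τ, hτ, h⟩ := Extension.exists_extension_of_exponents ρ hs fun p hp => by
    obtain ⟨P, hNP, η, hidx, hη, hext⟩ := hsyl p hp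
    refine ⟨_, Extension.index_mem_exponents ρ hs P hNP hη hext, ?_⟩
    rw [Int.natCast_dvd_natCast]
    exact (Nat.Prime.coprime_iff_not_dvd hp).mp hidx.symm
  exact isIrr_of_rep_extension N ρ τ hτ h

theorem exists_extension_det (hθ : Cfsg.IsIrrCharacter N θ)
    (hinv : ∀ g : G, Clifford.conjBy N g θ = θ) {d : ℕ} (hd : θ 1 = (d : ℂ))
    (hcop : Nat.Coprime N.index d) (μ : G →* ℂˣ)
    (hμ : ∀ n : N, (μ (n : G) : ℂ) = Cfsg.detChar θ n) :
    ∃ χ : G → ℂ, Cfsg.IsIrrCharacter G χ ∧ ∀ n : N, χ n = θ n := by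
  obtain ⟨d', ρ, hρ, rfl⟩ := hθ
  have hdd : d = d' := by
    rw [ρ.char_one, Module.finrank_fin_fun] at hd
    exact_mod_cast hd.symm
  subst hdd
  have hs := Extension.proj_surjective ρ hinv
  have hdet := Extension.degree_mem_exponents ρ μ fun n => (hμ n).trans (detChar_of_rep ρ n)
  obtain ⟨τ, hτ, h⟩ := Extension.exists_extension_of_exponents ρ hs fun p hp => by
    by_cases hpd : p ∣ d
    · refine ⟨_, Extension.index_mem_exponents ρ hs N le_rfl ⟨d, ρ, rfl⟩ (fun n => rfl), ?_⟩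
      rw [Int.natCast_dvd_natCast]
      exact fun hpi => hp.one_lt.ne' (Nat.eq_one_of_dvd_coprimes hcop hpi hpd)
    · exact ⟨_, hdet, by rwa [Int.natCast_dvd_natCast]⟩
  exact isIrr_of_rep_extension N ρ τ hτ h

/-- Any two extensions differ by a linear character trivial on `N`. -/
theorem extension_eq_linear_mul [Fintype G] [Fintype N] {χ χ' : G → ℂ}
    (hθ : Cfsg.IsIrrCharacter N θ)
    (hχ : Cfsg.IsIrrCharacter G χ) (hχN : ∀ n : N, χ n = θ n)
    (hχ' : Cfsg.IsIrrCharacter G χ') (hχ'N : ∀ n : N, χ' n = θ n) :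
    ∃ lam : G → ℂ, Cfsg.IsCharacter G lam ∧ lam 1 = 1 ∧ (∀ n : N, lam n = 1) ∧
      lam * χ = χ' := by
  have hres : (fun n : N => χ n) = θ := funext hχN
  have hres' : (fun n : N => χ' n) = θ := funext hχ'N
  have h1 : Average.quotChar N χ χ' 1 = 1 := by
    rw [Average.quotChar_one, hres, hres', classInner_isIrr_self hθ]
  have hg := Average.gallagher N hχ (hres ▸ hθ) hχ'
    (by rw [hres, hres', classInner_isIrr_self hθ]; exact one_ne_zero)
  exact ⟨_, isCharacter_of_isIrr hg.1, h1, fun n => by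
    simpa [h1] using Average.quotChar_mul_left N χ χ' n 1, hg.2⟩

/-- Extensions are parametrised by their determinants when the degree is prime to the index. -/
theorem existsUnique_extension_det (hθ : Cfsg.IsIrrCharacter N θ) {d : ℕ} (hd : θ 1 = (d : ℂ))
    (hcop : Nat.Coprime N.index d) {η : G → ℂ} (hη : Cfsg.IsIrrCharacter G η)
    (hηN : ∀ n : N, η n = θ n) {μ : G → ℂ} (hμ : Cfsg.IsCharacter G μ) (hμ1 : μ 1 = 1)
    (hμN : ∀ n : N, μ n = Cfsg.detChar θ n) :
    ∃! χ : G → ℂ, Cfsg.IsIrrCharacter G χ ∧ (∀ n : N, χ n = θ n) ∧ Cfsg.detChar χ = μ := by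
  classical
  haveI := Fintype.ofFinite G
  haveI := Fintype.ofFinite N
  have hηc := isCharacter_of_isIrr hη
  have hη1 : η 1 = (d : ℂ) := by
    rw [← hd, ← hηN 1]; rfl
  obtain ⟨m, hm⟩ := exists_hom hμ hμ1
  obtain ⟨δ, hδ⟩ := exists_hom (detChar_isLinear hηc).1 (detChar_isLinear hηc).2
  obtain ⟨k, hk⟩ := exists_pow_inverse hcop.symm
  have hquot : ∀ g : G, (m g / δ g) ^ N.index = 1 := by
    intro g
    rw [div_pow, ← map_pow, ← map_pow, div_eq_one]
    exact Units.ext (by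
      rw [hm, hδ, hμN ⟨_, Subgroup.pow_index_mem N g⟩]
      exact (detChar_restrict N hηc hηN ⟨_, Subgroup.pow_index_mem N g⟩).symm)
  have hlam : ∀ g : G, ((m g / δ g) ^ k) ^ d = m g / δ g := by
    intro g
    rw [← pow_mul, mul_comm, pow_mul]
    exact hk _ (hquot g)
  obtain ⟨hL, hL1⟩ := hom_isLinear ((m / δ) ^ k)
  have hLN : ∀ n : N, (((m / δ) ^ k) (n : G) : ℂ) = 1 := by
    intro n
    rw [MonoidHom.pow_apply, MonoidHom.div_apply, show m (n : G) / δ (n : G) = 1 from ?_, one_pow,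
      Units.val_one]
    rw [div_eq_one]
    exact Units.ext (by rw [hm, hδ, hμN, detChar_restrict N hηc hηN])
  set χ₀ : G → ℂ := (fun g => (((m / δ) ^ k) g : ℂ)) * η with hχ₀
  have hdet : Cfsg.detChar χ₀ = μ := by
    funext g
    rw [hχ₀, detChar_mul_linear hηc hL hL1 hη1, ← hδ, ← hm, ← Units.val_pow_eq_pow_val,
      ← Units.val_mul, MonoidHom.pow_apply, MonoidHom.div_apply, hlam, div_mul_cancel]
  have hirr : Cfsg.IsIrrCharacter G χ₀ := by
    rw [hχ₀, mul_comm]
    exact Basics.isIrr_mul_linear hη hL hL1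
  have hext : ∀ n : N, χ₀ n = θ n := fun n => by
    rw [hχ₀, Pi.mul_apply, hLN, one_mul, hηN]
  refine ⟨χ₀, ⟨hirr, hext, hdet⟩, ?_⟩
  rintro χ ⟨hχ, hχN, hχdet⟩
  obtain ⟨lam, hl, hl1, hlN, hmul⟩ := extension_eq_linear_mul N hθ hirr hext hχ hχN
  rw [← hmul]
  funext g
  suffices lam g = 1 by rw [Pi.mul_apply, this, one_mul]
  obtain ⟨f, hf⟩ := exists_hom hl hl1
  have hdeg : χ₀ 1 = (d : ℂ) := by rw [← hd, ← hext 1]; rfl
  have h2 : lam g ^ d * Cfsg.detChar χ₀ g = Cfsg.detChar χ g := by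
    rw [← detChar_mul_linear (isCharacter_of_isIrr hirr) hl hl1 hdeg, hmul]
  rw [hdet, hχdet] at h2
  have hμne : μ g ≠ 0 := by rw [← hm]; exact Units.ne_zero _
  refine eq_one_of_pow_coprime (mul_right_cancel₀ hμne (h2.trans (one_mul _).symm)) ?_ hcop.symm
  rw [← hf, ← Units.val_pow_eq_pow_val, ← map_pow, hf]
  exact hlN ⟨_, Subgroup.pow_index_mem N g⟩

end Cfsg.Agent.CharTheory.ExtendChar
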