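import Mathlib
import Cfsg.Agent.Lib.Characters.Kernel
import Cfsg.Agent.Lib.Characters.Integrality
import Cfsg.Agent.Lib.CharTheory.Average
import Cfsg.Agent.Lib.CharTheory.Extension
import Cfsg.Agent.Lib.CharTheory.ExtendChar

/-!
Degrees divide indices: the central (Schur) version and the ramification index of an invariant
character.
-/

set_option autoImplicit false

namespace Cfsg.Agent.CharTheory.DegreeIndex

open Cfsg.Agent.Characters
open Cfsg.Agent.CharTheory
open scoped ComplexConjugate

universe u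

variable {G : Type u} [Group G] [Finite G]

/-- If the central subgroup `Z` acts faithfully by scalars in the irreducible character `χ`, the
degree divides `|G : Z|`. -/
theorem degree_dvd_index_central {χ : G → ℂ} (hχ : Cfsg.IsIrrCharacter G χ) (Z : Subgroup G)
    [Z.Normal] (hcen : Z ≤ Subgroup.center G) (lam : Z → ℂ)
    (hact : ∀ (z : Z) (g : G), χ ((z : G) * g) = lam z * χ g)
    (hfaith : ∀ z : Z, lam z = 1 → z = 1) {d : ℕ} (hd : χ 1 = (d : ℂ)) : d ∣ Z.index := by
  classical
  haveI := Fintype.ofFinite G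
  haveI := Fintype.ofFinite Z
  haveI := Fintype.ofFinite (ConjClasses (G ⧸ Z))
  have hχ1 : χ 1 ≠ 0 := irr_one_ne_zero hχ
  have hcl := char_isClassFunction (isCharacter_of_isIrr hχ)
  have hnormsq : ∀ (z : Z) (g : G),
      χ ((z : G) * g) * conj (χ ((z : G) * g)) = χ g * conj (χ g) := by
    intro z g
    have hnorm : lam z * conj (lam z) = 1 := by
      obtain ⟨k, hkpos, hk⟩ := isOfFinOrder_iff_pow_eq_one.mp (isOfFinOrder_of_finite z)
      have hpow : ∀ j : ℕ, χ ((z : G) ^ j) = lam z ^ j * χ 1 := by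
        intro j
        induction j with
        | zero => simp
        | succ j ih => rw [pow_succ', hact, ih]; ring
      have h1 : lam z ^ k = 1 := by
        have h2 := hpow k
        rw [← Subgroup.coe_pow, hk, OneMemClass.coe_one] at h2
        exact (mul_eq_right₀ hχ1).mp h2.symm
      rw [Complex.mul_conj', Complex.norm_eq_one_of_pow_eq_one h1 hkpos.ne']
      simp
    rw [hact, map_mul]
    linear_combination (χ g * conj (χ g)) * hnorm
  let q : G → ConjClasses (G ⧸ Z) := fun g => ConjClasses.mk (QuotientGroup.mk' Z g)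
  have hfib : ∀ C : ConjClasses (G ⧸ Z), ∃ x : ℂ, IsIntegral ℤ x ∧
      ∑ g ∈ Finset.univ.filter (fun g => q g = C), χ g * conj (χ g) =
        (Nat.card Z : ℂ) * χ 1 * x := by
    intro C
    obtain ⟨cb, rfl⟩ := ConjClasses.mk_surjective C
    obtain ⟨x, rfl⟩ := QuotientGroup.mk'_surjective Z cb
    -- the fibre is `Z` times the class of `x`
    have hmem : ∀ g : G, q g = ConjClasses.mk (QuotientGroup.mk' Z x) ↔
        ∃ (z : Z) (y : G), y ∈ (ConjClasses.mk x).carrier ∧ (z : G) * y = g := by
      intro g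
      simp only [q, ConjClasses.mk_eq_mk_iff_isConj, ConjClasses.mem_carrier_iff_mk_eq]
      constructor
      · intro h
        obtain ⟨hb, hhb⟩ := isConj_iff.mp h
        obtain ⟨h', rfl⟩ := QuotientGroup.mk'_surjective Z hb
        rw [← map_inv, ← map_mul, ← map_mul] at hhb
        obtain ⟨z, hz, hzx⟩ := (QuotientGroup.mk'_eq_mk' Z).mp hhb
        refine ⟨⟨z⁻¹, Z.inv_mem hz⟩, h'⁻¹ * x * h', isConj_iff.mpr ⟨h', by simp [mul_assoc]⟩, ?_⟩
        have hzc := Subgroup.mem_center_iff.mp (hcen hz)
        show z⁻¹ * (h'⁻¹ * x * h') = g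
        rw [inv_mul_eq_iff_eq_mul, ← hzc g, ← hzx]
        simp only [mul_assoc]
        rw [← hzc h']
        simp [mul_assoc]
      · rintro ⟨z, y, hy, rfl⟩
        rw [map_mul, show QuotientGroup.mk' Z (z : G) = 1 from (QuotientGroup.eq_one_iff _).mpr z.2,
          one_mul]
        exact (QuotientGroup.mk' Z).map_isConj hy
    have hval : ∀ y ∈ (ConjClasses.mk x).carrier, χ y = χ x := by
      intro y hy
      rw [ConjClasses.mem_carrier_iff_mk_eq, ConjClasses.mk_eq_mk_iff_isConj] at hy
      obtain ⟨c, hc⟩ := isConj_iff.mp hy.symm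
      rw [← hc, hcl]
    by_cases hx0 : χ x = 0
    · refine ⟨0, isIntegral_zero, ?_⟩
      rw [mul_zero, Finset.sum_eq_zero]
      intro g hg
      obtain ⟨z, y, hy, rfl⟩ := (hmem g).mp (Finset.mem_filter.mp hg).2
      rw [hnormsq, hval y hy, hx0, zero_mul]
    · obtain ⟨n, ρ, hρ, hρχ⟩ := hχ
      refine ⟨((Subgroup.centralizer ({x} : Set G)).index : ℂ) * χ x / χ 1 * conj (χ x), ?_, ?_⟩
      · refine IsIntegral.mul ?_ (isIntegral_conj (char_value_isIntegral ⟨n, ρ, hρχ⟩ x))
        rw [← hρχ, ρ.char_one]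
        exact class_central_char_isIntegral ρ x
      · let F : Z × (ConjClasses.mk x).carrier → G := fun p => (p.1 : G) * (p.2 : G)
        have hFinj : Function.Injective F := by
          rintro ⟨z, y, hy⟩ ⟨z', y', hy'⟩ h
          simp only [F] at h
          have h' : ((z'⁻¹ * z : Z) : G) * y = y' := by
            rw [Subgroup.coe_mul, Subgroup.coe_inv, mul_assoc, h, inv_mul_cancel_left]
          have h1 : lam (z'⁻¹ * z) * χ x = χ x := by
            rw [← hval y hy, ← hact, h', hval y' hy', hval y hy]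
          have hz : z = z' :=
            (inv_mul_eq_one.mp (hfaith _ ((mul_eq_right₀ hx0).mp h1))).symm
          subst hz
          exact Prod.ext rfl (Subtype.ext (mul_left_cancel h))
        have himg : Finset.univ.filter (fun g => q g = ConjClasses.mk (QuotientGroup.mk' Z x)) =
            (Finset.univ : Finset (Z × (ConjClasses.mk x).carrier)).image F := by
          ext g
          simp only [Finset.mem_filter, Finset.mem_univ, true_and, Finset.mem_image, hmem]
          exact ⟨fun ⟨z, y, hy, e⟩ => ⟨(z, ⟨y, hy⟩), e⟩,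
            fun ⟨p, e⟩ => ⟨p.1, p.2.1, p.2.2, e⟩⟩
        rw [himg, Finset.sum_image fun _ _ _ _ h => hFinj h,
          Finset.sum_congr rfl (g := fun _ => χ x * conj (χ x))
            (fun p _ => by simp only [F]; rw [hnormsq, hval _ p.2.2]),
          Finset.sum_const, Finset.card_univ, Fintype.card_prod, nsmul_eq_mul, Nat.cast_mul,
          ← Nat.card_eq_fintype_card, ← Nat.card_eq_fintype_card, classCard_eq_index]
        field_simp
  choose x hxint hxsum using hfib
  have hd0 : d ≠ 0 := by rintro rfl; exact hχ1 (by rw [hd, Nat.cast_zero])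
  refine dvd_of_isIntegral_div hd0 ?_
  have hkey : (Nat.card Z : ℂ) * (Z.index : ℂ) = (Nat.card Z : ℂ) * ((d : ℂ) * ∑ C, x C) := by
    have h1 := classInner_isIrr_self hχ
    rw [classInner_def, inv_mul_eq_one₀ natCard_ne_zero, ← Finset.sum_fiberwise Finset.univ q,
      Finset.sum_congr rfl fun C _ => hxsum C, ← Finset.mul_sum, ← Z.card_mul_index, hd] at h1
    push_cast at h1
    rw [h1]; ring
  rw [mul_left_cancel₀ natCard_ne_zero hkey, mul_div_cancel_left₀ _ (Nat.cast_ne_zero.mpr hd0)]
  exact IsIntegral.sum _ fun C _ => hxint C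

/-- The ramification of an invariant irreducible constituent divides the index. -/
theorem ramification_dvd_index [Fintype G] (N : Subgroup G) [hN : N.Normal] [Fintype N]
    {θ : N → ℂ} (hθ : Cfsg.IsIrrCharacter N θ) (hinv : ∀ g : G, Clifford.conjBy N g θ = θ)
    {χ : G → ℂ} (hχ : Cfsg.IsIrrCharacter G χ) {e : ℕ}
    (he : Cfsg.classInner (fun n : N => χ n) θ = (e : ℂ)) (he0 : e ≠ 0) : e ∣ N.index := by
  classical
  obtain ⟨d, ρ, hρ, rfl⟩ := hθ
  have hdpos : 0 < d := by
    have := finrank_pos_of_isIrreducible ρ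
    rwa [Module.finrank_fin_fun] at this
  set M := Nat.card G with hM
  have hMpos : 0 < M := Nat.card_pos
  let D : Extension.LiftGroup ρ →* ℂˣ :=
    ((Units.map (LinearMap.det : ((Fin d → ℂ) →ₗ[ℂ] (Fin d → ℂ)) →* ℂ)).comp
      (Extension.mat ρ)) ^ M
  let Γ : Subgroup (Extension.LiftGroup ρ) := D.ker
  let π : Γ →* G := (Extension.proj ρ).comp Γ.subtype
  have hdetsc : ∀ c : ℂˣ, D (Extension.sc ρ c) = c ^ (d * M) := by
    intro c
    apply Units.ext
    simp [D, Extension.scU_coe, LinearMap.det_smul, Module.finrank_fin_fun, pow_mul]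
  have hsurj : Function.Surjective π := by
    intro g
    obtain ⟨e₀, he₀⟩ := Extension.proj_surjective ρ hinv g
    obtain ⟨z, hz⟩ := IsAlgClosed.exists_pow_nat_eq ((D e₀ : ℂ)⁻¹) (Nat.mul_pos hdpos hMpos)
    have hz0 : z ≠ 0 := by
      rintro rfl
      rw [zero_pow (Nat.mul_pos hdpos hMpos).ne', eq_comm, inv_eq_zero] at hz
      exact (D e₀).ne_zero hz
    refine ⟨⟨Extension.sc ρ (Units.mk0 z hz0) * e₀, ?_⟩, ?_⟩
    · show D _ = 1
      rw [map_mul, hdetsc]
      apply Units.ext
      simp [hz]
    · simp [π, he₀]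
  have hinclmem : ∀ n : N, Extension.incl ρ n ∈ Γ := by
    intro n
    show D _ = 1
    let δ : N →* ℂˣ :=
      MonoidHom.toHomUnits ((LinearMap.det : ((Fin d → ℂ) →ₗ[ℂ] (Fin d → ℂ)) →* ℂ).comp ρ)
    have h1 : D (Extension.incl ρ n) = δ n ^ M := Units.ext (by simp [D, δ])
    have h2 : n ^ M = 1 := Subtype.ext (by rw [Subgroup.coe_pow, hM, pow_card_eq_one']; rfl)
    rw [h1, ← map_pow, h2, map_one]
  let j : N →* Γ := (Extension.incl ρ).codRestrict Γ hinclmem
  have hjval : ∀ n : N, ((j n : Γ) : Extension.LiftGroup ρ) = Extension.incl ρ n := fun _ => rfl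
  have hπj : ∀ n : N, π (j n) = (n : G) := fun _ => rfl
  have hjinj : Function.Injective j := fun a b h => Subtype.ext (by rw [← hπj a, ← hπj b, h])
  -- finiteness of `Γ`
  have hker : ∀ x : Γ, π x = 1 → ∃ c : ℂˣ,
      (x : Extension.LiftGroup ρ) = Extension.sc ρ c ∧ c ^ (d * M) = 1 := by
    intro x hx
    obtain ⟨c, hc⟩ := Extension.proj_eq_one ρ hx
    refine ⟨c, hc, ?_⟩
    have hxD : D (x : Extension.LiftGroup ρ) = 1 := x.2
    have hc' : (x : Extension.LiftGroup ρ) = Extension.sc ρ c := hc
    rwa [hc', hdetsc] at hxD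
  haveI : NeZero (d * M) := ⟨(Nat.mul_pos hdpos hMpos).ne'⟩
  haveI : Finite π.ker := by
    choose c hc hc1 using fun x : π.ker => hker x.1 x.2
    refine Finite.of_injective (fun x => (⟨c x, hc1 x⟩ : rootsOfUnity (d * M) ℂ)) fun a b h => ?_
    have h' : c a = c b := congrArg Subtype.val h
    exact Subtype.ext (Subtype.ext (by rw [hc a, hc b, h']))
  haveI : Finite Γ := π.finite_iff_finite_ker_range.mpr ⟨inferInstance, inferInstance⟩
  haveI : Fintype Γ := Fintype.ofFinite Γ
  let N' : Subgroup Γ := j.range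
  haveI hN' : N'.Normal := ⟨by
    rintro _ ⟨n, rfl⟩ x
    exact ⟨MulAut.conjNormal (π x) n,
      Subtype.ext (Extension.conj_incl ρ (x : Extension.LiftGroup ρ) n).symm⟩⟩
  haveI : Fintype N' := Fintype.ofFinite N'
  let ι : N ≃* N' := MonoidHom.ofInjective hjinj
  have hι : ∀ n : N, ((ι n : N') : Γ) = j n := fun _ => rfl
  -- the two characters of `Γ`
  let τ : Representation ℂ Γ (Fin d → ℂ) :=
    (Units.coeHom _).comp ((Extension.mat ρ).comp Γ.subtype)
  have hτj : ∀ n : N, τ (j n) = ρ n := fun _ => rfl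
  have hτirr : Cfsg.IsIrrCharacter Γ τ.character :=
    ⟨d, τ, (isIrreducible_iff τ).2 ⟨nontrivial_of_isIrreducible ρ, fun U hU =>
      ((isIrreducible_iff ρ).1 hρ).2 U fun n v hv => hτj n ▸ hU (j n) v hv⟩, rfl⟩
  have hres1 : (fun y : N' => τ.character y) ∘ ι = ρ.character := by
    funext n
    show LinearMap.trace ℂ _ (τ ((ι n : N') : Γ)) = _
    rw [hι, hτj]
    rfl
  have hres2 : (fun y : N' => (χ ∘ π) y) ∘ ι = fun n : N => χ n := funext fun _ => rfl
  have hτN : Cfsg.IsIrrCharacter N' (fun y : N' => τ.character y) := by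
    rw [← isIrrCharacter_comp_mulEquiv ι, hres1]
    exact ⟨d, ρ, hρ, rfl⟩
  have hχΓ : Cfsg.IsIrrCharacter Γ (χ ∘ π) := isIrrCharacter_comp_surjective π hsurj hχ
  have hinner : Cfsg.classInner (fun y : N' => (χ ∘ π) y) (fun y : N' => τ.character y) = (e : ℂ) := by
    rw [← Basics.classInner_comp_equiv ι, hres1, hres2, he]
  obtain ⟨hη, hprod⟩ := Average.gallagher N' hτirr hτN hχΓ (by
    rw [hinner]; exact_mod_cast he0)
  set η := Average.quotChar N' τ.character (χ ∘ π) with hηdef
  have hη1 : η 1 = (e : ℂ) := by rw [hηdef, Average.quotChar_one, hinner]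
  -- scalars act by their conjugates
  have hscal : ∀ (x : Γ) (c : ℂˣ), (x : Extension.LiftGroup ρ) = Extension.sc ρ c →
      ∀ y : Γ, η (x * y) = conj (c : ℂ) * η y := by
    intro x c hxc y
    have hx1 : π x = 1 := by
      show Extension.proj ρ (x : Extension.LiftGroup ρ) = 1
      rw [hxc, Extension.proj_sc]
    have hxcomm : ∀ w : Γ, x * w = w * x := fun w => Subtype.ext (by
      simp [hxc, Extension.sc_comm])
    simp only [hηdef, Average.quotChar_apply, Finset.mul_sum]
    refine Finset.sum_congr rfl fun n _ => ?_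
    have h1 : (n : Γ) * (x * y) = x * ((n : Γ) * y) := by rw [← mul_assoc, ← hxcomm, mul_assoc]
    have h2 : τ.character (x * ((n : Γ) * y)) = (c : ℂ) * τ.character ((n : Γ) * y) := by
      show LinearMap.trace ℂ _ (τ (x * _)) = _
      have h3 : τ x = (c : ℂ) • LinearMap.id := by
        show Units.val (Extension.mat ρ (x : Extension.LiftGroup ρ)) = _
        rw [hxc, Extension.mat_sc, Extension.scU_coe]
      rw [map_mul, h3, ← Module.End.one_eq_id, smul_mul_assoc, one_mul, map_smul, smul_eq_mul]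
      rfl
    rw [h1, h2, map_mul, Function.comp_apply, Function.comp_apply, map_mul, hx1, one_mul]
    ring
  -- deflate
  let f := QuotientGroup.mk' N'
  obtain ⟨η', -, hη'f, hη'irr⟩ := exists_deflate f (QuotientGroup.mk'_surjective N')
    (isCharacter_of_isIrr hη) fun x hx => by
      rw [QuotientGroup.ker_mk'] at hx
      have := Average.quotChar_mul_left N' τ.character (χ ∘ π) ⟨x, hx⟩ 1
      rw [mul_one] at this
      exact this
  have hη'' : ∀ x : Γ, η' (f x) = η x := fun x => congrFun hη'f x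
  let Z : Subgroup (Γ ⧸ N') := π.ker.map f
  haveI : Z.Normal := (MonoidHom.normal_ker π).map f (QuotientGroup.mk'_surjective N')
  have hZcen : Z ≤ Subgroup.center (Γ ⧸ N') := by
    rintro _ ⟨x, hx, rfl⟩
    obtain ⟨c, hc, -⟩ := hker x hx
    refine Subgroup.mem_center_iff.mpr fun yb => ?_
    obtain ⟨y, rfl⟩ := QuotientGroup.mk'_surjective N' yb
    rw [← map_mul, ← map_mul]
    congr 1
    exact Subtype.ext (by simp [hc, Extension.sc_comm])
  choose zx hzx hzf using fun z : Z => Subgroup.mem_map.mp z.2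
  choose zc hzc hzc1 using fun z : Z => hker (zx z) (hzx z)
  have hdvd := degree_dvd_index_central (hη'irr hη) Z hZcen (fun z => conj (zc z : ℂ))
    (fun z yb => ?_) (fun z hz => ?_) (d := e) ?_
  · have hidx : Z.index = N.index := by
      have hcomap : Z.comap f = N.comap π := by
        rw [Subgroup.comap_map_eq, QuotientGroup.ker_mk']
        apply le_antisymm
        · refine sup_le (fun x hx => ?_) ?_
          · show π x ∈ N
            rw [show π x = 1 from hx]
            exact N.one_mem
          · rintro _ ⟨n, rfl⟩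
            exact n.2
        · intro x hx
          have hmem : π x ∈ N := hx
          have h1 : x * (j ⟨π x, hmem⟩)⁻¹ ∈ π.ker := by
            rw [MonoidHom.mem_ker, map_mul, map_inv, hπj, mul_inv_cancel]
          have h2 := Subgroup.mul_mem_sup (T := j.range) h1 ⟨⟨π x, hmem⟩, rfl⟩
          rwa [inv_mul_cancel_right] at h2
      rw [← Subgroup.index_comap_of_surjective Z (f := f) (QuotientGroup.mk'_surjective N'), hcomap,
        Subgroup.index_comap_of_surjective N hsurj]
    rwa [hidx] at hdvd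
  · obtain ⟨y, rfl⟩ := QuotientGroup.mk'_surjective N' yb
    rw [show (z : Γ ⧸ N') = f (zx z) from (hzf z).symm, ← map_mul, hη'', hη'',
      hscal _ _ (hzc z) y]
  · have hc : zc z = 1 := Units.ext (by
      simpa using congrArg conj hz)
    have : zx z = 1 := Subtype.ext (by rw [hzc z, hc, map_one]; rfl)
    exact Subtype.ext (by rw [← hzf z, this, map_one]; rfl)
  · rw [show (1 : Γ ⧸ N') = f 1 from (map_one f).symm, hη'', hη1]

end Cfsg.Agent.CharTheory.DegreeIndex
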