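import Mathlib
import Cfsg.Agent.Lib.Characters.Kernel
import Cfsg.Agent.Lib.Characters.Induction
import Cfsg.Agent.S0887

/-!
Ito's theorem: degrees divide the index of an abelian normal subgroup.
-/

set_option autoImplicit false

namespace Cfsg.Agent.CharTheory.Ito

open Cfsg.Agent.Characters

universe u

variable {G : Type u} [Group G]

/-- A character with nonzero degree has an irreducible constituent. -/
theorem exists_constituent [Fintype G] {Φ : G → ℂ} (hΦ : Cfsg.IsCharacter G Φ) (h1 : Φ 1 ≠ 0) :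
    ∃ χ : G → ℂ, Cfsg.IsIrrCharacter G χ ∧ Cfsg.classInner Φ χ ≠ 0 := by
  by_contra h
  push Not at h
  haveI := Fintype.ofFinite (Cfsg.IrrCharacter G)
  apply h1
  have h2 := congrFun (classFun_eq_sum (char_isClassFunction hΦ)) 1
  rw [Finset.sum_eq_zero (fun ψ _ => by rw [h _ ψ.2, zero_smul])] at h2
  exact h2

/-- Ito: the degree of an irreducible character divides the index of an abelian normal subgroup. -/
theorem degree_dvd_index_abelian [Finite G] (A : Subgroup G) [A.Normal]
    (hab : ∀ a ∈ A, ∀ b ∈ A, a * b = b * a) {χ : G → ℂ} (hχ : Cfsg.IsIrrCharacter G χ) :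
    ∃ d : ℕ, χ 1 = (d : ℂ) ∧ d ∣ A.index := by
  classical
  haveI := Fintype.ofFinite G
  obtain ⟨d, hd⟩ := char_one_nat (isCharacter_of_isIrr hχ)
  refine ⟨d, hd, ?_⟩
  obtain ⟨θ, hθ, hne⟩ := exists_constituent
    (isCharacter_restrict A (isCharacter_of_isIrr hχ))
    (by simpa using irr_one_ne_zero hχ)
  have hθ1 : θ 1 = ((1 : ℕ) : ℂ) := by
    rw [irr_degree_one_of_comm (fun a b => Subtype.ext (hab a a.2 b b.2)) hθ, Nat.cast_one]
  simpa using (Cfsg.Agent.S0887.result A χ hχ θ hθ hne d 1 hd hθ1).2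

end Cfsg.Agent.CharTheory.Ito
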