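import Mathlib
import Cfsg.Agent.Lib.CharTheory.Clifford
import Cfsg.Agent.Lib.CharTheory.Ito
import Cfsg.Agent.Lib.Characters.Kernel
import Cfsg.Agent.Lib.Characters.Monomial
import Cfsg.Agent.Lib.Hall.MinimalNormal
import Cfsg.Agent.S0854
import Cfsg.Agent.S0857

/-!
Relative M-groups: characters induced from characters restricting irreducibly to a normal subgroup.
-/

set_option autoImplicit false

namespace Cfsg.Agent.CharTheory.RelativeM

open Cfsg.Agent.Characters Cfsg.Agent.CharTheory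
open scoped commutatorElement

universe u

variable {G : Type u} [Group G]

/-- The inertia group of a function on a normal subgroup. -/
def inertia (N : Subgroup G) [hN : N.Normal] (θ : N → ℂ) : Subgroup G where
  carrier := {g | Clifford.conjBy N g θ = θ}
  one_mem' := Clifford.conjBy_one N θ
  mul_mem' {a b} (ha : Clifford.conjBy N a θ = θ) (hb : Clifford.conjBy N b θ = θ) := by
    show Clifford.conjBy N (a * b) θ = θ
    funext n
    have h1 := congrFun ha ⟨b * n * b⁻¹, hN.conj_mem (n : G) n.2 b⟩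
    have h2 := congrFun hb n
    simp only [Clifford.conjBy_apply] at h1 h2 ⊢
    rw [← h2, ← h1]
    exact congrArg θ (Subtype.ext (by simp [mul_assoc]))
  inv_mem' {a} (ha : Clifford.conjBy N a θ = θ) := by
    show Clifford.conjBy N a⁻¹ θ = θ
    funext n
    have h1 := congrFun ha ⟨a⁻¹ * n * a⁻¹⁻¹, hN.conj_mem (n : G) n.2 a⁻¹⟩
    simp only [Clifford.conjBy_apply] at h1 ⊢
    rw [← h1]
    exact congrArg θ (Subtype.ext (by simp [mul_assoc]))

theorem mem_inertia {N : Subgroup G} [hN : N.Normal] {θ : N → ℂ} {g : G} :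
    g ∈ inertia N θ ↔ Clifford.conjBy N g θ = θ := Iff.rfl

theorem le_inertia {N : Subgroup G} [hN : N.Normal] {θ : N → ℂ}
    (hθ : Cfsg.IsClassFunction N θ) : N ≤ inertia N θ := fun g hg => by
  refine funext fun n => ?_
  rw [Clifford.conjBy_apply]
  exact hθ n ⟨g, hg⟩

variable [Fintype G]

/-- Either a proper induction or homogeneous restrictions. -/
theorem induced_or_homogeneous (M : Subgroup G) [hM : M.Normal] {χ : G → ℂ}
    (hχ : Cfsg.IsIrrCharacter G χ) :
    (∃ (T : Subgroup G) (ψ : T → ℂ), M ≤ T ∧ T ≠ ⊤ ∧ Cfsg.IsIrrCharacter T ψ ∧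
        Cfsg.indFun T ψ = χ) ∨
      ∃ (θ : M → ℂ) (e : ℕ), Cfsg.IsIrrCharacter M θ ∧ e ≠ 0 ∧
        (fun m : M => χ m) = (e : ℂ) • θ ∧ ∀ g : G, Clifford.conjBy M g θ = θ := by
  classical
  haveI := Fintype.ofFinite M
  have hχc := isCharacter_of_isIrr hχ
  obtain ⟨θ, hθ, hne⟩ := Ito.exists_constituent (isCharacter_restrict M hχc)
    (by simpa using irr_one_ne_zero hχ)
  have hle := le_inertia (char_isClassFunction (isCharacter_of_isIrr hθ))
  by_cases hT : inertia M θ = ⊤
  · refine Or.inr ?_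
    obtain ⟨e, he⟩ := classInner_char_nat (isCharacter_restrict M hχc) (isCharacter_of_isIrr hθ)
    have hinv : ∀ g : G, Clifford.conjBy M g θ = θ := fun g =>
      mem_inertia.1 (hT ▸ Subgroup.mem_top g)
    refine ⟨θ, e, hθ, fun h0 => hne (by rw [he, h0, Nat.cast_zero]), ?_, hinv⟩
    rw [← he]
    exact Clifford.restrict_eq_smul_of_invariant M hχ hθ hne hinv
  · refine Or.inl ?_
    haveI := Fintype.ofFinite (inertia M θ)
    obtain ⟨ψ, hψ, hind, -⟩ := Cfsg.Agent.S0854.result M θ hθ (inertia M θ)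
      (fun g => mem_inertia.trans ⟨fun h n => congrFun h n, fun h => funext h⟩) hle χ hχ hne
    exact ⟨_, ψ, hle, hT, hψ, hind⟩

/-- The relative M-group criterion (chief factors of non-square order). -/
theorem relative_monomial (d : ℕ) : ∀ (G : Type u) [Group G] [Fintype G], Nat.card G = d →
    ∀ (N : Subgroup G) [N.Normal], Group.IsSolvable (G ⧸ N) →
    (∀ (H K L : Subgroup G), N ≤ L → L < K → K ≤ H → (∀ h ∈ H, ∀ k ∈ K, h * k * h⁻¹ ∈ K) →
      (∀ h ∈ H, ∀ l ∈ L, h * l * h⁻¹ ∈ L) →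
      (∀ M : Subgroup G, L ≤ M → M ≤ K → (∀ h ∈ H, ∀ m ∈ M, h * m * h⁻¹ ∈ M) → M = L ∨ M = K) →
      ¬ IsSquare (L.relIndex K)) →
    ∀ (χ : G → ℂ), Cfsg.IsIrrCharacter G χ →
      ∃ (H : Subgroup G) (hNH : N ≤ H) (ψ : H → ℂ), Cfsg.IsIrrCharacter H ψ ∧
        Cfsg.indFun H ψ = χ ∧ Cfsg.IsIrrCharacter N (fun n : N => ψ ⟨(n : G), hNH n.2⟩) := by
  classical
  induction d using Nat.strong_induction_on with | _ d ih => ?_
  intro G _ _ hd N _ hsolv hchief χ hχ
  by_cases hprim : ∃ (T : Subgroup G) (ψ : T → ℂ), N ≤ T ∧ T ≠ ⊤ ∧ Cfsg.IsIrrCharacter T ψ ∧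
      Cfsg.indFun T ψ = χ
  · obtain ⟨T, ψ, hNT, hT, hψ, hind⟩ := hprim
    haveI := Fintype.ofFinite T
    have hcard : Nat.card T < d := hd ▸ lt_of_le_of_ne (Subgroup.card_le_card_group T)
      fun he => hT (Subgroup.eq_top_of_card_eq T he)
    haveI := hsolv
    have hsT : Group.IsSolvable (T ⧸ N.subgroupOf T) := by
      refine Group.isSolvable_of_isSolvable_injective
        (f := QuotientGroup.map (N.subgroupOf T) N T.subtype le_rfl) ?_
      rw [← MonoidHom.ker_eq_bot_iff, Subgroup.eq_bot_iff_forall]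
      intro q hq
      induction q using QuotientGroup.induction_on with
      | H t =>
        change ((t : G) : G ⧸ N) = 1 at hq
        rw [QuotientGroup.eq_one_iff] at hq
        exact (QuotientGroup.eq_one_iff t).2 hq
    obtain ⟨H, hNH, ξ, hξ, hξind, hξN⟩ := ih _ hcard T rfl (N.subgroupOf T) hsT
      (fun H K L hL hLK hKH hK hLn hmin hsq => by
        refine hchief (H.map T.subtype) (K.map T.subtype) (L.map T.subtype) ?_
          ((Subgroup.map_lt_map_iff_of_injective T.subtype_injective).2 hLK)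
          (Subgroup.map_mono hKH) ?_ ?_ ?_ ?_
        · intro n hn
          exact ⟨⟨n, hNT hn⟩, hL hn, rfl⟩
        · rintro _ ⟨h, hh, rfl⟩ _ ⟨k, hk, rfl⟩
          exact ⟨h * k * h⁻¹, hK h hh k hk, by simp⟩
        · rintro _ ⟨h, hh, rfl⟩ _ ⟨k, hk, rfl⟩
          exact ⟨h * k * h⁻¹, hLn h hh k hk, by simp⟩
        · intro M hLM hMK hM
          have hMT : M ≤ T := hMK.trans (Subgroup.map_subtype_le K)
          have he : (M.subgroupOf T).map T.subtype = M := Subgroup.map_subgroupOf_eq_of_le hMT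
          rcases hmin (M.subgroupOf T) (fun l hl => hLM ⟨l, hl, rfl⟩)
            (fun m hm => by
              obtain ⟨k, hk, hkm⟩ := hMK (show (m : G) ∈ M from hm)
              exact Subtype.ext hkm ▸ hk)
            (fun h hh m hm => by
              show ((h * m * h⁻¹ : T) : G) ∈ M
              simpa using hM h ⟨h, hh, rfl⟩ m hm) with h1 | h1
          · exact Or.inl (by rw [← he, h1])
          · exact Or.inr (by rw [← he, h1])
        · rwa [Subgroup.relIndex_map_map_of_injective _ _ T.subtype_injective]) ψ hψ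
    haveI := Fintype.ofFinite H
    have hHT : (H.map T.subtype).subgroupOf T = H :=
      Subgroup.comap_map_eq_self_of_injective T.subtype_injective H
    let eH : H.map T.subtype ≃* H :=
      (H.equivMapOfInjective T.subtype T.subtype_injective).symm
    refine ⟨H.map T.subtype, fun n hn => ⟨⟨n, hNT hn⟩, hNH hn, rfl⟩, ξ ∘ eH,
      Basics.isIrrCharacter_comp_equiv eH hξ, ?_, ?_⟩
    · rw [← hind, ← hξind, ← indFun_trans (H.map T.subtype) T (Subgroup.map_subtype_le H)]
      refine congrArg (Cfsg.indFun T) ?_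
      have key : ∀ (H' : Subgroup T) (he : H' = H) (f : H' → ℂ),
          (∀ z : H', f z = ξ ⟨(z : T), he ▸ z.2⟩) → Cfsg.indFun H' f = Cfsg.indFun H ξ := by
        rintro H' rfl f hf
        exact congrArg _ (funext hf)
      refine key _ hHT _ fun z => congrArg ξ ?_
      apply (H.equivMapOfInjective T.subtype T.subtype_injective).injective
      rw [MulEquiv.apply_symm_apply]
      exact Subtype.ext rfl
    · have hN' : Cfsg.IsIrrCharacter N
          ((fun n : N.subgroupOf T => ξ ⟨(n : T), hNH n.2⟩) ∘ (Subgroup.subgroupOfEquivOfLe hNT).symm) :=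
        Basics.isIrrCharacter_comp_equiv _ hξN
      convert hN' using 1
      funext n
      simp only [Function.comp_apply]
      congr 1
      apply (H.equivMapOfInjective T.subtype T.subtype_injective).injective
      rw [MulEquiv.apply_symm_apply]
      exact Subtype.ext rfl
  have hhom : ∀ M : Subgroup G, M.Normal → N ≤ M → ∃ (θ : M → ℂ) (e : ℕ),
      Cfsg.IsIrrCharacter M θ ∧ e ≠ 0 ∧ (fun m : M => χ m) = (e : ℂ) • θ := by
    intro M hM hNM
    rcases induced_or_homogeneous M hχ with ⟨T, ψ, hMT, hT, hψ, hind⟩ | ⟨θ, e, hθ, he, heq, -⟩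
    · exact absurd ⟨T, ψ, hNM.trans hMT, hT, hψ, hind⟩ hprim
    · exact ⟨θ, e, hθ, he, heq⟩
  have hχcl := char_isClassFunction (isCharacter_of_isIrr hχ)
  let e₀ : (⊤ : Subgroup G) ≃* G := Subgroup.topEquiv
  obtain ⟨K, -, ⟨hKn, hNK, hKirr⟩, hmin⟩ := exists_minimal_le_of_wellFoundedLT
    (fun K : Subgroup G => K.Normal ∧ N ≤ K ∧ Cfsg.IsIrrCharacter K (fun k : K => χ k)) ⊤
    ⟨inferInstance, le_top, Basics.isIrrCharacter_comp_equiv e₀ hχ⟩
  by_cases hKN : K = N
  · subst hKN
    exact ⟨⊤, le_top, fun x => χ x, Basics.isIrrCharacter_comp_equiv e₀ hχ,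
      Monomial.indFun_top hχcl, hKirr⟩
  exfalso
  haveI := hKn
  obtain ⟨L, -, ⟨hLn, hNL, hLK⟩, hmax⟩ := exists_maximal_ge_of_wellFoundedGT
    (fun L : Subgroup G => L.Normal ∧ N ≤ L ∧ L < K) N
    ⟨inferInstance, le_rfl, lt_of_le_of_ne hNK (Ne.symm hKN)⟩
  haveI := hLn
  have hchiefKL : ∀ M : Subgroup G, M.Normal → L ≤ M → M ≤ K → M = L ∨ M = K := fun M hM hLM hMK =>
    or_iff_not_imp_right.2 fun hne =>
      le_antisymm (hmax ⟨hM, hNL.trans hLM, lt_of_le_of_ne hMK hne⟩ hLM) hLM
  have hab : ⁅K, K⁆ ≤ L := by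
    let π := QuotientGroup.mk' L
    have hπ : Function.Surjective π := QuotientGroup.mk'_surjective L
    haveI := hsolv
    haveI : Group.IsSolvable (G ⧸ L) :=
      Group.isSolvable_of_surjective (f := QuotientGroup.map N L (MonoidHom.id G) (by simpa using hNL))
        (fun q => by
          induction q using QuotientGroup.induction_on with
          | H g => exact ⟨QuotientGroup.mk g, rfl⟩)
    haveI := hKn.map π hπ
    haveI := Hall.minimal_normal_isMulCommutative (M := K.map π) fun B hB hBK => by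
      rcases hchiefKL (B.comap π) (hB.comap π)
        (fun l hl => by rw [Subgroup.mem_comap, (QuotientGroup.eq_one_iff l).2 hl |> (id : π l = 1 → _)]; exact one_mem B)
        (fun g hg => by
          obtain ⟨k, hk, hkg⟩ := hBK hg
          have hl : k⁻¹ * g ∈ L := QuotientGroup.eq.1 hkg
          have := mul_mem hk (hLK.le hl)
          rwa [mul_inv_cancel_left] at this) with h1 | h1
      · refine Or.inl ?_
        rw [← Subgroup.map_comap_eq_self_of_surjective hπ B, h1, QuotientGroup.map_mk'_self]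
      · exact Or.inr (by rw [← Subgroup.map_comap_eq_self_of_surjective hπ B, h1])
    rw [Subgroup.commutator_le]
    intro a ha b hb
    rw [← QuotientGroup.eq_one_iff]
    show π ⁅a, b⁆ = 1
    rw [map_commutatorElement, commutatorElement_eq_one_iff_mul_comm]
    exact congrArg Subtype.val (mul_comm' (⟨π a, Subgroup.mem_map_of_mem π ha⟩ : K.map π)
      ⟨π b, Subgroup.mem_map_of_mem π hb⟩)
  rcases Cfsg.Agent.S0857.result K L hLK hchiefKL hab _ hKirr (fun g n => hχcl n g) with
    h | ⟨φ, e, hφ, heq, he2⟩ | ⟨F, hF, hFc, heq⟩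
  · exact hLK.not_ge (hmin ⟨hLn, hNL, h⟩ hLK.le)
  · refine hchief ⊤ K L hNL hLK le_top (fun a _ k hk => hKn.conj_mem k hk a)
      (fun a _ l hl => hLn.conj_mem l hl a) (fun M hLM hMK hM => hchiefKL M
        ⟨fun m hm g => hM g (Subgroup.mem_top g) m hm⟩ hLM hMK) ?_
    exact ⟨e, by rw [← he2, sq]⟩
  · obtain ⟨θ, e, hθ, he, hθeq⟩ := hhom L hLn hNL
    haveI := Fintype.ofFinite L
    have h1 : ∀ φ ∈ F, φ = θ := by
      intro φ hφ
      by_contra hne
      have h2 : Cfsg.classInner (fun x : L => χ x) φ = 1 := by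
        rw [show (fun x : L => χ x) = ∑ φ ∈ F, φ from heq, classInner_sum_left,
          Finset.sum_eq_single φ (fun b hb hbne => classInner_isIrr_ne (hF b hb) (hF φ hφ) hbne)
            (fun h0 => absurd hφ h0), classInner_isIrr_self (hF φ hφ)]
      rw [hθeq, classInner_smul_left, classInner_isIrr_ne hθ (hF φ hφ) (Ne.symm hne), mul_zero] at h2
      exact zero_ne_one h2
    have h2 : L.relIndex K ≤ 1 := hFc ▸ Finset.card_le_one.2 fun a ha b hb => by rw [h1 a ha, h1 b hb]
    rcases Nat.le_one_iff_eq_zero_or_eq_one.1 h2 with h3 | h3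
    · exact Subgroup.index_ne_zero_of_finite (H := L.subgroupOf K) h3
    · exact hLK.not_ge (Subgroup.relIndex_eq_one.1 h3)

end Cfsg.Agent.CharTheory.RelativeM
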