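import Mathlib
import Cfsg.Agent.Lib.CharTheory.RelativeM

/-!
Monomiality lifts from relative M-groups when the normal subgroup has abelian Sylow subgroups.
-/

set_option autoImplicit false

namespace Cfsg.Agent.CharTheory.MonomialLift

open Cfsg.Agent.Characters Cfsg.Agent.CharTheory
open scoped commutatorElement

universe u

variable {G : Type u} [Group G]

/-- Induction in stages through the image of a subgroup of a subgroup. -/
theorem indFun_map_subtype [Fintype G] (T : Subgroup G) [Fintype T] (H : Subgroup T) (f : H → ℂ) :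
    Cfsg.indFun (H.map T.subtype)
        (f ∘ (H.equivMapOfInjective T.subtype T.subtype_injective).symm) =
      Cfsg.indFun T (Cfsg.indFun H f) := by
  rw [← indFun_trans (H.map T.subtype) T (Subgroup.map_subtype_le H)]
  refine congrArg (Cfsg.indFun T) ?_
  have key : ∀ (H' : Subgroup T) (he : H' = H) (k : H' → ℂ),
      (∀ z : H', k z = f ⟨(z : T), he ▸ z.2⟩) → Cfsg.indFun H' k = Cfsg.indFun H f := by
    rintro H' rfl k hk
    exact congrArg _ (funext hk)
  refine key _ (Subgroup.comap_map_eq_self_of_injective T.subtype_injective H) _ fun z => congrArg f ?_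
  apply (H.equivMapOfInjective T.subtype T.subtype_injective).injective
  rw [MulEquiv.apply_symm_apply]
  exact Subtype.ext rfl

/-- All `p`-subgroups of `N` are abelian. -/
def PAbelian (N : Subgroup G) : Prop :=
  ∀ p : ℕ, p.Prime → ∀ P : Subgroup G, P ≤ N → IsPGroup p P → ∀ a ∈ P, ∀ b ∈ P, a * b = b * a

theorem pAbelian_of_sylow [Finite G] (N : Subgroup G)
    (h : ∀ (p : ℕ) [Fact p.Prime] (P : Sylow p N), ∀ a ∈ P, ∀ b ∈ P, a * b = b * a) : PAbelian N := by
  intro p hp P hPN hP a ha b hb
  haveI := Fact.mk hp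
  obtain ⟨Q, hQ⟩ := (hP.comap_of_injective N.subtype N.subtype_injective).exists_le_sylow
  exact congrArg Subtype.val (h p Q ⟨a, hPN ha⟩ (hQ ha) ⟨b, hPN hb⟩ (hQ hb))

theorem PAbelian.subgroupOf {N : Subgroup G} (h : PAbelian N) (T : Subgroup G) :
    PAbelian (N.subgroupOf T) := by
  intro p hp P hPN hP a ha b hb
  refine Subtype.ext ?_
  refine h p hp (P.map T.subtype) ?_ (hP.map _) a ⟨a, ha, rfl⟩ b ⟨b, hb, rfl⟩
  rintro _ ⟨c, hc, rfl⟩
  exact hPN hc

theorem PAbelian.map [Finite G] {H : Type*} [Group H] {N : Subgroup G} (h : PAbelian N)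
    (f : G →* H) : PAbelian (N.map f) := by
  intro p hp P hPN hP a ha b hb
  haveI := Fact.mk hp
  let g : N →* N.map f := f.subgroupMap N
  have hg : Function.Surjective g := f.subgroupMap_surjective N
  haveI : Finite (N.map f) := Finite.of_surjective g hg
  obtain ⟨Q', hQ'⟩ :=
    (hP.comap_of_injective (N.map f).subtype (N.map f).subtype_injective).exists_le_sylow
  obtain ⟨Q₀⟩ : Nonempty (Sylow p N) := inferInstance
  obtain ⟨c, hc⟩ := MulAction.exists_smul_eq (N.map f) Q' (Q₀.mapSurjective hg)
  have key : ∀ x : N.map f, x ∈ (P.subgroupOf (N.map f)) → c * x * c⁻¹ ∈ (Q₀ : Subgroup N).map g := by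
    intro x hx
    rw [← Sylow.coe_mapSurjective hg Q₀, ← hc]
    exact ⟨x, hQ' hx, rfl⟩
  obtain ⟨a', ha', hae⟩ := key ⟨a, hPN ha⟩ ha
  obtain ⟨b', hb', hbe⟩ := key ⟨b, hPN hb⟩ hb
  have hab : a' * b' = b' * a' := Subtype.ext <|
    h p hp ((Q₀ : Subgroup N).map N.subtype) (Subgroup.map_subtype_le _)
      (Q₀.isPGroup'.map N.subtype) a' ⟨a', ha', rfl⟩ b' ⟨b', hb', rfl⟩
  have h1 := congrArg g hab
  rw [map_mul, map_mul, hae, hbe] at h1
  have h2 : c * (⟨a, hPN ha⟩ * ⟨b, hPN hb⟩) * c⁻¹ = c * (⟨b, hPN hb⟩ * ⟨a, hPN ha⟩) * c⁻¹ := by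
    refine Eq.trans ?_ (h1.trans ?_) <;> group
  exact congrArg Subtype.val (mul_left_cancel (mul_right_cancel h2))

/-- A nilpotent subgroup with abelian `p`-subgroups is abelian. -/
theorem comm_of_nilpotent [Finite G] {E : Subgroup G} (hE : Group.IsNilpotent E) (h : PAbelian E) :
    ∀ a ∈ E, ∀ b ∈ E, a * b = b * a := by
  haveI := hE
  have hn : ∀ {p : ℕ} [Fact p.Prime] (P : Sylow p E), P.Normal := fun {p} hp P => inferInstance
  let e := Sylow.directProductOfNormal hn
  intro a ha b hb
  obtain ⟨x, hx⟩ := e.surjective ⟨a, ha⟩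
  obtain ⟨y, hy⟩ := e.surjective ⟨b, hb⟩
  have hxy : x * y = y * x := by
    funext p P
    haveI := Fact.mk (Nat.prime_of_mem_primeFactors p.2)
    refine Subtype.ext (Subtype.ext ?_)
    exact h p (Nat.prime_of_mem_primeFactors p.2) ((P : Subgroup E).map E.subtype)
      (Subgroup.map_subtype_le _) (P.isPGroup'.map E.subtype) _ ⟨_, (x p P).2, rfl⟩ _
      ⟨_, (y p P).2, rfl⟩
  have := congrArg e hxy
  rw [map_mul, map_mul, hx, hy] at this
  exact congrArg Subtype.val this

/-- A maximal normal abelian subgroup inside `N` is self-centralizing in `N`. -/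
theorem exists_self_centralizing [Finite G] [Group.IsSolvable G] (N : Subgroup G) [N.Normal]
    (h : PAbelian N) : ∃ F : Subgroup G, F.Normal ∧ F ≤ N ∧ (∀ a ∈ F, ∀ b ∈ F, a * b = b * a) ∧
      (N ≤ Subgroup.centralizer (F : Set G) → F = N) := by
  classical
  obtain ⟨F, -, ⟨hFn, hFN, hFc⟩, hmax⟩ := exists_maximal_ge_of_wellFoundedGT
    (fun F : Subgroup G => F.Normal ∧ F ≤ N ∧ ∀ a ∈ F, ∀ b ∈ F, a * b = b * a) ⊥
    ⟨inferInstance, bot_le, fun a ha b hb => by
      rw [Subgroup.mem_bot] at ha hb
      rw [ha, hb]⟩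
  refine ⟨F, hFn, hFN, hFc, fun hcent => ?_⟩
  by_contra hne
  haveI := hFn
  let π := QuotientGroup.mk' F
  have hπ : Function.Surjective π := QuotientGroup.mk'_surjective F
  haveI : (N.map π).Normal := (inferInstance : N.Normal).map π hπ
  have hbot : N.map π ≠ ⊥ := fun hb => hne (le_antisymm hFN (by
    rwa [Subgroup.map_eq_bot_iff, QuotientGroup.ker_mk'] at hb))
  obtain ⟨B, hBn, hBN, hB, hBmin⟩ := Hall.exists_minimal_normal (N.map π) hbot
  haveI := hBn
  haveI := Hall.minimal_normal_isMulCommutative hBmin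
  let E := B.comap π
  have hEN : E ≤ N := fun g hg => by
    obtain ⟨n, hn, hng⟩ := hBN hg
    have := mul_mem hn (hFN (QuotientGroup.eq.1 hng))
    rwa [mul_inv_cancel_left] at this
  have hFE : F ≤ E := fun g hg => by
    show π g ∈ B
    rw [show π g = 1 from (QuotientGroup.eq_one_iff g).2 hg]
    exact B.one_mem
  have hnil : Group.IsNilpotent E := by
    haveI : Group.IsNilpotent B := by
      letI : CommGroup B := { (inferInstance : Group B) with mul_comm := mul_comm' }
      infer_instance
    refine Subgroup.isNilpotent_of_ker_le_center (π.subgroupComap B) ?_ (H := B)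
    intro a ha
    rw [Subgroup.mem_center_iff]
    intro b
    have haF : (a : G) ∈ F := (QuotientGroup.eq_one_iff _).1 (congrArg Subtype.val ha)
    exact Subtype.ext (Subgroup.mem_centralizer_iff.1 (hcent (hEN b.2)) _ haF).symm
  have hEc : ∀ a ∈ E, ∀ b ∈ E, a * b = b * a :=
    comm_of_nilpotent hnil fun p hp P hP => h p hp P (hP.trans hEN)
  have hEF : E ≤ F := hmax ⟨hBn.comap π, hEN, hEc⟩ hFE
  refine hB ((Subgroup.eq_bot_iff_forall B).2 fun b hb => ?_)
  obtain ⟨g, rfl⟩ := hπ b
  exact (QuotientGroup.eq_one_iff g).2 (hEF hb)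

variable [Fintype G]

/-- If `χ` restricts irreducibly to `N` and is induced from the inertia group of a constituent on
a normal subgroup inside `N`, the inducing character restricts irreducibly. -/
theorem isIrr_restrict_of_induced (N T : Subgroup G) [Fintype T] {χ : G → ℂ}
    (hχ : Cfsg.IsIrrCharacter G χ) (hN : Cfsg.IsIrrCharacter N (fun n : N => χ n))
    {η : T → ℂ} (hη : Cfsg.IsIrrCharacter T η) (hind : Cfsg.indFun T η = χ) :
    Cfsg.IsIrrCharacter (N.subgroupOf T) (fun x : N.subgroupOf T => η x) := by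
  classical
  haveI := Fintype.ofFinite N
  haveI := Fintype.ofFinite (N.subgroupOf T)
  haveI := Fintype.ofFinite (T.subgroupOf N)
  have hχc := isCharacter_of_isIrr hχ
  have hηc := isCharacter_of_isIrr hη
  obtain ⟨a, ha0, ha⟩ := irr_one_pos hη
  obtain ⟨ξ, hξ, hne⟩ := Ito.exists_constituent (isCharacter_restrict (N.subgroupOf T) hηc)
    (by simpa using irr_one_ne_zero hη)
  obtain ⟨m, hm⟩ := classInner_char_nat (isCharacter_restrict (N.subgroupOf T) hηc)
    (isCharacter_of_isIrr hξ)
  obtain ⟨b, hb⟩ := char_one_nat (isCharacter_of_isIrr hξ)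
  have hm0 : m ≠ 0 := fun h0 => hne (by rw [hm, h0, Nat.cast_zero])
  let j : T.subgroupOf N ≃* N.subgroupOf T :=
    { toFun := fun x => ⟨⟨((x : N) : G), x.2⟩, (x : N).2⟩
      invFun := fun x => ⟨⟨((x : T) : G), x.2⟩, (x : T).2⟩
      left_inv := fun x => rfl
      right_inv := fun x => rfl
      map_mul' := fun x y => rfl }
  have hξ' : Cfsg.IsIrrCharacter (T.subgroupOf N) (ξ ∘ j) := Basics.isIrrCharacter_comp_equiv j hξ
  have h1 : Cfsg.classInner (fun t : T => χ t) η ≠ 0 := by
    have h2 := frobenius_reciprocity T η (char_isClassFunction hχc)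
    rw [hind, classInner_isIrr_self hχ] at h2
    rw [classInner_conj_symm η, ← h2, map_one]
    exact one_ne_zero
  have h3 := Clifford.classInner_restrict_ne_zero (N.subgroupOf T) (isCharacter_restrict T hχc) hη
    (isCharacter_of_isIrr hξ) h1 hne
  have h4 : Cfsg.classInner (Cfsg.indFun (T.subgroupOf N) (ξ ∘ j)) (fun n : N => χ n) ≠ 0 := by
    rw [frobenius_reciprocity _ _ (char_isClassFunction (isCharacter_of_isIrr hN))]
    intro h0
    refine h3 ?_
    rw [classInner_conj_symm, ← Basics.classInner_comp_equiv j]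
    exact (congrArg _ h0).trans (map_zero _)
  have hindc : Cfsg.IsCharacter N (Cfsg.indFun (T.subgroupOf N) (ξ ∘ j)) :=
    isCharacter_indFun _ (isCharacter_of_isIrr hξ')
  obtain ⟨m', hm'⟩ := classInner_char_nat hindc (isCharacter_of_isIrr hN)
  have hm'0 : m' ≠ 0 := fun h0 => h4 (by rw [hm', h0, Nat.cast_zero])
  have hle := Basics.degree_le hindc hN hm' (a := (T.subgroupOf N).index * b) (b := T.index * a)
    (by rw [indFun_one, Function.comp_apply, map_one, hb]; push_cast; ring)
    (by
      show χ 1 = _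
      rw [← hind, indFun_one, ha]; push_cast; ring)
  have hidx : (T.subgroupOf N).index ≤ T.index :=
    (Subgroup.relIndex_le_of_le_right le_top (by
      rw [Subgroup.relIndex_top_right]; exact T.index_ne_zero_of_finite)).trans_eq T.relIndex_top_right
  have hab : a ≤ b := by
    refine Nat.le_of_mul_le_mul_left ?_ (Nat.pos_of_ne_zero T.index_ne_zero_of_finite)
    calc T.index * a ≤ m' * (T.index * a) := Nat.le_mul_of_pos_left _ (Nat.pos_of_ne_zero hm'0)
      _ ≤ (T.subgroupOf N).index * b := hle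
      _ ≤ T.index * b := Nat.mul_le_mul_right b hidx
  have hle2 := Basics.degree_le (isCharacter_restrict (N.subgroupOf T) hηc) hξ hm
    (a := a) (b := b) (by simpa using ha) hb
  have hb0 : 0 < b := by omega
  have hm1 : m = 1 := by
    have : m * b ≤ 1 * b := by omega
    have := Nat.le_of_mul_le_mul_right this hb0
    omega
  subst hm1
  have hba : b = a := le_antisymm (by simpa using hle2) hab
  have heq := Basics.eq_of_degree_eq (isCharacter_restrict (N.subgroupOf T) hηc) hξ hm
    (by simp [hb, hba, ha])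
  rw [show (fun x : N.subgroupOf T => η x) = _ from heq]
  simpa using hξ

/-- Monomiality of characters restricting irreducibly to such a subgroup. -/
theorem monomial (d : ℕ) : ∀ (G : Type u) [Group G] [Fintype G], Nat.card G = d →
    Group.IsSolvable G → ∀ (N : Subgroup G) [N.Normal], PAbelian N →
    ∀ χ : G → ℂ, Cfsg.IsIrrCharacter G χ → Cfsg.IsIrrCharacter N (fun n : N => χ n) →
      ∃ (U : Subgroup G) (lam : U → ℂ), Cfsg.IsCharacter U lam ∧ lam 1 = 1 ∧
        Cfsg.indFun U lam = χ := by
  classical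
  induction d using Nat.strong_induction_on with | _ d ih => ?_
  intro G _ _ hd hsolv N _ hN χ hχ hχN
  haveI := hsolv
  have hχc := isCharacter_of_isIrr hχ
  by_cases hker : charKernel χ hχc = ⊥
  swap
  · let Z := charKernel χ hχc
    haveI : Z.Normal := charKernel_normal hχc
    let π := QuotientGroup.mk' Z
    have hπ : Function.Surjective π := QuotientGroup.mk'_surjective Z
    haveI := Fintype.ofFinite (G ⧸ Z)
    obtain ⟨ψ, hψc, hψ, hψi⟩ := exists_deflate_quotient Z hχc fun x hx => mem_charKernel.1 hx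
    have hcard : Nat.card (G ⧸ Z) < d := by
      rw [← hd, Subgroup.card_eq_card_quotient_mul_card_subgroup Z]
      exact lt_mul_of_one_lt_right Nat.card_pos ((Subgroup.one_lt_card_iff_ne_bot Z).2 hker)
    haveI : (N.map π).Normal := (inferInstance : N.Normal).map π hπ
    haveI := Fintype.ofFinite N
    haveI := Fintype.ofFinite (N.map π)
    have hψN : Cfsg.IsIrrCharacter (N.map π) (fun x : N.map π => ψ x) := by
      refine isIrr_of_isCharacter_of_norm_one (isCharacter_restrict _ hψc) ?_
      rw [← classInner_comp_surjective (π.subgroupMap N) (π.subgroupMap_surjective N)]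
      have he : (fun x : N.map π => ψ x) ∘ π.subgroupMap N = fun n : N => χ n :=
        funext fun n => hψ n
      rw [he]
      exact classInner_isIrr_self hχN
    obtain ⟨U, lam, hlam, hlam1, hind⟩ :=
      ih _ hcard (G ⧸ Z) rfl inferInstance (N.map π) (hN.map π) ψ (hψi hχ) hψN
    refine ⟨U.comap π, fun x => lam ⟨π x, x.2⟩, isCharacter_comp (π.subgroupComap U) hlam, ?_, ?_⟩
    · refine Eq.trans (congrArg lam (Subtype.ext ?_)) hlam1
      exact map_one π
    · rw [Monomial.indFun_comap π hπ, hind]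
      exact funext hψ
  obtain ⟨F, hFn, hFN, hFc, hself⟩ := exists_self_centralizing N hN
  haveI := hFn
  rcases RelativeM.induced_or_homogeneous F hχ with
    ⟨T, η, -, hT, hη, hind⟩ | ⟨θ, e, hθ, he, heq, hinv⟩
  · haveI := Fintype.ofFinite T
    have hηN := isIrr_restrict_of_induced N T hχ hχN hη hind
    have hcard : Nat.card T < d := hd ▸ lt_of_le_of_ne (Subgroup.card_le_card_group T)
      fun he => hT (Subgroup.eq_top_of_card_eq T he)
    obtain ⟨U, lam, hlam, hlam1, hU⟩ :=
      ih _ hcard T rfl inferInstance (N.subgroupOf T) (hN.subgroupOf T) η hη hηN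
    haveI := Fintype.ofFinite U
    refine ⟨U.map T.subtype, lam ∘ (U.equivMapOfInjective T.subtype T.subtype_injective).symm,
      isCharacter_comp (U.equivMapOfInjective T.subtype T.subtype_injective).symm.toMonoidHom hlam,
      by rw [Function.comp_apply, map_one]; exact hlam1, ?_⟩
    rw [indFun_map_subtype, hU, hind]
  · have hlin : θ 1 = 1 := irr_degree_one_of_comm (fun a b => Subtype.ext (hFc a a.2 b b.2)) hθ
    have hcentral : N ≤ Subgroup.centralizer (F : Set G) := fun g _ => by
      rw [Subgroup.mem_centralizer_iff]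
      intro f hf
      have hθc := isCharacter_of_isIrr hθ
      let f' : F := ⟨f, hf⟩
      let f'' : F := ⟨g * f * g⁻¹, hFn.conj_mem f hf g⟩
      have h1 : θ f'' = θ f' := congrFun (hinv g) f'
      let lθ := linearOfDegreeOne hθc hlin
      have h2 : θ (f'' * f'⁻¹) = 1 := by
        have hl : lθ f'' = lθ f' := Units.ext h1
        have h3 : lθ (f'' * f'⁻¹) = 1 := by rw [map_mul, map_inv, hl, mul_inv_cancel]
        exact (congrArg Units.val h3 : _)
      have h4 : ((f'' * f'⁻¹ : F) : G) ∈ charKernel χ hχc := by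
        rw [mem_charKernel]
        have h5 := congrFun heq (f'' * f'⁻¹)
        have h6 := congrFun heq 1
        simp only [Pi.smul_apply, smul_eq_mul, h2, hlin, Subgroup.coe_one] at h5 h6
        rw [h5, h6]
      rw [hker, Subgroup.mem_bot] at h4
      have h7 : g * f * g⁻¹ * f⁻¹ = 1 := h4
      rw [mul_inv_eq_one, mul_inv_eq_iff_eq_mul] at h7
      exact h7.symm
    obtain rfl := hself hcentral
    have hχ1 : χ 1 = 1 :=
      irr_degree_one_of_comm (fun a b => Subtype.ext (hFc a a.2 b b.2)) hχN
    exact ⟨⊤, fun x => χ x, isCharacter_restrict ⊤ hχc, hχ1,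
      Monomial.indFun_top (char_isClassFunction hχc)⟩

end Cfsg.Agent.CharTheory.MonomialLift
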