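import Mathlib
import Cfsg.Prelude.Def_Transfer
import Cfsg.Agent.Lib.Characters.Inner
import Cfsg.Agent.Lib.Characters.Kernel
import Cfsg.Agent.Lib.Characters.Schur

/-!
Characters of extraspecial groups: an irreducible character that is nontrivial on the centre
vanishes off the centre and has degree `p ^ n`.
-/

set_option autoImplicit false

namespace Cfsg.Agent.CharTheory.Extraspecial

open Cfsg.Agent.Characters
open scoped ComplexConjugate commutatorElement

universe u

variable {P : Type u} [Group P] [Finite P]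

omit [Finite P] in
/-- A central element acts as a scalar on an irreducible character. -/
theorem central_scalar {χ : P → ℂ} (hχ : Cfsg.IsIrrCharacter P χ) {z : P}
    (hz : z ∈ Subgroup.center P) : ∃ c : ℂ, ∀ x : P, χ (x * z) = c * χ x := by
  obtain ⟨d, ρ, hρ, rfl⟩ := hχ
  obtain ⟨c, hc⟩ := schur_scalar ρ (ρ z) fun g v => by
    rw [← Module.End.mul_apply, ← Module.End.mul_apply, ← map_mul, ← map_mul,
      Subgroup.mem_center_iff.1 hz g]
  refine ⟨c, fun x => ?_⟩
  simp [Representation.character, map_mul, hc, Module.End.mul_eq_comp]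

variable {p : ℕ}

/-- The conjugacy class of a noncentral element is a coset of the centre. -/
theorem exists_conj_eq_mul [Fact p.Prime] (hP : Cfsg.IsExtraspecial p P) {x z : P}
    (hx : x ∉ Subgroup.center P) (hz : z ∈ Subgroup.center P) :
    ∃ y : P, y * x * y⁻¹ = x * z := by
  obtain ⟨⟨-, -, hder⟩, hcard⟩ := hP
  have hc : ∀ y : P, y * x * y⁻¹ * x⁻¹ ∈ Subgroup.center P := fun y => hder.le <| by
    rw [commutator_def]
    exact Subgroup.commutator_mem_commutator (Subgroup.mem_top y) (Subgroup.mem_top x)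
  let f : P →* Subgroup.center P :=
    { toFun := fun y => ⟨y * x * y⁻¹ * x⁻¹, hc y⟩
      map_one' := Subtype.ext (by simp)
      map_mul' := fun a b => Subtype.ext <| by
        simp only [Subgroup.coe_mul]
        have h := Subgroup.mem_center_iff.1 (hc b) a
        calc a * b * x * (a * b)⁻¹ * x⁻¹
            = (a * (b * x * b⁻¹ * x⁻¹)) * (x * a⁻¹ * x⁻¹) := by group
          _ = ((b * x * b⁻¹ * x⁻¹) * a) * (x * a⁻¹ * x⁻¹) := by rw [h]
          _ = (b * x * b⁻¹ * x⁻¹) * (a * x * a⁻¹ * x⁻¹) := by group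
          _ = (a * x * a⁻¹ * x⁻¹) * (b * x * b⁻¹ * x⁻¹) :=
            (Subgroup.mem_center_iff.1 (hc b) _).symm }
  have hne : f.range ≠ ⊥ := by
    intro h
    apply hx
    rw [Subgroup.mem_center_iff]
    intro y
    have h1 : f y ∈ f.range := ⟨y, rfl⟩
    rw [h, Subgroup.mem_bot] at h1
    have h2 : y * x * y⁻¹ * x⁻¹ = 1 := congrArg Subtype.val h1
    rwa [mul_inv_eq_one, mul_inv_eq_iff_eq_mul] at h2
  haveI : Fact (Nat.card (Subgroup.center P)).Prime := ⟨hcard.symm ▸ (Fact.out : p.Prime)⟩
  obtain ⟨y, hy⟩ : (⟨z, hz⟩ : Subgroup.center P) ∈ f.range := by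
    rw [(f.range.eq_bot_or_eq_top_of_prime_card).resolve_left hne]
    trivial
  refine ⟨y, ?_⟩
  have h2 : y * x * y⁻¹ * x⁻¹ = z := congrArg Subtype.val hy
  rw [Subgroup.mem_center_iff.1 hz x, ← h2]
  group

/-- An irreducible character nontrivial on the centre vanishes off the centre. -/
theorem vanish [Fact p.Prime] (hP : Cfsg.IsExtraspecial p P) {χ : P → ℂ}
    (hχ : Cfsg.IsIrrCharacter P χ) {z : P} (hz : z ∈ Subgroup.center P) (hne : χ z ≠ χ 1) {x : P}
    (hx : x ∉ Subgroup.center P) : χ x = 0 := by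
  obtain ⟨c, hc⟩ := central_scalar hχ hz
  obtain ⟨y, hy⟩ := exists_conj_eq_mul hP hx hz
  have h1 := char_isClassFunction (isCharacter_of_isIrr hχ) x y
  rw [hy, hc] at h1
  by_contra h0
  apply hne
  have hc1 : c = 1 := mul_right_cancel₀ h0 (h1.trans (one_mul _).symm)
  simpa [hc1] using hc 1

/-- An irreducible character nontrivial on the centre has degree `p ^ n`. -/
theorem degree_eq [Fintype P] [Fact p.Prime] (hP : Cfsg.IsExtraspecial p P) {n : ℕ}
    (hcard : Nat.card P = p ^ (2 * n + 1)) {χ : P → ℂ}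
    (hχ : Cfsg.IsIrrCharacter P χ) {z : P} (hz : z ∈ Subgroup.center P) (hne : χ z ≠ χ 1) :
    χ 1 = (p : ℂ) ^ n := by
  classical
  obtain ⟨d, hd⟩ := char_one_nat (isCharacter_of_isIrr hχ)
  have hnorm : ∀ w ∈ Subgroup.center P, χ w * conj (χ w) = (d : ℂ) ^ 2 := by
    intro w hw
    obtain ⟨c, hc⟩ := central_scalar hχ hw
    have h1 := hc w⁻¹
    rw [inv_mul_cancel, char_inv (isCharacter_of_isIrr hχ), hd] at h1
    have h2 : χ w = c * d := by simpa [hd] using hc 1
    rw [h2, map_mul, Complex.conj_natCast] at h1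
    rw [h2, map_mul, Complex.conj_natCast]
    linear_combination (-(d : ℂ)) * h1
  have h := classInner_isIrr_self hχ
  rw [classInner_def, inv_mul_eq_one₀ natCard_ne_zero] at h
  rw [← Finset.sum_filter_add_sum_filter_not Finset.univ (· ∈ Subgroup.center P),
    Finset.sum_congr rfl (g := fun _ => (d : ℂ) ^ 2) (fun w hw => hnorm w (Finset.mem_filter.1 hw).2),
    Finset.sum_eq_zero (s := Finset.univ.filter fun w => ¬ w ∈ Subgroup.center P)
      (fun w hw => by rw [vanish hP hχ hz hne (Finset.mem_filter.1 hw).2, zero_mul]),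
    add_zero, Finset.sum_const, nsmul_eq_mul, ← Fintype.card_subtype,
    ← Nat.card_eq_fintype_card, hP.2, hcard] at h
  have h' : p * d ^ 2 = p ^ (2 * n + 1) := by exact_mod_cast h.symm
  have h'' : d ^ 2 = (p ^ n) ^ 2 :=
    Nat.eq_of_mul_eq_mul_left (Fact.out : p.Prime).pos (h'.trans (by ring))
  rw [hd, Nat.pow_left_injective (by norm_num : (2 : ℕ) ≠ 0) h'', Nat.cast_pow]

/-- An irreducible character trivial on the centre is linear. -/
theorem degree_eq_one (hP : Cfsg.IsExtraspecial p P) {χ : P → ℂ}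
    (hχ : Cfsg.IsIrrCharacter P χ) (htriv : ∀ z ∈ Subgroup.center P, χ z = χ 1) : χ 1 = 1 := by
  obtain ⟨ψ, -, hψ, hirr⟩ :=
    exists_deflate_quotient (Subgroup.center P) (isCharacter_of_isIrr hχ) htriv
  rw [← hψ 1, QuotientGroup.mk_one]
  refine irr_degree_one_of_comm (fun a b => ?_) (hirr hχ)
  induction a using QuotientGroup.induction_on with
  | H x =>
    induction b using QuotientGroup.induction_on with
    | H y =>
      rw [← QuotientGroup.mk_mul, ← QuotientGroup.mk_mul, QuotientGroup.eq]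
      have h : ⁅y⁻¹, x⁻¹⁆ ∈ Subgroup.center P := hP.1.2.2.le <| by
        rw [commutator_def]
        exact Subgroup.commutator_mem_commutator (Subgroup.mem_top _) (Subgroup.mem_top _)
      simpa [commutatorElement_def, mul_assoc] using h

end Cfsg.Agent.CharTheory.Extraspecial
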