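import Mathlib
import Cfsg.Agent.S0870
import Cfsg.Agent.Lib.CharTheory.IndBasic

/-!
Quasi-elementary subgroups and the integral combination of their permutation characters.
-/

set_option autoImplicit false

namespace Cfsg.Agent.CharTheory.QuasiElementary

open Cfsg.Agent.CharTheory.IndBasic

universe u

variable {G : Type u} [Group G]

/-- `H` has a cyclic normal subgroup of order prime to `p` with `p`-power index. -/
def IsQuasiElem (p : ℕ) (H : Subgroup G) : Prop :=
  ∃ C : Subgroup G, C ≤ H ∧ H ≤ Subgroup.normalizer (C : Set G) ∧ IsCyclic C ∧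
    Nat.Coprime (Nat.card C) p ∧ ∃ k : ℕ, C.relIndex H = p ^ k

theorem relIndex_sup_of_le_normalizer {C H : Subgroup G}
    (h : H ≤ Subgroup.normalizer (C : Set G)) : C.relIndex (H ⊔ C) = C.relIndex H := by
  set N := Subgroup.normalizer (C : Set G) with hN
  have hCN : C ≤ N := Subgroup.le_normalizer
  haveI : (C.subgroupOf N).Normal := Subgroup.normal_in_normalizer
  rw [← Subgroup.relIndex_subgroupOf (sup_le h hCN), ← Subgroup.relIndex_subgroupOf h,
    Subgroup.subgroupOf_sup h hCN, Subgroup.relIndex_sup_right]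

theorem isQuasiElem_of_le [Finite G] {p : ℕ} (hp : p.Prime) {H U : Subgroup G}
    (h : IsQuasiElem p H) (hU : U ≤ H) : IsQuasiElem p U := by
  obtain ⟨C, hCH, hHN, hcyc, hcop, k, hk⟩ := h
  refine ⟨C ⊓ U, inf_le_right, ?_, ?_, ?_, ?_⟩
  · intro g hg
    refine Subgroup.mem_normalizer_iff.mpr fun x => ?_
    have h1 := Subgroup.mem_normalizer_iff.mp (hHN (hU hg)) x
    have h2 : x ∈ U ↔ g * x * g⁻¹ ∈ U :=
      ⟨fun hx => U.mul_mem (U.mul_mem hg hx) (U.inv_mem hg), fun hx => by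
        simpa [mul_assoc] using U.mul_mem (U.mul_mem (U.inv_mem hg) hx) hg⟩
    simp only [Subgroup.mem_inf, h1, h2]
  · exact Subgroup.isCyclic_of_le (inf_le_left (b := U))
  · exact hcop.coprime_dvd_left (Subgroup.card_dvd_of_le inf_le_left)
  · have hmul := Subgroup.relIndex_mul_relIndex C (U ⊔ C) H le_sup_right (sup_le hU hCH)
    have hdvd : (C ⊓ U).relIndex U ∣ p ^ k := by
      rw [Subgroup.inf_relIndex_right, ← relIndex_sup_of_le_normalizer (hU.trans hHN), ← hk]
      exact Dvd.intro _ hmul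
    obtain ⟨i, -, hi⟩ := (Nat.dvd_prime_pow hp).mp hdvd
    exact ⟨i, hi⟩

/-- Splitting an element into its `p'`-part and `p`-part. -/
theorem exists_pPart_decomp [Finite G] (x : G) {p : ℕ} (hp : p.Prime) :
    ∃ u v : G, x = u * v ∧ Commute u v ∧ u ∈ Subgroup.zpowers x ∧ v ∈ Subgroup.zpowers x ∧
      (∃ a : ℕ, orderOf v = p ^ a) ∧ Nat.Coprime (orderOf u) p := by
  obtain ⟨a, m, hm, hn⟩ := Nat.exists_eq_pow_mul_and_not_dvd (orderOf_pos x).ne' p hp.ne_one
  have hcop : IsCoprime ((p ^ a : ℕ) : ℤ) (m : ℤ) :=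
    Int.isCoprime_iff_gcd_eq_one.mpr ((hp.coprime_iff_not_dvd.mpr hm).pow_left a)
  obtain ⟨s, t, hst⟩ := hcop
  have hu : (x ^ (s * ((p ^ a : ℕ) : ℤ))) ^ m = 1 := by
    rw [← zpow_natCast, ← zpow_mul, mul_assoc, ← Nat.cast_mul, ← hn, mul_comm, zpow_mul,
      zpow_natCast, pow_orderOf_eq_one, one_zpow]
  have hv : (x ^ (t * (m : ℤ))) ^ (p ^ a) = 1 := by
    rw [← zpow_natCast, ← zpow_mul, mul_assoc, ← Nat.cast_mul, mul_comm m, ← hn, mul_comm,
      zpow_mul, zpow_natCast, pow_orderOf_eq_one, one_zpow]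
  refine ⟨x ^ (s * ((p ^ a : ℕ) : ℤ)), x ^ (t * (m : ℤ)), ?_, Commute.zpow_zpow_self x _ _, Subgroup.zpow_mem _ (Subgroup.mem_zpowers x) _,
    Subgroup.zpow_mem _ (Subgroup.mem_zpowers x) _, ?_, ?_⟩
  · rw [← zpow_add, hst, zpow_one]
  · obtain ⟨b, -, hb⟩ := (Nat.dvd_prime_pow hp).mp (orderOf_dvd_of_pow_eq_one hv)
    exact ⟨b, hb⟩
  · exact ((hp.coprime_iff_not_dvd.mpr hm).symm).coprime_dvd_left (orderOf_dvd_of_pow_eq_one hu)

variable [Fintype G]

/-- Some quasi-elementary permutation character is prime to `p` at `x`. -/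
theorem exists_value_not_dvd (x : G) {p : ℕ} (hp : p.Prime) :
    ∃ H : Subgroup G, IsQuasiElem p H ∧ ∃ n : ℕ, Cfsg.indFun H (fun _ => 1) x = (n : ℂ) ∧ ¬ p ∣ n := by
  classical
  haveI := Fact.mk hp
  obtain ⟨u, v, hx, huv, hux, hvx, ⟨a, hva⟩, hucop⟩ := exists_pPart_decomp x hp
  set C := Subgroup.zpowers u with hC
  set N := Subgroup.normalizer (C : Set G) with hN
  have hCN : C ≤ N := Subgroup.le_normalizer
  have hvN : v ∈ N := by
    refine Subgroup.centralizer_le_normalizer _ (Subgroup.mem_centralizer_iff.mpr fun c hc => ?_)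
    obtain ⟨i, rfl⟩ := Subgroup.mem_zpowers_iff.mp hc
    exact (huv.zpow_left i).eq
  have hxN : x ∈ N := hx ▸ N.mul_mem (hCN (Subgroup.mem_zpowers u)) hvN
  have hvp : IsPGroup p (Subgroup.zpowers (⟨v, hvN⟩ : N)) :=
    IsPGroup.of_card (n := a) (by rw [Nat.card_zpowers, Subgroup.orderOf_mk, hva])
  obtain ⟨P, hP⟩ := hvp.exists_le_sylow
  set P0 := (P : Subgroup N).map N.subtype with hP0
  have hP0N : P0 ≤ N := Subgroup.map_subtype_le _
  set H := P0 ⊔ C with hH
  have hHN : H ≤ N := sup_le hP0N hCN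
  have hQ : IsQuasiElem p H := by
    refine ⟨C, le_sup_right, hHN, inferInstance, by rwa [hC, Nat.card_zpowers], ?_⟩
    have h1 : C.relIndex H ∣ Nat.card P0 := by
      rw [hH, relIndex_sup_of_le_normalizer hP0N]
      exact Subgroup.index_dvd_card _
    obtain ⟨j, hj⟩ := IsPGroup.iff_card.mp (P.2.map N.subtype)
    rw [hP0, hj] at h1
    obtain ⟨i, -, hi⟩ := (Nat.dvd_prime_pow hp).mp h1
    exact ⟨i, hi⟩
  refine ⟨H, hQ, _, indFun_one_eq_card_fixed H x, ?_⟩
  -- the cosets inside `N`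
  set H' : Subgroup N := H.subgroupOf N with hH'
  let f : N ⧸ H' → G ⧸ H := Quotient.map' (fun n => (n : G)) fun n n' h => by
    rw [QuotientGroup.leftRel_apply] at h ⊢
    exact h
  have hfmk : ∀ n : N, f (n : N ⧸ H') = ((n : G) : G ⧸ H) := fun _ => rfl
  have hfinj : Function.Injective f := by
    intro c c'
    obtain ⟨n, rfl⟩ := QuotientGroup.mk_surjective c
    obtain ⟨n', rfl⟩ := QuotientGroup.mk_surjective c'
    intro h
    rw [hfmk, hfmk, QuotientGroup.eq] at h
    exact QuotientGroup.eq.mpr h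
  have hxv : ∀ n : N, x • ((n : G) : G ⧸ H) = ((n : G) : G ⧸ H) ↔
      v • ((n : G) : G ⧸ H) = ((n : G) : G ⧸ H) := by
    intro n
    have hu : u • ((n : G) : G ⧸ H) = ((n : G) : G ⧸ H) := by
      rw [MulAction.Quotient.smul_coe, eq_comm, QuotientGroup.eq, smul_eq_mul, ← mul_assoc]
      have h1 : (n : G)⁻¹ * u * ((n : G)⁻¹)⁻¹ ∈ C :=
        (Subgroup.mem_normalizer_iff.mp (N.inv_mem n.2) u).mp (Subgroup.mem_zpowers u)
      rw [inv_inv] at h1
      exact (le_sup_right : C ≤ H) h1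
    rw [hx, huv.eq, mul_smul, hu]
  have hinN : ∀ g : G, x • ((g : G) : G ⧸ H) = (g : G ⧸ H) → g ∈ N := by
    intro g hg
    rw [MulAction.Quotient.smul_coe, eq_comm, QuotientGroup.eq, smul_eq_mul, ← mul_assoc] at hg
    have hu : g⁻¹ * u * g ∈ H := by
      obtain ⟨i, hi⟩ := Subgroup.mem_zpowers_iff.mp hux
      have h1 : (g⁻¹ * x * g⁻¹⁻¹) ^ i = g⁻¹ * x ^ i * g⁻¹⁻¹ := conj_zpow
      rw [inv_inv, hi] at h1
      exact h1 ▸ H.zpow_mem hg i
    -- the `p'`-elements of `H` lie in `C`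
    have huC : g⁻¹ * u * g ∈ C := by
      obtain ⟨C0, hCH0, hHN0, -, hcop0, i, hi⟩ : IsQuasiElem p H := hQ
      have hCH : C ≤ H := le_sup_right
      haveI : (C.subgroupOf H).Normal :=
        Subgroup.normal_subgroupOf_iff_le_normalizer hCH |>.mpr hHN
      have horder : Nat.Coprime (orderOf (g⁻¹ * u * g)) p := by
        have := (MulAut.conj g⁻¹).orderOf_eq u
        simp only [MulAut.conj_apply, inv_inv] at this
        rwa [this]
      obtain ⟨j, hj⟩ : ∃ j : ℕ, C.relIndex H = p ^ j := by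
        have h1 : C.relIndex H ∣ Nat.card P0 := by
          rw [hH, relIndex_sup_of_le_normalizer hP0N]
          exact Subgroup.index_dvd_card _
        obtain ⟨j, hj⟩ := IsPGroup.iff_card.mp (P.2.map N.subtype)
        rw [hP0, hj] at h1
        obtain ⟨i, -, hi⟩ := (Nat.dvd_prime_pow hp).mp h1
        exact ⟨i, hi⟩
      have hpow : (⟨_, hu⟩ : H) ^ (p ^ j) ∈ C.subgroupOf H := hj ▸ Subgroup.pow_index_mem _ _
      have hmem : (g⁻¹ * u * g) ^ (p ^ j) ∈ C := hpow
      obtain ⟨k, hk⟩ := exists_pow_eq_self_of_coprime (horder.pow_right j).symm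
      exact hk ▸ C.pow_mem hmem k
    -- so `g⁻¹` normalises `C`
    have heq : (C.map (MulAut.conj g⁻¹).toMonoidHom) = C := by
      apply Subgroup.eq_of_le_of_card_ge
      · rw [hC, MonoidHom.map_zpowers, Subgroup.zpowers_le]
        simpa using huC
      · rw [Subgroup.card_map_of_injective (MulAut.conj g⁻¹).injective]
    have hg' : g⁻¹ ∈ N := by
      refine Subgroup.mem_normalizer_iff.mpr fun y => ?_
      conv_rhs => rw [← heq]
      rw [Subgroup.mem_map]
      constructor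
      · exact fun hy => ⟨y, hy, rfl⟩
      · rintro ⟨y', hy', he⟩
        rwa [← (MulAut.conj g⁻¹).injective (show MulAut.conj g⁻¹ y' = MulAut.conj g⁻¹ y from he)]
    exact inv_mem_iff.mp hg'
  have e : {c : N ⧸ H' // c ∈ MulAction.fixedPoints (Subgroup.zpowers (⟨v, hvN⟩ : N)) (N ⧸ H')} ≃
      {c : G ⧸ H // x • c = c} := by
    refine Equiv.ofBijective (fun c => ⟨f c.1, ?_⟩) ⟨fun c c' h => ?_, fun c => ?_⟩
    · obtain ⟨c, hc⟩ := c
      obtain ⟨n, rfl⟩ := QuotientGroup.mk_surjective c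
      rw [hfmk, hxv]
      exact congrArg f (hc ⟨_, Subgroup.mem_zpowers _⟩)
    · exact Subtype.ext (hfinj (congrArg Subtype.val h))
    · obtain ⟨c, hc⟩ := c
      obtain ⟨g, rfl⟩ := QuotientGroup.mk_surjective c
      have hgN := hinN g hc
      refine ⟨⟨((⟨g, hgN⟩ : N) : N ⧸ H'), fun z => ?_⟩, Subtype.ext (hfmk _)⟩
      have hstab : (⟨v, hvN⟩ : N) ∈ MulAction.stabilizer N ((⟨g, hgN⟩ : N) : N ⧸ H') :=
        hfinj (((hxv ⟨g, hgN⟩).mp hc))
      exact (Subgroup.zpowers_le.mpr hstab) z.2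
  have hcong := hvp.card_modEq_card_fixedPoints (N ⧸ H')
  rw [← Nat.card_congr e]
  intro hdvd
  have h1 : p ∣ H'.index := by
    rw [Subgroup.index_eq_card]
    exact (Nat.ModEq.dvd_iff hcong dvd_rfl).mpr hdvd
  have h2 : (P : Subgroup N) ≤ H' := by
    intro n hn
    exact (le_sup_left : P0 ≤ H) ⟨n, hn, rfl⟩
  exact P.not_dvd_index (h1.trans (Subgroup.index_dvd_of_le h2))

/-- Integral combinations of quasi-elementary permutation characters, as integer functions. -/
def permRing (p : ℕ) (G : Type u) [Group G] [Fintype G] : AddSubgroup (G → ℤ) where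
  carrier := {f | ∃ a : Subgroup G → ℤ, (∀ H, a H ≠ 0 → IsQuasiElem p H) ∧
    (fun x => (f x : ℂ)) = ∑ H : Subgroup G, (a H : ℂ) • Cfsg.indFun H (fun _ => 1)}
  zero_mem' := ⟨0, fun H h => absurd rfl h, by funext x; simp⟩
  add_mem' := by
    rintro f g ⟨a, ha, hf⟩ ⟨b, hb, hg⟩
    refine ⟨a + b, fun H h => ?_, ?_⟩
    · by_cases h1 : a H = 0
      · refine hb H fun h2 => h ?_
        rw [Pi.add_apply, h1, h2, add_zero]
      · exact ha H h1
    · rw [show (fun x => (((f + g) x : ℤ) : ℂ)) = (fun x => (f x : ℂ)) + fun x => (g x : ℂ) from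
        funext fun x => by simp, hf, hg, ← Finset.sum_add_distrib]
      simp [add_smul]
  neg_mem' := by
    rintro f ⟨a, ha, hf⟩
    refine ⟨-a, fun H h => ha H fun h2 => h (by simp [h2]), ?_⟩
    rw [show (fun x => (((-f) x : ℤ) : ℂ)) = -(fun x => (f x : ℂ)) from funext fun x => by simp, hf]
    simp

theorem permRing_mul {p : ℕ} (hp : p.Prime) {f g : G → ℤ} (hf : f ∈ permRing p G)
    (hg : g ∈ permRing p G) : f * g ∈ permRing p G := by
  classical
  obtain ⟨a, ha, hf⟩ := hf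
  obtain ⟨b, hb, hg⟩ := hg
  choose c hc hmul using fun H K : Subgroup G => Cfsg.Agent.S0870.result H K
  refine ⟨fun U => ∑ H : Subgroup G, ∑ K : Subgroup G, a H * b K * (c H K U : ℤ), fun U hU => ?_, ?_⟩
  · obtain ⟨H, -, hH⟩ := Finset.exists_ne_zero_of_sum_ne_zero hU
    obtain ⟨K, -, hK⟩ := Finset.exists_ne_zero_of_sum_ne_zero hH
    obtain ⟨h1, h2⟩ := mul_ne_zero_iff.mp hK
    exact isQuasiElem_of_le hp (ha H (mul_ne_zero_iff.mp h1).1) (hc H K U (by exact_mod_cast h2))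
  · rw [show (fun x => (((f * g) x : ℤ) : ℂ)) = (fun x => (f x : ℂ)) * fun x => (g x : ℂ) from
      funext fun x => by simp, hf, hg, Finset.sum_mul_sum]
    simp only [smul_mul_smul_comm, hmul, Finset.smul_sum, smul_smul]
    push_cast
    simp only [Finset.sum_smul]
    conv_rhs => rw [Finset.sum_comm]
    exact Finset.sum_congr rfl fun H _ => Finset.sum_comm

theorem exists_permRing_not_dvd (x : G) {p : ℕ} (hp : p.Prime) :
    ∃ f ∈ permRing p G, (p : ℤ) ∣ f x - 1 := by
  classical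
  obtain ⟨H, hH, n, hn, hpn⟩ := exists_value_not_dvd x hp
  have hco : IsCoprime (n : ℤ) (p : ℤ) :=
    Int.isCoprime_iff_gcd_eq_one.mpr ((hp.coprime_iff_not_dvd.mpr hpn).symm)
  obtain ⟨s, t, hst⟩ := hco
  refine ⟨fun y => s * (Nat.card {c : G ⧸ H // y • c = c} : ℤ),
    ⟨fun K => if K = H then s else 0, fun K hK => ?_, ?_⟩, ⟨-t, ?_⟩⟩
  · by_cases h : K = H
    · exact h ▸ hH
    · exact absurd (if_neg h) hK
  · funext y
    rw [Finset.sum_apply, Finset.sum_eq_single H (fun K _ hK => by simp [hK]) (by simp)]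
    simp [indFun_one_eq_card_fixed]
  · rw [indFun_one_eq_card_fixed] at hn
    have hn' : Nat.card {c : G ⧸ H // x • c = c} = n := by exact_mod_cast hn
    simp only [hn']
    linear_combination hst

/-- The integral combination equal to a constant prime to `p`. -/
theorem exists_constant (p : ℕ) (hp : p.Prime) (G : Type u) [Group G] [Fintype G] :
    ∃ m : ℤ, ¬ (p : ℤ) ∣ m ∧ (fun _ : G => m) ∈ permRing p G := by
  classical
  have main : ∀ T : Finset G, ∃ g ∈ permRing p G, ∀ x ∈ T, (p : ℤ) ∣ g x - 1 := by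
    intro T
    induction T using Finset.induction_on with
    | empty => exact ⟨0, zero_mem _, by simp⟩
    | insert a T ha ih =>
      obtain ⟨g, hg, hg1⟩ := ih
      obtain ⟨f, hf, hf1⟩ := exists_permRing_not_dvd a hp
      refine ⟨f + g - f * g, sub_mem (add_mem hf hg) (permRing_mul hp hf hg), fun x hx => ?_⟩
      rw [show (f + g - f * g) x - 1 = -((f x - 1) * (g x - 1)) by simp; ring, dvd_neg]
      rcases Finset.mem_insert.mp hx with rfl | hx
      · exact Dvd.dvd.mul_right hf1 _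
      · exact Dvd.dvd.mul_left (hg1 x hx) _
  obtain ⟨g, hg, hg1⟩ := main Finset.univ
  have hpoly : ∀ V : Finset ℤ, ∃ r ∈ permRing p G,
      ∀ x : G, ∏ v ∈ V, (v - g x) = ∏ v ∈ V, v - r x := by
    intro V
    induction V using Finset.induction_on with
    | empty => exact ⟨0, zero_mem _, by simp⟩
    | insert a V ha ih =>
      obtain ⟨r, hr, hr1⟩ := ih
      refine ⟨a • r + (∏ v ∈ V, v) • g - g * r,
        sub_mem (add_mem (zsmul_mem hr _) (zsmul_mem hg _)) (permRing_mul hp hg hr), fun x => ?_⟩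
      rw [Finset.prod_insert ha, Finset.prod_insert ha, hr1]
      simp only [Pi.sub_apply, Pi.add_apply, Pi.smul_apply, Pi.mul_apply, smul_eq_mul]
      ring
  obtain ⟨r, hr, hr1⟩ := hpoly (Finset.univ.image g)
  refine ⟨∏ v ∈ Finset.univ.image g, v, fun hdvd => ?_, ?_⟩
  · obtain ⟨v, hv, hpv⟩ := ((Nat.prime_iff_prime_int.mp hp).dvd_finset_prod_iff _).mp hdvd
    obtain ⟨x, -, rfl⟩ := Finset.mem_image.mp hv
    have := dvd_sub hpv (hg1 x (Finset.mem_univ x))
    rw [sub_sub_cancel] at this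
    exact hp.one_lt.ne' (Nat.dvd_one.mp (by exact_mod_cast this))
  · convert hr using 1
    funext x
    have h := hr1 x
    rw [Finset.prod_eq_zero (f := fun v => v - g x)
      (Finset.mem_image_of_mem g (Finset.mem_univ x)) (sub_self _)] at h
    linarith

end Cfsg.Agent.CharTheory.QuasiElementary
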