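import Mathlib
import Cfsg.Agent.S0854
import Cfsg.Agent.S0873
import Cfsg.Agent.Lib.Characters.Kernel
import Cfsg.Agent.Lib.CharTheory.Basics
import Cfsg.Agent.Lib.CharTheory.Clifford
import Cfsg.Agent.Lib.CharTheory.TransferExt
import Cfsg.Agent.Lib.CharTheory.QuasiElementary

/-!
Brauer's induction theorem and the characterization of generalized characters.
-/

set_option autoImplicit false

namespace Cfsg.Agent.CharTheory.BrauerInduction

open Cfsg.Agent.Characters
open Cfsg.Agent.CharTheory
open scoped ComplexConjugate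

universe u

variable {G : Type u} [Group G]

theorem isElementary_of_mulEquiv {E E' : Type*} [Group E] [Group E'] (e : E ≃* E') {p : ℕ}
    (h : Cfsg.IsElementary p E) : Cfsg.IsElementary p E' := by
  obtain ⟨x, hx, hcop, k, hk⟩ := h
  refine ⟨e x, ?_, by rwa [e.orderOf_eq], k, ?_⟩
  · refine Subgroup.mem_center_iff.mpr fun y => ?_
    rw [← e.apply_symm_apply y, ← map_mul, ← map_mul, Subgroup.mem_center_iff.mp hx]
  · rw [← hk, show Subgroup.zpowers (e x) = (Subgroup.zpowers x).map e.toMonoidHom from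
      (e.toMonoidHom.map_zpowers x).symm]
    exact Subgroup.index_map_of_bijective e.bijective _

variable [Fintype G]

/-- The `ℤ`-span of the characters induced from `p`-elementary subgroups. -/
def elemSpan (p : ℕ) (G : Type u) [Group G] [Fintype G] : AddSubgroup (G → ℂ) :=
  AddSubgroup.closure {f | ∃ (E : Subgroup G) (χ : E → ℂ), Cfsg.IsElementary p E ∧
    Cfsg.IsCharacter E χ ∧ f = Cfsg.indFun E χ}

theorem indFun_sum {ι : Type*} (H : Subgroup G) (s : Finset ι) (f : ι → H → ℂ) :
    Cfsg.indFun H (∑ i ∈ s, f i) = ∑ i ∈ s, Cfsg.indFun H (f i) := by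
  classical
  induction s using Finset.induction_on with
  | empty => simp [indFun_zero]
  | insert a s ha ih => rw [Finset.sum_insert ha, Finset.sum_insert ha, indFun_add, ih]

/-- The projection formula. -/
theorem indFun_mul_classFun (H : Subgroup G) (θ : H → ℂ) {χ : G → ℂ}
    (hχ : Cfsg.IsClassFunction G χ) :
    Cfsg.indFun H (fun h => θ h * χ h) = Cfsg.indFun H θ * χ := by
  funext g
  rw [Pi.mul_apply, Cfsg.indFun, Cfsg.indFun, mul_assoc, Finset.sum_mul]
  congr 1
  refine Finset.sum_congr rfl fun x _ => ?_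
  by_cases hx : x⁻¹ * g * x ∈ H
  · rw [IndBasic.extendByZero_of_mem H _ hx, IndBasic.extendByZero_of_mem H _ hx]
    congr 1
    have h := hχ g x⁻¹
    rw [inv_inv] at h
    exact h
  · rw [IndBasic.extendByZero_of_notMem H _ hx, IndBasic.extendByZero_of_notMem H _ hx, zero_mul]

theorem indFun_indFun (H : Subgroup G) [Fintype H] (K : Subgroup H) {φ : K → ℂ}
    (hφ : Cfsg.IsCharacter K φ) :
    ∃ θ : K.map H.subtype → ℂ, Cfsg.IsCharacter (K.map H.subtype) θ ∧
      Cfsg.indFun H (Cfsg.indFun K φ) = Cfsg.indFun (K.map H.subtype) θ := by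
  obtain ⟨K', hle, rfl⟩ : ∃ K' : Subgroup G, K' ≤ H ∧ K'.subgroupOf H = K :=
    ⟨K.map H.subtype, Subgroup.map_subtype_le K,
      Subgroup.comap_map_eq_self_of_injective H.subtype_injective K⟩
  rw [Subgroup.subgroupOf_map_subtype, inf_of_le_left hle]
  refine ⟨fun x => φ ((Subgroup.subgroupOfEquivOfLe hle).symm x),
    isCharacter_comp (Subgroup.subgroupOfEquivOfLe hle).symm.toMonoidHom hφ, ?_⟩
  rw [← indFun_trans K' H hle]
  congr 1

theorem quasiElem_mem_elemSpan {p : ℕ} (hp : p.Prime) : ∀ (n : ℕ) (H : Subgroup G),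
    Nat.card H = n → QuasiElementary.IsQuasiElem p H → ∀ χ : H → ℂ, Cfsg.IsCharacter H χ →
      Cfsg.indFun H χ ∈ elemSpan p G := by
  intro n
  induction n using Nat.strong_induction_on with
  | _ n ih =>
  intro H hn hQ χ hχ
  classical
  haveI := Fact.mk hp
  haveI : Fintype H := Fintype.ofFinite H
  haveI := Fintype.ofFinite (Cfsg.IrrCharacter H)
  obtain ⟨C, hCH, hHN, hcyc, hcop, k, hk⟩ := hQ
  set C' : Subgroup H := C.subgroupOf H with hC'
  haveI : C'.Normal := (Subgroup.normal_subgroupOf_iff_le_normalizer hCH).mpr hHN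
  haveI : Fintype C' := Fintype.ofFinite C'
  haveI hCcyc : IsCyclic C' := (Subgroup.subgroupOfEquivOfLe hCH).isCyclic.mpr hcyc
  have hC'cop : Nat.Coprime (Nat.card C') p := by
    rwa [Nat.card_congr (Subgroup.subgroupOfEquivOfLe hCH).toEquiv]
  have hC'idx : C'.index = p ^ k := hk
  obtain ⟨P⟩ : Nonempty (Sylow p H) := inferInstance
  have hCP : C' ⊔ (P : Subgroup H) = ⊤ := by
    rw [← Subgroup.index_eq_one]
    by_contra hne
    obtain ⟨q, hq, hqd⟩ := Nat.exists_prime_and_dvd hne
    have h1 : q ∣ p ^ k := hC'idx ▸ hqd.trans (Subgroup.index_dvd_of_le le_sup_left)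
    have h2 : q ∣ (P : Subgroup H).index := hqd.trans (Subgroup.index_dvd_of_le le_sup_right)
    exact P.not_dvd_index ((Nat.prime_dvd_prime_iff_eq hq hp).mp (hq.dvd_of_dvd_pow h1) ▸ h2)
  set Z : Subgroup H := C' ⊓ Subgroup.centralizer ((P : Subgroup H) : Set H) with hZ
  have hZcen : ∀ z ∈ Z, ∀ h : H, h * z = z * h := by
    intro z hz h
    have hle : C' ⊔ (P : Subgroup H) ≤ Subgroup.centralizer ({z} : Set H) := by
      refine sup_le (fun c hc => ?_) fun y hy => ?_
      · refine Subgroup.mem_centralizer_singleton_iff.mpr ?_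
        letI := IsCyclic.commGroup (α := C')
        exact congrArg Subtype.val (mul_comm (⟨c, hc⟩ : C') ⟨z, hz.1⟩)
      · exact Subgroup.mem_centralizer_singleton_iff.mpr (Subgroup.mem_centralizer_iff.mp hz.2 y hy)
    exact Subgroup.mem_centralizer_singleton_iff.mp (hle (hCP ▸ Subgroup.mem_top h))
  set E : Subgroup H := Z ⊔ (P : Subgroup H) with hE
  haveI : Fintype E := Fintype.ofFinite E
  haveI : Z.Normal := ⟨fun z hz h => by rwa [hZcen z hz h, mul_inv_cancel_right]⟩
  have hEelem : Cfsg.IsElementary p E := by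
    haveI : IsCyclic Z := Subgroup.isCyclic_of_le (inf_le_left : Z ≤ C')
    obtain ⟨z, hz⟩ := IsCyclic.exists_generator (α := Z)
    refine ⟨⟨(z : H), (le_sup_left : Z ≤ E) z.2⟩, ?_, ?_, ?_⟩
    · exact Subgroup.mem_center_iff.mpr fun y => Subtype.ext (hZcen _ z.2 y)
    · rw [Subgroup.orderOf_mk, Subgroup.orderOf_coe]
      exact Nat.Coprime.coprime_dvd_left ((orderOf_dvd_natCard z).trans
        (Subgroup.card_dvd_of_le inf_le_left)) hC'cop
    · have hzp : Subgroup.zpowers (⟨(z : H), (le_sup_left : Z ≤ E) z.2⟩ : E) = Z.subgroupOf E := by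
        ext y
        rw [Subgroup.mem_subgroupOf]
        constructor
        · rintro ⟨i, rfl⟩
          exact Z.zpow_mem z.2 i
        · intro hy
          obtain ⟨i, hi⟩ := Subgroup.mem_zpowers_iff.mp (hz ⟨_, hy⟩)
          exact ⟨i, Subtype.ext (by simpa using congrArg Subtype.val hi)⟩
      have hdvd : Z.relIndex E ∣ Nat.card (P : Subgroup H) := by
        rw [hE, Subgroup.relIndex_sup_left]
        exact Subgroup.index_dvd_card _
      obtain ⟨j, hj⟩ := IsPGroup.iff_card.mp P.2
      rw [hj] at hdvd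
      obtain ⟨i, -, hi⟩ := (Nat.dvd_prime_pow hp).mp hdvd
      exact ⟨i, by rw [hzp]; exact hi⟩
  -- `|H : E| |Z| = |C'|`
  have hcards : E.index * Nat.card Z = Nat.card C' := by
    have hcp : ∀ S : Subgroup H, S.Normal → Nat.Coprime (Nat.card S) p →
        Nat.card ↥(S ⊔ (P : Subgroup H)) = Nat.card S * Nat.card (P : Subgroup H) := by
      intro S hS hScop
      obtain ⟨j, hj⟩ := IsPGroup.iff_card.mp P.2
      have hdisj : S ⊓ (P : Subgroup H) = ⊥ := by
        rw [← Subgroup.card_eq_one]
        refine Nat.eq_one_of_dvd_coprimes (k := Nat.card ↥(S ⊓ (P : Subgroup H)))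
          (hScop.pow_right j) (Subgroup.card_dvd_of_le inf_le_left)
          (hj ▸ Subgroup.card_dvd_of_le inf_le_right)
      have h1 := S.relIndex_sup_right (H := (P : Subgroup H))
      have h2 := Subgroup.relIndex_mul_relIndex ⊥ S ((P : Subgroup H) ⊔ S) bot_le le_sup_right
      rw [Subgroup.relIndex_bot_left, Subgroup.relIndex_bot_left, h1,
        ← Subgroup.inf_relIndex_right, hdisj, Subgroup.relIndex_bot_left, sup_comm] at h2
      exact h2.symm
    have hE' := hcp Z inferInstance (hC'cop.coprime_dvd_left (Subgroup.card_dvd_of_le inf_le_left))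
    have hH' := hcp C' inferInstance hC'cop
    rw [hCP, Subgroup.card_top, ← E.index_mul_card, hE, hE', ← mul_assoc] at hH'
    exact Nat.eq_of_mul_eq_mul_right Nat.card_pos hH'
  set Φ : H → ℂ := Cfsg.indFun E (fun _ => 1) with hΦ
  have hΦc : Cfsg.IsCharacter H Φ := isCharacter_indFun E isCharacter_one
  have hΦC : ∀ c : C', Φ (c : H) = if (c : H) ∈ Z then (E.index : ℂ) else 0 := by
    intro c
    rw [hΦ]
    have h0 : (Nat.card E : ℂ) ≠ 0 := natCard_ne_zero
    have hiff : ∀ x : H, x⁻¹ * (c : H) * x ∈ E ↔ (c : H) ∈ Z := by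
      intro x
      constructor
      · intro h
        obtain ⟨z, hz, y, hy, hzy⟩ := Subgroup.mem_sup_of_normal_left.mp h
        have hxc : x⁻¹ * (c : H) * x ∈ C' := by
          simpa using (inferInstance : C'.Normal).conj_mem (c : H) c.2 x⁻¹
        have hyC : y ∈ C' := by
          have hy' : y = z⁻¹ * (x⁻¹ * (c : H) * x) := by rw [← hzy, inv_mul_cancel_left]
          rw [hy']
          exact C'.mul_mem (C'.inv_mem (hz : z ∈ Z).1) hxc
        have hy1 : y = 1 := by
          obtain ⟨j, hj⟩ := IsPGroup.iff_card.mp P.2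
          refine orderOf_eq_one_iff.mp (Nat.eq_one_of_dvd_coprimes (hC'cop.pow_right j)
            (Subgroup.orderOf_dvd_natCard C' hyC) (hj ▸ Subgroup.orderOf_dvd_natCard _ hy))
        rw [hy1, mul_one] at hzy
        have := (inferInstance : Z.Normal).conj_mem _ (hzy ▸ hz) x
        simpa [mul_assoc] using this
      · intro h
        exact (le_sup_left : Z ≤ E) (by simpa using (inferInstance : Z.Normal).conj_mem _ h x⁻¹)
    apply mul_left_cancel₀ h0
    rw [IndBasic.card_mul_indFun]
    simp only [IndBasic.extendByZero_one, hiff]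
    split_ifs with h
    · rw [Finset.sum_const, Finset.card_univ, nsmul_eq_mul, mul_one, ← Nat.card_eq_fintype_card,
        ← Nat.cast_mul, E.card_mul_index]
    · simp
  -- inner products with linear characters of `C'`
  have hinner : ∀ lam : C' → ℂ, Cfsg.IsCharacter C' lam → lam 1 = 1 →
      (Cfsg.classInner (fun c : C' => Φ c) lam ≠ 0 → ∀ c : C', (c : H) ∈ Z → lam c = 1) ∧
        ((∀ c : C', lam c = 1) → Cfsg.classInner (fun c : C' => Φ c) lam = 1) := by
    intro lam hl hl1
    have hval : Cfsg.classInner (fun c : C' => Φ c) lam = (Nat.card C' : ℂ)⁻¹ *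
        ((E.index : ℂ) * ∑ c ∈ Finset.univ.filter (fun c : C' => (c : H) ∈ Z), conj (lam c)) := by
      rw [classInner_def]
      congr 1
      rw [Finset.mul_sum, Finset.sum_filter]
      exact Finset.sum_congr rfl fun c _ => by rw [hΦC]; split_ifs <;> simp
    constructor
    · intro hne c hc
      by_contra hc1
      apply hne
      rw [hval]
      have hshift : (∑ z ∈ Finset.univ.filter (fun c : C' => (c : H) ∈ Z), conj (lam z)) =
          conj (lam c) * ∑ z ∈ Finset.univ.filter (fun c : C' => (c : H) ∈ Z), conj (lam z) := by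
        rw [Finset.mul_sum]
        refine (Finset.sum_equiv (Equiv.mulLeft c) (fun z => ?_) fun z _ => ?_).symm
        · simp only [Finset.mem_filter, Finset.mem_univ, true_and, Equiv.coe_mulLeft, Subgroup.coe_mul]
          exact (Z.mul_mem_cancel_left hc).symm
        · rw [Equiv.coe_mulLeft, char_mul_of_degree_one hl hl1, map_mul]
      rcases eq_or_ne (∑ z ∈ Finset.univ.filter (fun c : C' => (c : H) ∈ Z), conj (lam z)) 0 with
        h0 | h0
      · rw [h0, mul_zero, mul_zero]
      · have := (mul_eq_right₀ h0).mp hshift.symm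
        exact absurd (by simpa using congrArg conj this) hc1
    · intro hone
      rw [hval, Finset.sum_congr rfl (g := fun _ => (1 : ℂ)) (fun c _ => by rw [hone, map_one]),
        Finset.sum_const, nsmul_eq_mul, mul_one]
      have hcard : (Finset.univ.filter (fun c : C' => (c : H) ∈ Z)).card = Nat.card Z := by
        rw [Nat.card_eq_fintype_card, ← Fintype.card_subtype]
        exact Fintype.card_congr ⟨fun c => ⟨c.1, c.2⟩, fun z => ⟨⟨z, z.2.1⟩, z.2⟩,
          fun _ => rfl, fun _ => rfl⟩
      rw [hcard, ← Nat.cast_mul, hcards, inv_mul_cancel₀ natCard_ne_zero]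
  -- decomposition
  choose a ha using fun ψ : Cfsg.IrrCharacter H => classInner_char_nat hΦc (irr_isCharacter ψ)
  have hexp : Φ = ∑ ψ : Cfsg.IrrCharacter H, (a ψ : ℂ) • (ψ : H → ℂ) := by
    conv_lhs => rw [classFun_eq_sum (char_isClassFunction hΦc)]
    simp only [ha]
  have ha1 : a (trivIrr H) = 1 := by
    have h := ha (trivIrr H)
    rw [trivIrr_coe, hΦ, frobenius_reciprocity E _ (char_isClassFunction isCharacter_one),
      classInner_isIrr_self (isIrrCharacter_one (G := E))] at h
    exact_mod_cast h.symm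
  have hproper : ∀ ψ : Cfsg.IrrCharacter H, ψ ≠ trivIrr H → a ψ ≠ 0 →
      ∃ T : Subgroup H, T ≠ ⊤ ∧ ∃ ψ' : T → ℂ, Cfsg.IsCharacter T ψ' ∧
        Cfsg.indFun T ψ' = (ψ : H → ℂ) := by
    intro ψ hψ haψ
    have hres : Cfsg.IsCharacter C' (fun c : C' => (ψ : H → ℂ) c) :=
      isCharacter_restrict C' (irr_isCharacter ψ)
    obtain ⟨lam, hlam⟩ : ∃ lam : Cfsg.IrrCharacter C',
        Cfsg.classInner (fun c : C' => (ψ : H → ℂ) c) (lam : C' → ℂ) ≠ 0 := by
      by_contra hall
      push Not at hall
      have h0 := classFun_eq_zero (char_isClassFunction hres) fun f hf => hall ⟨f, hf⟩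
      exact irr_one_ne_zero ψ.2 (congrFun h0 1)
    have hl1 : (lam : C' → ℂ) 1 = 1 := by
      letI := IsCyclic.commGroup (α := C')
      exact irr_degree_one_of_comm (fun x y => mul_comm x y) lam.2
    have hΦlam : Cfsg.classInner (fun c : C' => Φ c) (lam : C' → ℂ) ≠ 0 :=
      Clifford.classInner_restrict_ne_zero C' hΦc ψ.2 (irr_isCharacter lam)
        (by rw [ha]; exact_mod_cast haψ) hlam
    let T : Subgroup H :=
      { carrier := {g | Clifford.conjBy C' g (lam : C' → ℂ) = lam}
        one_mem' := Clifford.conjBy_one C' _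
        mul_mem' := fun {x y} hx hy => by
          show Clifford.conjBy C' (x * y) (lam : C' → ℂ) = lam
          rw [← Clifford.conjBy_conjBy, show Clifford.conjBy C' x (lam : C' → ℂ) = lam from hx,
            show Clifford.conjBy C' y (lam : C' → ℂ) = lam from hy]
        inv_mem' := fun {x} hx => by
          show Clifford.conjBy C' x⁻¹ (lam : C' → ℂ) = lam
          apply Clifford.conjBy_injective C' x
          rw [Clifford.conjBy_conjBy, inv_mul_cancel, Clifford.conjBy_one,
            show Clifford.conjBy C' x (lam : C' → ℂ) = lam from hx] }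
    haveI : Fintype T := Fintype.ofFinite T
    have hCT : C' ≤ T := fun g hg => funext fun m =>
      irr_isClassFunction lam m ⟨g, hg⟩
    refine ⟨T, fun hT => ?_, ?_⟩
    · have hinv : ∀ (g : H) (c : C'), (lam : C' → ℂ) ⟨g * c * g⁻¹,
          (inferInstance : C'.Normal).conj_mem (c : H) c.2 g⟩ = (lam : C' → ℂ) c := fun g c => by
        have hg : g ∈ T := hT ▸ Subgroup.mem_top g
        exact congrFun hg c
      have hone := Cfsg.Agent.S0873.result p C' (P : Subgroup H) P.2 hC'cop hCP (lam : C' → ℂ)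
        ⟨irr_isCharacter lam, hl1⟩ hinv fun c hc => by
          exact ((hinner _ (irr_isCharacter lam) hl1).1 hΦlam c ⟨c.2, hc⟩)
      have h1 := (hinner _ (irr_isCharacter lam) hl1).2 (fun c => congrFun hone c)
      rw [hexp] at h1
      choose b hb using fun β : Cfsg.IrrCharacter H =>
        classInner_char_nat (isCharacter_restrict C' (irr_isCharacter β)) (irr_isCharacter lam)
      have hres' : (fun c : C' => (∑ β : Cfsg.IrrCharacter H, (a β : ℂ) • (β : H → ℂ)) c) =
          ∑ β : Cfsg.IrrCharacter H, (a β : ℂ) • fun c : C' => (β : H → ℂ) c := by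
        funext c; simp [Finset.sum_apply]
      rw [hres', classInner_sum_left] at h1
      simp only [classInner_smul_left, hb] at h1
      have h2 : ∑ β, a β * b β = 1 := by exact_mod_cast h1
      have hb1 : b (trivIrr H) = 1 := by
        have := hb (trivIrr H)
        rw [hone, trivIrr_coe, classInner_isIrr_self (isIrrCharacter_one (G := C'))] at this
        exact_mod_cast this.symm
      have hbψ : b ψ ≠ 0 := fun h => hlam (by rw [hb, h, Nat.cast_zero])
      have h3 := Finset.add_le_sum (f := fun β => a β * b β) (fun _ _ => Nat.zero_le _)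
        (Finset.mem_univ ψ) (Finset.mem_univ (trivIrr H)) hψ
      rw [h2, ha1, hb1] at h3
      have : 0 < a ψ * b ψ := Nat.pos_of_ne_zero (mul_ne_zero haψ hbψ)
      omega
    · obtain ⟨ψ', hψ', hind, -⟩ := Cfsg.Agent.S0854.result C' (lam : C' → ℂ) lam.2 T
        (fun g => ⟨fun h m => congrFun h m, fun h => funext h⟩) hCT (ψ : H → ℂ) ψ.2 hlam
      exact ⟨ψ', isCharacter_of_isIrr hψ', hind⟩
  -- conclusion
  have hmain : Cfsg.indFun H χ = Cfsg.indFun H (Cfsg.indFun E fun e : E => χ e) -
      ∑ ψ ∈ Finset.univ.erase (trivIrr H), Cfsg.indFun H ((a ψ : ℂ) • ((ψ : H → ℂ) * χ)) := by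
    have hproj : Cfsg.indFun E (fun e : E => χ e) = Φ * χ := by
      rw [hΦ, ← indFun_mul_classFun E _ (char_isClassFunction hχ)]
      simp
    rw [hproj, hexp, Finset.sum_mul, ← Finset.add_sum_erase _ _ (Finset.mem_univ (trivIrr H)),
      indFun_add, indFun_sum]
    simp only [smul_mul_assoc, add_sub_cancel_right, ha1, Nat.cast_one, one_smul]
    congr 1
    funext h
    simp
  rw [hmain]
  refine sub_mem ?_ (sum_mem fun ψ hψ => ?_)
  · obtain ⟨θ, hθ, he⟩ := indFun_indFun H E (isCharacter_restrict E hχ)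
    exact AddSubgroup.subset_closure ⟨_, θ, isElementary_of_mulEquiv
      (E.equivMapOfInjective H.subtype H.subtype_injective) hEelem, hθ, he⟩
  · rw [indFun_smul, Nat.cast_smul_eq_nsmul]
    rcases eq_or_ne (a ψ) 0 with h0 | h0
    · rw [h0, zero_smul]; exact zero_mem _
    refine nsmul_mem ?_ _
    obtain ⟨T, hT, ψ', hψ', hind⟩ := hproper ψ (Finset.mem_erase.mp hψ).1 h0
    rw [← hind, ← indFun_mul_classFun T ψ' (char_isClassFunction hχ)]
    obtain ⟨θ, hθ, he⟩ := indFun_indFun H T (φ := fun t : T => ψ' t * χ t)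
      (isCharacter_mul hψ' (isCharacter_restrict T hχ))
    rw [he]
    refine ih _ ?_ _ rfl (QuasiElementary.isQuasiElem_of_le hp ⟨C, hCH, hHN, hcyc, hcop, k, hk⟩
      (Subgroup.map_subtype_le T)) θ hθ
    rw [← hn, Subgroup.card_map_of_injective H.subtype_injective]
    refine lt_of_le_of_ne (Nat.le_of_dvd Nat.card_pos T.card_subgroup_dvd_card) ?_
    exact fun h => hT (Subgroup.eq_top_of_card_eq T h)

theorem indFun_top (θ : (⊤ : Subgroup G) → ℂ) (hθ : Cfsg.IsClassFunction (⊤ : Subgroup G) θ)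
    (g : G) : Cfsg.indFun ⊤ θ g = θ ⟨g, Subgroup.mem_top g⟩ := by
  have h0 : (Nat.card (⊤ : Subgroup G) : ℂ) ≠ 0 := Nat.cast_ne_zero.mpr Nat.card_pos.ne'
  apply mul_left_cancel₀ h0
  rw [IndBasic.card_mul_indFun, Finset.sum_congr rfl
    (g := fun _ => θ ⟨g, Subgroup.mem_top g⟩) fun x _ => ?_]
  · rw [Finset.sum_const, Finset.card_univ, nsmul_eq_mul, Subgroup.card_top,
      Nat.card_eq_fintype_card]
  · rw [IndBasic.extendByZero_of_mem ⊤ θ (Subgroup.mem_top _)]
    have h := hθ ⟨g, Subgroup.mem_top g⟩ ⟨x⁻¹, Subgroup.mem_top _⟩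
    rw [← h]
    exact congrArg θ (Subtype.ext (by simp))

/-- Some constant prime to `p` lies in the elementary span. -/
theorem exists_constant_mem {p : ℕ} (hp : p.Prime) (G : Type u) [Group G] [Fintype G] :
    ∃ m : ℤ, ¬ (p : ℤ) ∣ m ∧ (fun _ : G => (m : ℂ)) ∈ elemSpan p G := by
  obtain ⟨m, hm, a, ha, he⟩ := QuasiElementary.exists_constant p hp G
  refine ⟨m, hm, he ▸ sum_mem fun H _ => ?_⟩
  rw [Int.cast_smul_eq_zsmul]
  rcases eq_or_ne (a H) 0 with h | h
  · rw [h, zero_smul]; exact zero_mem _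
  · exact zsmul_mem (quasiElem_mem_elemSpan hp _ H rfl (ha H h) _ isCharacter_one) _

theorem exists_list_of_mem {p : ℕ} {f : G → ℂ} (hf : f ∈ elemSpan p G) :
    ∃ l : List ((E : Subgroup G) × ((E → ℂ) × ℤ)),
      (∀ t ∈ l, Cfsg.IsElementary p t.1 ∧ Cfsg.IsCharacter t.1 t.2.1) ∧
        f = (l.map fun t => (t.2.2 : ℂ) • Cfsg.indFun t.1 t.2.1).sum := by
  induction hf using AddSubgroup.closure_induction with
  | mem f hf =>
    obtain ⟨E, χ, hE, hχ, rfl⟩ := hf
    exact ⟨[⟨E, χ, 1⟩], by simp [hE, hχ], by simp⟩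
  | zero => exact ⟨[], by simp, by simp⟩
  | add f g _ _ hf hg =>
    obtain ⟨l, hl, rfl⟩ := hf
    obtain ⟨l', hl', rfl⟩ := hg
    exact ⟨l ++ l', fun t ht => (List.mem_append.mp ht).elim (hl t) (hl' t), by simp⟩
  | neg f _ hf =>
    obtain ⟨l, hl, rfl⟩ := hf
    refine ⟨l.map fun t => ⟨t.1, t.2.1, -t.2.2⟩, fun t ht => ?_, ?_⟩
    · obtain ⟨t', ht', rfl⟩ := List.mem_map.mp ht
      exact hl t' ht'
    · rw [List.sum_neg, List.map_map, List.map_map]
      congr 1
      refine List.map_congr_left fun t _ => ?_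
      simp

/-- Brauer's trick: a property of inner products passes from elementary subgroups to `G`. -/
theorem classInner_mem_of_elementary {θ : G → ℂ} (hθ : Cfsg.IsClassFunction G θ)
    (S : AddSubgroup ℂ)
    (h : ∀ (E : Subgroup G) [Fintype E] (p : ℕ), p.Prime → Cfsg.IsElementary p E →
      ∀ φ : E → ℂ, Cfsg.IsCharacter E φ → Cfsg.classInner (fun e : E => θ e) φ ∈ S)
    {χ : G → ℂ} (hχ : Cfsg.IsCharacter G χ) : Cfsg.classInner θ χ ∈ S := by
  let K : AddSubgroup ℤ :=
    S.comap ((AddMonoidHom.mulRight (Cfsg.classInner θ χ)).comp (Int.castAddHom ℂ))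
  suffices (1 : ℤ) ∈ K by simpa [K] using this
  refine TransferExt.one_mem_of_forall_prime K fun p hp => ?_
  obtain ⟨m, hm, hmem⟩ := exists_constant_mem hp G
  refine ⟨m, ?_, hm⟩
  have key : ∀ f ∈ elemSpan p G, Cfsg.classInner (f * θ) χ ∈ S := by
    intro f hf
    induction hf using AddSubgroup.closure_induction with
    | mem f hf =>
      obtain ⟨E, φ, hE, hφ, rfl⟩ := hf
      letI : Fintype E := Fintype.ofFinite E
      rw [← indFun_mul_classFun E φ hθ, frobenius_reciprocity E _ (char_isClassFunction hχ)]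
      have := h E p hp hE (fun e => conj (φ e) * χ e)
        (isCharacter_mul (Basics.isCharacter_conj hφ) (isCharacter_restrict E hχ))
      convert this using 1
      rw [classInner_def, classInner_def]
      congr 1
      exact Finset.sum_congr rfl fun e _ => by rw [map_mul, Complex.conj_conj]; ring
    | zero => rw [zero_mul, classInner_zero_left]; exact S.zero_mem
    | add f g _ _ hf hg => rw [add_mul, classInner_add_left]; exact S.add_mem hf hg
    | neg f _ hf => rw [neg_mul, classInner_neg_left]; exact S.neg_mem hf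
  have h1 := key _ hmem
  rw [show ((fun _ : G => (m : ℂ)) * θ) = (m : ℂ) • θ from rfl, classInner_smul_left] at h1
  exact h1

/-- Brauer's characterization of generalized characters. -/
theorem isGen_of_elementary {θ : G → ℂ} (hθ : Cfsg.IsClassFunction G θ)
    (h : ∀ (E : Subgroup G) (p : ℕ), p.Prime → Cfsg.IsElementary p E →
      Cfsg.IsGeneralizedCharacter E (fun e : E => θ e)) : Cfsg.IsGeneralizedCharacter G θ := by
  refine isGen_of_classInner_int hθ fun χ hχ => ?_
  obtain ⟨z, hz⟩ := classInner_mem_of_elementary hθ (Int.castAddHom ℂ).range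
    (fun E _ p hp hE φ hφ => by
      obtain ⟨z, hz⟩ := classInner_gen_int (h E p hp hE) (isGen_of_isCharacter hφ)
      exact ⟨z, hz.symm⟩) (isCharacter_of_isIrr hχ)
  exact ⟨z, hz.symm⟩

end Cfsg.Agent.CharTheory.BrauerInduction
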