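import Mathlib

/-! Decomposition of coprime modules with an invariant nondegenerate form. -/

set_option autoImplicit false
set_option linter.style.haveILetI false
set_option linter.unusedSectionVars false

namespace Cfsg.Agent.CharTheory.SelfDual

open Module LinearMap

variable {F : Type*} [Field F] {G : Type*} [Group G] {V : Type*} [AddCommGroup V] [Module F V]

/-- Stable under the representation. -/
def Stable (ρ : Representation F G V) (X : Submodule F V) : Prop := ∀ g : G, ∀ x ∈ X, ρ g x ∈ X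

/-- Invariant on a submodule. -/
def InvOn (ρ : Representation F G V) (B : LinearMap.BilinForm F V) (X : Submodule F V) : Prop :=
  ∀ g : G, ∀ x ∈ X, ∀ y ∈ X, B (ρ g x) (ρ g y) = B x y

/-- Nondegenerate on a submodule. -/
def NondegOn (B : LinearMap.BilinForm F V) (X : Submodule F V) : Prop :=
  ∀ x ∈ X, (∀ y ∈ X, B x y = 0) → x = 0

/-- The elements of `X` right-orthogonal to `U`. -/
def rightPerp (B : LinearMap.BilinForm F V) (U X : Submodule F V) : Submodule F V where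
  carrier := {x | x ∈ X ∧ ∀ u ∈ U, B u x = 0}
  zero_mem' := ⟨X.zero_mem, fun u _ => map_zero (B u)⟩
  add_mem' ha hb := ⟨X.add_mem ha.1 hb.1, fun u hu => by simp [ha.2 u hu, hb.2 u hu]⟩
  smul_mem' c _ hx := ⟨X.smul_mem c hx.1, fun u hu => by simp [hx.2 u hu]⟩

theorem mem_rightPerp {B : LinearMap.BilinForm F V} {U X : Submodule F V} {x : V} :
    x ∈ rightPerp B U X ↔ x ∈ X ∧ ∀ u ∈ U, B u x = 0 := Iff.rfl

variable {ρ : Representation F G V} {B : LinearMap.BilinForm F V}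

theorem apply_inv_apply (g : G) (v : V) : ρ g (ρ g⁻¹ v) = v := by
  rw [← Module.End.mul_apply, ← map_mul, mul_inv_cancel, map_one, Module.End.one_apply]

theorem stable_rightPerp (hBinv : ∀ g : G, ∀ x y : V, B (ρ g x) (ρ g y) = B x y)
    {U X : Submodule F V} (hU : Stable ρ U) (hX : Stable ρ X) : Stable ρ (rightPerp B U X) :=
  fun g x hx => ⟨hX g x hx.1, fun u hu => by
    rw [← apply_inv_apply (ρ := ρ) g u, hBinv]; exact hx.2 _ (hU g⁻¹ u hu)⟩

theorem stable_sup {U W : Submodule F V} (hU : Stable ρ U) (hW : Stable ρ W) :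
    Stable ρ (U ⊔ W) := fun g x hx => by
  obtain ⟨u, hu, w, hw, rfl⟩ := Submodule.mem_sup.1 hx
  rw [map_add]
  exact Submodule.add_mem_sup (hU g u hu) (hW g w hw)

/-- Maschke: stable complements inside a stable submodule. -/
theorem exists_stable_complement [Finite G] (hG : (Nat.card G : F) ≠ 0) {R X : Submodule F V}
    (hR : Stable ρ R) (hX : Stable ρ X) (hRX : R ≤ X) :
    ∃ C : Submodule F V, Stable ρ C ∧ R ⊓ C = ⊥ ∧ R ⊔ C = X := by
  haveI := Fintype.ofFinite G
  obtain ⟨C₀, hC₀⟩ := R.exists_isCompl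
  set π₀ := R.projection C₀ hC₀ with hπ₀
  let π : V →ₗ[F] V := (Nat.card G : F)⁻¹ • ∑ g : G, ρ g ∘ₗ π₀ ∘ₗ ρ g⁻¹
  have hmem : ∀ v, π v ∈ R := fun v => by
    simp only [π, LinearMap.smul_apply, LinearMap.sum_apply, LinearMap.comp_apply]
    exact R.smul_mem _ (R.sum_mem fun g _ => hR g _ (Submodule.projection_apply_mem _ _))
  have hid : ∀ r ∈ R, π r = r := fun r hr => by
    simp only [π, LinearMap.smul_apply, LinearMap.sum_apply, LinearMap.comp_apply]
    rw [Finset.sum_congr rfl (g := fun _ => r) fun g _ => by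
      rw [hπ₀, Submodule.projection_apply_of_mem_left hC₀ (hR g⁻¹ r hr), apply_inv_apply],
      Finset.sum_const, Finset.card_univ, ← Nat.card_eq_fintype_card, ← Nat.cast_smul_eq_nsmul F,
      smul_smul, inv_mul_cancel₀ hG, one_smul]
  have hcomm : ∀ (g : G) (v : V), π (ρ g v) = ρ g (π v) := fun g v => by
    simp only [π, LinearMap.smul_apply, LinearMap.sum_apply, LinearMap.comp_apply, map_smul, map_sum]
    congr 1
    refine Fintype.sum_equiv (Equiv.mulLeft g⁻¹) _ _ fun h => ?_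
    simp only [Equiv.coe_mulLeft, ← Module.End.mul_apply, ← map_mul]
    rw [mul_inv_rev, inv_inv, ← mul_assoc (ρ g), ← map_mul, mul_inv_cancel_left]
  refine ⟨X ⊓ LinearMap.ker π, fun g x hx => ⟨hX g x hx.1, ?_⟩, ?_, ?_⟩
  · rw [SetLike.mem_coe, LinearMap.mem_ker, hcomm, LinearMap.mem_ker.1 hx.2, map_zero]
  · rw [eq_bot_iff]
    rintro x ⟨hx, -, hk⟩
    rw [SetLike.mem_coe, LinearMap.mem_ker, hid x hx] at hk
    exact hk
  · refine le_antisymm (sup_le hRX inf_le_left) fun x hx => ?_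
    rw [← add_sub_cancel (π x) x]
    exact Submodule.add_mem_sup (hmem x) ⟨X.sub_mem hx (hRX (hmem x)), by
      rw [SetLike.mem_coe, LinearMap.mem_ker, map_sub, hid _ (hmem x), sub_self]⟩

/-- The left kernel of `B` on a pair of submodules. -/
def leftKer (B : LinearMap.BilinForm F V) (U X : Submodule F V) : Submodule F V :=
  rightPerp B.flip X U

theorem mem_leftKer {U X : Submodule F V} {x : V} :
    x ∈ leftKer B U X ↔ x ∈ U ∧ ∀ y ∈ X, B x y = 0 := Iff.rfl

theorem flip_inv (hBinv : ∀ g : G, ∀ x y : V, B (ρ g x) (ρ g y) = B x y) :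
    ∀ g : G, ∀ x y : V, B.flip (ρ g x) (ρ g y) = B.flip x y := fun g x y => hBinv g y x

theorem stable_leftKer (hBinv : ∀ g : G, ∀ x y : V, B (ρ g x) (ρ g y) = B x y)
    {U X : Submodule F V} (hU : Stable ρ U) (hX : Stable ρ X) : Stable ρ (leftKer B U X) :=
  stable_rightPerp (flip_inv hBinv) hX hU

theorem finrank_le_of_pairing [FiniteDimensional F V] {C U : Submodule F V}
    (h : ∀ c ∈ C, (∀ u ∈ U, B c u = 0) → c = 0) : finrank F C ≤ finrank F U := by
  rw [← Subspace.dual_finrank_eq (K := F) (V := U)]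
  refine LinearMap.finrank_le_finrank_of_injective (f := B.domRestrict₁₂ C U) ?_
  rw [← LinearMap.ker_eq_bot, LinearMap.ker_eq_bot']
  intro c hc
  exact Subtype.ext (h c c.2 fun u hu => LinearMap.congr_fun hc ⟨u, hu⟩)

theorem eq_zero_of_pairing [FiniteDimensional F V] {C U : Submodule F V}
    (h1 : ∀ c ∈ C, (∀ u ∈ U, B c u = 0) → c = 0) (h2 : ∀ u ∈ U, (∀ c ∈ C, B u c = 0) → u = 0)
    {c : V} (hc : c ∈ C) (h : ∀ u ∈ U, B u c = 0) : c = 0 := by
  have hle := finrank_le_of_pairing h1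
  have hinj : Function.Injective (B.domRestrict₁₂ U C) := by
    rw [← LinearMap.ker_eq_bot, LinearMap.ker_eq_bot']
    intro u hu
    exact Subtype.ext (h2 u u.2 fun c' hc' => LinearMap.congr_fun hu ⟨c', hc'⟩)
  have hsurj : Function.Surjective (B.domRestrict₁₂ U C) :=
    (LinearMap.injective_iff_surjective_of_finrank_eq_finrank
      ((le_antisymm (finrank_le_of_pairing h2) hle).trans (Subspace.dual_finrank_eq (K := F)).symm)).1 hinj
  have : (⟨c, hc⟩ : C) = 0 := by
    rw [← Module.forall_dual_apply_eq_zero_iff F]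
    intro f
    obtain ⟨u, rfl⟩ := hsurj f
    exact h u u.2
  exact congrArg Subtype.val this

variable (ρ)

/-- An orthogonal piece of one of the two kinds. -/
def Good (p : ℕ) (Y : Submodule F V) : Prop :=
  (∃ A : LinearMap.BilinForm F V, (∀ x, A x x = 0) ∧ InvOn ρ A Y ∧ NondegOn A Y) ∨
  ((∃ S : LinearMap.BilinForm F V, (∀ x y, S x y = S y x) ∧ InvOn ρ S Y ∧ NondegOn S Y) ∧
    (p = 2 → ∀ g : G, ∀ y ∈ Y, ρ g y = y))

variable {ρ} [FiniteDimensional F V]

theorem good_of_pairing (p : ℕ) (hBinv : ∀ g : G, ∀ x y : V, B (ρ g x) (ρ g y) = B x y)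
    {U C : Submodule F V} (hU : Stable ρ U) (hC : Stable ρ C)
    (hiso : ∀ u ∈ U, ∀ u' ∈ U, B u u' = 0) (h1 : ∀ c ∈ C, (∀ u ∈ U, B c u = 0) → c = 0)
    (h2 : ∀ u ∈ U, (∀ c ∈ C, B u c = 0) → u = 0) :
    NondegOn B (U ⊔ C) ∧ Good ρ p (U ⊔ C) := by
  have hdis : U ⊓ C = ⊥ := by
    rw [eq_bot_iff]
    intro x hx
    exact h1 x hx.2 fun u hu => hiso x hx.1 u hu
  refine ⟨fun x hx h => ?_, Or.inl ?_⟩
  · obtain ⟨u, hu, c, hc, rfl⟩ := Submodule.mem_sup.1 hx
    have hc0 : c = 0 := h1 c hc fun u' hu' => by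
      have := h u' (Submodule.mem_sup_left hu')
      rwa [map_add, LinearMap.add_apply, hiso u hu u' hu', zero_add] at this
    subst hc0
    rw [add_zero] at h ⊢
    exact h2 u hu fun c' hc' => h c' (Submodule.mem_sup_right hc')
  · obtain ⟨W, hW⟩ := (U ⊔ C).exists_isCompl
    have hc : IsCompl U (C ⊔ W) := by
      refine ⟨?_, ?_⟩
      · rw [disjoint_iff, eq_bot_iff]
        rintro x ⟨hxU, hx⟩
        obtain ⟨c, hc, w, hw, rfl⟩ := Submodule.mem_sup.1 hx
        have hw0 : w ∈ (U ⊔ C) ⊓ W := ⟨by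
          rw [← add_sub_cancel_left c w]
          exact Submodule.sub_mem _ (Submodule.mem_sup_left hxU) (Submodule.mem_sup_right hc), hw⟩
        rw [hW.inf_eq_bot, Submodule.mem_bot] at hw0
        subst hw0
        rw [add_zero] at hxU ⊢
        exact hdis.le ⟨hxU, hc⟩
      · rw [codisjoint_iff, ← sup_assoc, hW.sup_eq_top]
    set πU := U.projection (C ⊔ W) hc
    have hπ : ∀ u ∈ U, ∀ c ∈ C, πU (u + c) = u := fun u hu c hcC => by
      rw [map_add, Submodule.projection_apply_of_mem_left hc hu,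
        (Submodule.projection_apply_eq_zero_iff hc).2 (Submodule.mem_sup_left hcC), add_zero]
    let T := B.comp πU (LinearMap.id - πU)
    refine ⟨T - T.flip, fun x => by simp, fun g x hx y hy => ?_, fun x hx h => ?_⟩
    · obtain ⟨u, hu, c, hc', rfl⟩ := Submodule.mem_sup.1 hx
      obtain ⟨u', hu', c', hc'', rfl⟩ := Submodule.mem_sup.1 hy
      rw [map_add (ρ g), map_add (ρ g)]
      simp only [T, LinearMap.sub_apply, LinearMap.BilinForm.flip_apply, LinearMap.BilinForm.comp_apply,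
        LinearMap.id_apply, hπ _ (hU g u hu) _ (hC g c hc'), hπ _ (hU g u' hu') _ (hC g c' hc''),
        hπ u hu c hc', hπ u' hu' c' hc'', add_sub_cancel_left, hBinv]
    · obtain ⟨u, hu, c, hc', rfl⟩ := Submodule.mem_sup.1 hx
      have e : ∀ u' ∈ U, ∀ c' ∈ C, B u c' - B u' c = 0 := fun u' hu' c' hc'' => by
        have := h (u' + c') (Submodule.add_mem_sup hu' hc'')
        simpa only [T, LinearMap.sub_apply, LinearMap.BilinForm.flip_apply, LinearMap.BilinForm.comp_apply,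
          LinearMap.id_apply, hπ u hu c hc', hπ u' hu' c' hc'', add_sub_cancel_left] using this
      have hu0 : u = 0 := h2 u hu fun c' hc'' => by simpa using e 0 U.zero_mem c' hc''
      have hc0 : c = 0 := by
        have hc1 : ∀ u' ∈ U, B u' c = 0 := fun u' hu' => by simpa using e u' hu' 0 C.zero_mem
        exact eq_zero_of_pairing h1 h2 hc' hc1
      rw [hu0, hc0, add_zero]

theorem good_of_irreducible (p : ℕ) [Fact p.Prime] [CharP F p]
    (hBinv : ∀ g : G, ∀ x y : V, B (ρ g x) (ρ g y) = B x y) {U : Submodule F V} (hU : Stable ρ U)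
    (hmin : ∀ W : Submodule F V, Stable ρ W → W ≤ U → W = ⊥ ∨ W = U)
    (hne : ∃ u ∈ U, ∃ u' ∈ U, B u u' ≠ 0) :
    NondegOn B U ∧ Good ρ p U := by
  have hker : ∀ D : LinearMap.BilinForm F V, (∀ g : G, ∀ x y : V, D (ρ g x) (ρ g y) = D x y) →
      (∃ u ∈ U, ∃ u' ∈ U, D u u' ≠ 0) → NondegOn D U := by
    intro D hD hne' x hx h
    rcases hmin (leftKer D U U) (stable_leftKer hD hU hU) (fun y hy => (mem_leftKer.1 hy).1) with e | e
    · have : x ∈ leftKer D U U := mem_leftKer.2 ⟨hx, h⟩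
      rwa [e, Submodule.mem_bot] at this
    · obtain ⟨u, hu, u', hu', hne''⟩ := hne'
      exact absurd ((mem_leftKer.1 (e.ge hu)).2 u' hu') hne''
  refine ⟨hker B hBinv hne, ?_⟩
  by_cases hsym : ∀ u ∈ U, ∀ u' ∈ U, B u u' = B u' u
  swap
  · push Not at hsym
    obtain ⟨u, hu, u', hu', hne'⟩ := hsym
    have hD : ∀ g : G, ∀ x y : V, (B - B.flip) (ρ g x) (ρ g y) = (B - B.flip) x y := fun g x y => by
      simp [hBinv]
    exact Or.inl ⟨B - B.flip, fun x => by simp, fun g x _ y _ => hD g x y,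
      hker _ hD ⟨u, hu, u', hu', by simpa [sub_eq_zero] using hne'⟩⟩
  obtain ⟨W, hW⟩ := U.exists_isCompl
  set π := U.projection W hW
  have hπ : ∀ x ∈ U, π x = x := fun x hx => Submodule.projection_apply_of_mem_left hW hx
  set S := B.comp π π with hS
  have hSU : ∀ x ∈ U, ∀ y ∈ U, S x y = B x y := fun x hx y hy => by
    simp [hS, LinearMap.BilinForm.comp_apply, hπ x hx, hπ y hy]
  have hSinv : InvOn ρ S U := fun g x hx y hy => by
    rw [hSU _ (hU g x hx) _ (hU g y hy), hSU x hx y hy, hBinv]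
  have hSnd : NondegOn S U := fun x hx h =>
    hker B hBinv hne x hx fun y hy => by rw [← hSU x hx y hy]; exact h y hy
  have hSsym : ∀ x y, S x y = S y x := fun x y => by
    simp only [hS, LinearMap.BilinForm.comp_apply]
    exact hsym _ (Submodule.projection_apply_mem hW x) _ (Submodule.projection_apply_mem hW y)
  by_cases hp2 : p = 2
  swap
  · exact Or.inr ⟨⟨S, hSsym, hSinv, hSnd⟩, fun e => absurd e hp2⟩
  subst hp2
  have hadd : ∀ x ∈ U, ∀ y ∈ U, B (x + y) (x + y) = B x x + B y y := fun x hx y hy => by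
    simp only [map_add, LinearMap.add_apply, hsym y hy x hx]
    linear_combination (CharTwo.add_self_eq_zero (B x y))
  let Q : Submodule F V :=
    { carrier := {x | x ∈ U ∧ B x x = 0}
      zero_mem' := ⟨U.zero_mem, by simp⟩
      add_mem' := fun ha hb => ⟨U.add_mem ha.1 hb.1, by rw [hadd _ ha.1 _ hb.1, ha.2, hb.2, add_zero]⟩
      smul_mem' := fun c x hx => ⟨U.smul_mem c hx.1, by simp [hx.2]⟩ }
  rcases hmin Q (fun g x hx => ⟨hU g x hx.1, by rw [hBinv]; exact hx.2⟩) (fun x hx => hx.1) with e | e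
  · refine Or.inr ⟨⟨S, hSsym, hSinv, hSnd⟩, fun _ g y hy => ?_⟩
    have : ρ g y + y ∈ Q := ⟨U.add_mem (hU g y hy) hy, by
      rw [hadd _ (hU g y hy) _ hy, hBinv, CharTwo.add_self_eq_zero]⟩
    rw [e, Submodule.mem_bot, add_eq_zero_iff_eq_neg] at this
    rw [this]
    exact neg_eq_of_add_eq_zero_left (by
      rw [← two_smul F y, CharTwo.two_eq_zero, zero_smul])
  · refine Or.inl ⟨S, fun x => ?_, hSinv, hSnd⟩
    simp only [hS, LinearMap.BilinForm.comp_apply]
    exact (e.ge (Submodule.projection_apply_mem hW x)).2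

/-- Every nonzero nondegenerate stable submodule has a good nondegenerate piece. -/
theorem exists_good [Finite G] (p : ℕ) [Fact p.Prime] [CharP F p] (hG : (Nat.card G : F) ≠ 0)
    (hBinv : ∀ g : G, ∀ x y : V, B (ρ g x) (ρ g y) = B x y) {X : Submodule F V} (hX : Stable ρ X)
    (hnd : NondegOn B X) (hne : X ≠ ⊥) :
    ∃ Y : Submodule F V, Y ≤ X ∧ Y ≠ ⊥ ∧ Stable ρ Y ∧ NondegOn B Y ∧ Good ρ p Y := by
  classical
  have hex : ∃ n : ℕ, ∃ W : Submodule F V, W ≤ X ∧ W ≠ ⊥ ∧ Stable ρ W ∧ finrank F W = n :=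
    ⟨_, X, le_rfl, hne, hX, rfl⟩
  obtain ⟨U, hUX, hU0, hU, hUn⟩ := Nat.find_spec hex
  have hmin : ∀ W : Submodule F V, Stable ρ W → W ≤ U → W = ⊥ ∨ W = U := by
    intro W hW hWU
    by_cases h0 : W = ⊥
    · exact Or.inl h0
    · refine Or.inr (Submodule.eq_of_le_of_finrank_le hWU ?_)
      rw [hUn]
      exact Nat.find_min' hex ⟨W, hWU.trans hUX, h0, hW, rfl⟩
  by_cases hiso : ∀ u ∈ U, ∀ u' ∈ U, B u u' = 0
  swap
  · push Not at hiso
    obtain ⟨u, hu, u', hu', h⟩ := hiso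
    obtain ⟨h1, h2⟩ := good_of_irreducible p hBinv hU hmin ⟨u, hu, u', hu', h⟩
    exact ⟨U, hUX, hU0, hU, h1, h2⟩
  have finish : ∀ C : Submodule F V, C ≤ X → Stable ρ C →
      (∀ c ∈ C, (∀ u ∈ U, B c u = 0) → c = 0) → (∀ u ∈ U, (∀ c ∈ C, B u c = 0) → u = 0) →
      ∃ Y : Submodule F V, Y ≤ X ∧ Y ≠ ⊥ ∧ Stable ρ Y ∧ NondegOn B Y ∧ Good ρ p Y := by
    intro C hCX hC h1 h2
    obtain ⟨a, b⟩ := good_of_pairing p hBinv hU hC hiso h1 h2
    exact ⟨U ⊔ C, sup_le hUX hCX, fun e => hU0 (le_bot_iff.1 (e ▸ le_sup_left)),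
      stable_sup hU hC, a, b⟩
  -- a complement of the right orthogonal
  obtain ⟨C, hC, hCd, hCs⟩ := exists_stable_complement hG (stable_rightPerp hBinv hU hX) hX
    (fun x hx => hx.1)
  have hCX : C ≤ X := hCs ▸ le_sup_right
  have hCinj : ∀ c ∈ C, (∀ u ∈ U, B u c = 0) → c = 0 := fun c hc h =>
    (Submodule.mem_bot F).1 (hCd ▸ Submodule.mem_inf.2 ⟨⟨hCX hc, h⟩, hc⟩)
  have hUinj : ∀ u ∈ U, (∀ c ∈ C, B u c = 0) → u = 0 := fun u hu h => hnd u (hUX hu) fun y hy => by
    obtain ⟨r, hr, c, hc, rfl⟩ := Submodule.mem_sup.1 (hCs ▸ hy)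
    rw [map_add, hr.2 u hu, h c hc, add_zero]
  by_cases hCU : ∀ c ∈ C, (∀ u ∈ U, B c u = 0) → c = 0
  · exact finish C hCX hC hCU hUinj
  -- then `B C U = 0`
  have hCU0 : ∀ c ∈ C, ∀ u ∈ U, B c u = 0 := by
    push Not at hCU
    obtain ⟨c₀, hc₀, hc₀U, hc₀0⟩ := hCU
    have hK : finrank F U ≤ finrank F (leftKer B C U) := by
      -- the annihilator of the kernel in `U` is trivial
      refine finrank_le_of_pairing (B := B) fun u hu h => ?_
      have hst : Stable ρ (leftKer B U (leftKer B C U)) :=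
        stable_leftKer hBinv hU (stable_leftKer hBinv hC hU)
      rcases hmin _ hst (fun y hy => (mem_leftKer.1 hy).1) with e | e
      · have : u ∈ leftKer B U (leftKer B C U) := mem_leftKer.2 ⟨hu, h⟩
        rwa [e, Submodule.mem_bot] at this
      · exact absurd (hCinj c₀ hc₀ fun v hv =>
          (mem_leftKer.1 (e.ge hv)).2 c₀ (mem_leftKer.2 ⟨hc₀, hc₀U⟩)) hc₀0
    have hdim : finrank F C ≤ finrank F U :=
      finrank_le_of_pairing (B := B.flip) fun c hc h => hCinj c hc h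
    have hle : leftKer B C U ≤ C := fun y hy => (mem_leftKer.1 hy).1
    have e := Submodule.eq_of_le_of_finrank_le hle (hdim.trans hK)
    exact fun c hc u hu => (mem_leftKer.1 (e.ge hc)).2 u hu
  -- a complement of the left orthogonal
  obtain ⟨C₂, hC₂, hC₂d, hC₂s⟩ := exists_stable_complement hG
    (stable_rightPerp (flip_inv hBinv) hU hX) hX (fun x hx => hx.1)
  have hC₂X : C₂ ≤ X := hC₂s ▸ le_sup_right
  have hC₂inj : ∀ c ∈ C₂, (∀ u ∈ U, B c u = 0) → c = 0 := fun c hc h =>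
    (Submodule.mem_bot F).1 (hC₂d ▸ Submodule.mem_inf.2 ⟨⟨hC₂X hc, h⟩, hc⟩)
  by_cases hUC : ∀ u ∈ U, (∀ d ∈ C₂, B u d = 0) → u = 0
  · exact finish C₂ hC₂X hC₂ hC₂inj hUC
  have hUC₂ : ∀ u ∈ U, ∀ d ∈ C₂, B u d = 0 := by
    push Not at hUC
    obtain ⟨u₁, hu₁, hu₁0, hne₁⟩ := hUC
    rcases hmin _ (stable_leftKer hBinv hU hC₂) (fun y hy => (mem_leftKer.1 hy).1) with e | e
    · have : u₁ ∈ leftKer B U C₂ := mem_leftKer.2 ⟨hu₁, hu₁0⟩
      rw [e, Submodule.mem_bot] at this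
      exact absurd this hne₁
    · exact fun u hu d hd => (mem_leftKer.1 (e.ge hu)).2 d hd
  -- the diagonal submodule
  let D : Submodule F V :=
    { carrier := {x | ∃ c ∈ C, ∃ d ∈ C₂, x = c + d ∧ ∀ u ∈ U, B d u = B u c}
      zero_mem' := ⟨0, C.zero_mem, 0, C₂.zero_mem, by simp, by simp⟩
      add_mem' := by
        rintro _ _ ⟨c, hc, d, hd, rfl, h⟩ ⟨c', hc', d', hd', rfl, h'⟩
        exact ⟨c + c', C.add_mem hc hc', d + d', C₂.add_mem hd hd', by abel,
          fun u hu => by simp [h u hu, h' u hu]⟩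
      smul_mem' := by
        rintro r _ ⟨c, hc, d, hd, rfl, h⟩
        exact ⟨r • c, C.smul_mem r hc, r • d, C₂.smul_mem r hd, smul_add r c d,
          fun u hu => by simp [h u hu]⟩ }
  have hD : Stable ρ D := by
    rintro g _ ⟨c, hc, d, hd, rfl, h⟩
    refine ⟨ρ g c, hC g c hc, ρ g d, hC₂ g d hd, map_add _ _ _, fun u hu => ?_⟩
    rw [← apply_inv_apply (ρ := ρ) g u, hBinv, hBinv]
    exact h _ (hU g⁻¹ u hu)
  have hDX : D ≤ X := by
    rintro _ ⟨c, hc, d, hd, rfl, -⟩
    exact X.add_mem (hCX hc) (hC₂X hd)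
  refine finish D hDX hD ?_ ?_
  · rintro _ ⟨c, hc, d, hd, rfl, h⟩ h0
    have hc0 : c = 0 := hCinj c hc fun u hu => by
      have := h0 u hu
      rwa [map_add, LinearMap.add_apply, hCU0 c hc u hu, zero_add, h u hu] at this
    rw [hc0, zero_add] at h0 ⊢
    exact hC₂inj d hd h0
  · intro u₀ hu₀ h0
    have hTinj : Function.Injective (B.domRestrict₁₂ C₂ U) := by
      rw [← LinearMap.ker_eq_bot, LinearMap.ker_eq_bot']
      intro d hd
      exact Subtype.ext (hC₂inj d d.2 fun u hu => LinearMap.congr_fun hd ⟨u, hu⟩)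
    have hle₁ : finrank F C₂ ≤ finrank F U := finrank_le_of_pairing hC₂inj
    have hle₂ : finrank F U ≤ finrank F C₂ :=
      finrank_le_of_pairing (B := B.flip) fun u hu h =>
        eq_zero_of_pairing hnd hnd (hUX hu) fun y hy => by
          obtain ⟨l, hl, d, hd, rfl⟩ := Submodule.mem_sup.1 (hC₂s ▸ hy)
          rw [map_add, LinearMap.add_apply, show B l u = 0 from hl.2 u hu, zero_add]
          exact h d hd
    have hsurj := (LinearMap.injective_iff_surjective_of_finrank_eq_finrank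
      ((le_antisymm hle₁ hle₂).trans (Subspace.dual_finrank_eq (K := F)).symm)).1 hTinj
    refine hUinj u₀ hu₀ fun c hc => ?_
    obtain ⟨d, hd⟩ := hsurj ((B.flip.domRestrict₁₂ C U) ⟨c, hc⟩)
    have hdu : ∀ u ∈ U, B d u = B u c := fun u hu => LinearMap.congr_fun hd ⟨u, hu⟩
    have := h0 (c + d) ⟨c, hc, d, d.2, rfl, hdu⟩
    rwa [map_add, hUC₂ u₀ hu₀ d d.2, add_zero] at this

variable (ρ B)

/-- The decomposition. -/
theorem exists_decomposition [Finite G] (p : ℕ) [Fact p.Prime] [CharP F p]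
    (hG : (Nat.card G : F) ≠ 0)
    (hBinv : ∀ g : G, ∀ x y : V, B (ρ g x) (ρ g y) = B x y) :
    ∀ (n : ℕ) (X : Submodule F V), finrank F X ≤ n → Stable ρ X → NondegOn B X →
      ∃ U W : Submodule F V, U ⊓ W = ⊥ ∧ U ⊔ W = X ∧ Stable ρ U ∧ Stable ρ W ∧
        (∃ A : LinearMap.BilinForm F V, (∀ x, A x x = 0) ∧ InvOn ρ A U ∧ NondegOn A U) ∧
        (∃ S : LinearMap.BilinForm F V,
          (∀ x y, S x y = S y x) ∧ InvOn ρ S W ∧ NondegOn S W) ∧
        (p = 2 → ∀ g : G, ∀ w ∈ W, ρ g w = w) := by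
  have hbot : Stable ρ (⊥ : Submodule F V) := fun g x hx => by
    rw [Submodule.mem_bot] at hx; simp [hx]
  intro n
  induction n with
  | zero =>
    intro X hX _ _
    have hX0 : X = ⊥ := Submodule.finrank_eq_zero.1 (Nat.le_zero.1 hX)
    refine ⟨⊥, ⊥, by simp, by simp [hX0], hbot, hbot, ⟨0, fun x => rfl, fun g x _ y _ => rfl,
      fun x hx _ => (Submodule.mem_bot F).1 hx⟩, ⟨0, fun x y => rfl, fun g x _ y _ => rfl,
      fun x hx _ => (Submodule.mem_bot F).1 hx⟩, fun _ g w hw => ?_⟩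
    rw [Submodule.mem_bot] at hw; simp [hw]
  | succ n ih =>
    intro X hXn hX hnd
    by_cases hX0 : X = ⊥
    · exact ih X (by rw [hX0, finrank_bot]; exact Nat.zero_le n) hX hnd
    obtain ⟨Y, hYX, hY0, hY, hYnd, hgood⟩ := exists_good p hG hBinv hX hnd hX0
    have hYT : IsCompl Y (rightPerp B Y ⊤) := by
      refine ⟨?_, ?_⟩
      · rw [disjoint_iff, eq_bot_iff]
        rintro y ⟨hy, hy'⟩
        exact eq_zero_of_pairing hYnd hYnd hy hy'.2
      · rw [codisjoint_iff, eq_top_iff]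
        intro v _
        have hinj : Function.Injective (B.flip.domRestrict₁₂ Y Y) := by
          rw [← LinearMap.ker_eq_bot, LinearMap.ker_eq_bot']
          intro y hy
          exact Subtype.ext (eq_zero_of_pairing hYnd hYnd y.2 fun u hu =>
            LinearMap.congr_fun hy ⟨u, hu⟩)
        obtain ⟨y, hy⟩ := (LinearMap.injective_iff_surjective_of_finrank_eq_finrank
          (Subspace.dual_finrank_eq (K := F)).symm).1 hinj ((B.flip v).domRestrict Y)
        rw [← add_sub_cancel (y : V) v]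
        refine Submodule.add_mem_sup y.2 ⟨Submodule.mem_top, fun u hu => ?_⟩
        rw [map_sub, sub_eq_zero]
        exact (LinearMap.congr_fun hy ⟨u, hu⟩).symm
    set Z := rightPerp B Y X with hZdef
    have hZX : Z ≤ X := fun x hx => hx.1
    have hYZ : Y ⊓ Z = ⊥ := by
      rw [eq_bot_iff]
      rintro y ⟨hy, hy'⟩
      exact eq_zero_of_pairing hYnd hYnd hy hy'.2
    have hYZs : Y ⊔ Z = X := by
      refine le_antisymm (sup_le hYX hZX) fun x hx => ?_
      obtain ⟨y, hy, z, hz, rfl⟩ := Submodule.mem_sup.1 (hYT.sup_eq_top ▸ Submodule.mem_top (x := x))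
      exact Submodule.add_mem_sup hy ⟨by simpa using X.sub_mem hx (hYX hy), hz.2⟩
    have hZnd : NondegOn B Z := by
      refine fun z hz h => ?_
      -- the right pairing against `Z` gives the left one
      have hinj : ∀ z ∈ Z, (∀ w ∈ Z, B.flip z w = 0) → z = 0 := fun z hz h' =>
        eq_zero_of_pairing hnd hnd (hZX hz) fun x hx => by
          obtain ⟨y, hy, w, hw, rfl⟩ := Submodule.mem_sup.1 (hYZs ▸ hx)
          rw [map_add, LinearMap.add_apply, hz.2 y hy, zero_add]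
          exact h' w hw
      exact eq_zero_of_pairing (B := B.flip) hinj hinj hz fun w hw => h w hw
    have hfr : finrank F Z < finrank F X := by
      refine Submodule.finrank_lt_finrank_of_lt (lt_of_le_of_ne hZX fun e => hY0 ?_)
      rw [← hYZ, e, inf_eq_left.2 hYX]
    obtain ⟨U, W, hUW, hUWs, hU, hW, ⟨A, hA, hAi, hAn⟩, ⟨S, hS, hSi, hSn⟩, htriv⟩ :=
      ih Z (by omega) (stable_rightPerp hBinv hY hX) hZnd
    have hUZ : U ≤ Z := hUWs ▸ le_sup_left
    have hWZ : W ≤ Z := hUWs ▸ le_sup_right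
    set π := Y.projection (rightPerp B Y ⊤) hYT
    have hπ : ∀ y ∈ Y, ∀ z ∈ Z, π (y + z) = y := fun y hy z hz => by
      rw [map_add, Submodule.projection_apply_of_mem_left hYT hy,
        (Submodule.projection_apply_eq_zero_iff hYT).2 ⟨Submodule.mem_top, hz.2⟩, add_zero]
    have hadj : ∀ U' W' : Submodule F V, U' ⊓ W' = ⊥ → U' ⊔ W' = Z →
        (Y ⊔ U') ⊓ W' = ⊥ ∧ (Y ⊔ U') ⊔ W' = X := by
      intro U' W' hi hs
      refine ⟨?_, by rw [sup_assoc, hs, hYZs]⟩
      rw [eq_bot_iff]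
      rintro x ⟨hx, hxW⟩
      obtain ⟨y, hy, u, hu, rfl⟩ := Submodule.mem_sup.1 hx
      have hy0 : y ∈ Y ⊓ Z := ⟨hy, by
        rw [← add_sub_cancel_right y u]
        exact Z.sub_mem (hs.le (Submodule.mem_sup_right hxW)) (hs.le (Submodule.mem_sup_left hu))⟩
      rw [hYZ, Submodule.mem_bot] at hy0
      subst hy0
      rw [zero_add] at hxW ⊢
      exact hi.le ⟨hu, hxW⟩
    have hcomb : ∀ (D E : LinearMap.BilinForm F V) (U' : Submodule F V), U' ≤ Z → Stable ρ U' →
        InvOn ρ D Y → NondegOn D Y → InvOn ρ E U' → NondegOn E U' →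
        InvOn ρ (D.comp π π + E.comp (LinearMap.id - π) (LinearMap.id - π)) (Y ⊔ U') ∧
        NondegOn (D.comp π π + E.comp (LinearMap.id - π) (LinearMap.id - π)) (Y ⊔ U') := by
      intro D E U' hUZ' hU' hDi hDn hEi hEn
      refine ⟨fun g x hx x' hx' => ?_, fun x hx h => ?_⟩
      · obtain ⟨y, hy, u, hu, rfl⟩ := Submodule.mem_sup.1 hx
        obtain ⟨y', hy', u', hu', rfl⟩ := Submodule.mem_sup.1 hx'
        rw [map_add (ρ g), map_add (ρ g)]
        simp only [LinearMap.add_apply, LinearMap.BilinForm.comp_apply, LinearMap.sub_apply,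
          LinearMap.id_apply, hπ y hy u (hUZ' hu), hπ y' hy' u' (hUZ' hu'),
          hπ _ (hY g y hy) _ (hUZ' (hU' g u hu)), hπ _ (hY g y' hy') _ (hUZ' (hU' g u' hu')),
          add_sub_cancel_left, hDi g y hy y' hy', hEi g u hu u' hu']
      · obtain ⟨y, hy, u, hu, rfl⟩ := Submodule.mem_sup.1 hx
        have e : ∀ y' ∈ Y, ∀ u' ∈ U', D y y' + E u u' = 0 := fun y' hy' u' hu' => by
          have := h (y' + u') (Submodule.add_mem_sup hy' hu')
          simpa only [LinearMap.add_apply, LinearMap.BilinForm.comp_apply, LinearMap.sub_apply,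
            LinearMap.id_apply, hπ y hy u (hUZ' hu), hπ y' hy' u' (hUZ' hu'),
            add_sub_cancel_left] using this
        rw [hDn y hy fun y' hy' => by simpa using e y' hy' 0 U'.zero_mem,
          hEn u hu fun u' hu' => by simpa using e 0 Y.zero_mem u' hu', add_zero]
    rcases hgood with ⟨A', hA', hA'i, hA'n⟩ | ⟨⟨S', hS', hS'i, hS'n⟩, htriv'⟩
    · obtain ⟨h1, h2⟩ := hadj U W hUW hUWs
      obtain ⟨h3, h4⟩ := hcomb A' A U hUZ hU hA'i hA'n hAi hAn
      exact ⟨Y ⊔ U, W, h1, h2, stable_sup hY hU, hW, ⟨_, fun x => by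
        simp only [LinearMap.add_apply, LinearMap.BilinForm.comp_apply, hA', hA, add_zero],
        h3, h4⟩, ⟨S, hS, hSi, hSn⟩, htriv⟩
    · obtain ⟨h1, h2⟩ := hadj W U (by rwa [inf_comm]) (by rwa [sup_comm])
      obtain ⟨h3, h4⟩ := hcomb S' S W hWZ hW hS'i hS'n hSi hSn
      refine ⟨U, Y ⊔ W, by rwa [inf_comm], by rwa [sup_comm], hU, stable_sup hY hW,
        ⟨A, hA, hAi, hAn⟩, ⟨_, fun x y => by
          simp only [LinearMap.add_apply, LinearMap.BilinForm.comp_apply]
          rw [hS', hS], h3, h4⟩,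
        fun hp g w hw => ?_⟩
      obtain ⟨y, hy, w', hw', rfl⟩ := Submodule.mem_sup.1 hw
      rw [map_add, htriv' hp g y hy, htriv hp g w' hw']

end Cfsg.Agent.CharTheory.SelfDual
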