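import Mathlib
import Cfsg.Agent.Lib.Characters.Integrality
import Cfsg.Agent.Lib.CharTheory.Average
import Cfsg.Agent.Lib.CharTheory.BrauerInduction

/-!
Parts of elements for a coprime factorisation `|G| = m * n`, the functions supported on sections,
and the divisibility theorem for their coefficients.
-/

set_option autoImplicit false

namespace Cfsg.Agent.CharTheory.Sections

open Cfsg.Agent.Characters
open Cfsg.Agent.CharTheory
open scoped ComplexConjugate

universe u

/-- The exponent projecting on the `n`-part: `0` modulo `m` and `1` modulo `n`. -/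
def idem {m n : ℕ} (h : Nat.Coprime m n) : ℕ := (Nat.chineseRemainder h 0 1).1

theorem idem_modEq_zero {m n : ℕ} (h : Nat.Coprime m n) : idem h ≡ 0 [MOD m] :=
  (Nat.chineseRemainder h 0 1).2.1

theorem idem_modEq_one {m n : ℕ} (h : Nat.Coprime m n) : idem h ≡ 1 [MOD n] :=
  (Nat.chineseRemainder h 0 1).2.2

theorem idem_add {m n : ℕ} (h : Nat.Coprime m n) : idem h.symm + idem h ≡ 1 [MOD (m * n)] :=
  (Nat.modEq_and_modEq_iff_modEq_mul h).mp
    ⟨by simpa using (idem_modEq_one h.symm).add (idem_modEq_zero h),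
     by simpa using (idem_modEq_zero h.symm).add (idem_modEq_one h)⟩

variable {G : Type u} [Group G]

/-- The `n`-part of `x` (for `|G| = m * n`). -/
def nPart {m n : ℕ} (h : Nat.Coprime m n) (x : G) : G := x ^ idem h

theorem pow_idem_self {m n : ℕ} (h : Nat.Coprime m n) {v : G} (hv : v ^ n = 1) :
    v ^ idem h = v := by
  have := pow_eq_pow_mod (idem h) hv
  rw [idem_modEq_one h, ← pow_eq_pow_mod 1 hv, pow_one] at this
  exact this

theorem pow_idem_one {m n : ℕ} (h : Nat.Coprime m n) {u : G} (hu : u ^ m = 1) :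
    u ^ idem h = 1 := by
  have := pow_eq_pow_mod (idem h) hu
  rw [idem_modEq_zero h, Nat.zero_mod, pow_zero] at this
  exact this

variable [Finite G] {m n : ℕ}

theorem pow_mul_eq_one (hmn : Nat.card G = m * n) (x : G) : x ^ (m * n) = 1 := by
  rw [← hmn, pow_card_eq_one']

theorem nPart_pow (h : Nat.Coprime m n) (hmn : Nat.card G = m * n) (x : G) :
    nPart h x ^ n = 1 := by
  obtain ⟨j, hj⟩ := Nat.modEq_zero_iff_dvd.mp (idem_modEq_zero h)
  rw [nPart, ← pow_mul, hj, mul_right_comm, pow_mul, pow_mul_eq_one hmn, one_pow]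

theorem mPart_mul_nPart (h : Nat.Coprime m n) (hmn : Nat.card G = m * n) (x : G) :
    nPart h.symm x * nPart h x = x := by
  have := pow_eq_pow_mod (idem h.symm + idem h) (pow_mul_eq_one hmn x)
  rw [idem_add h, ← pow_eq_pow_mod 1 (pow_mul_eq_one hmn x), pow_one, pow_add] at this
  exact this

omit [Finite G] in
theorem commute_parts (h : Nat.Coprime m n) (x : G) : Commute (nPart h.symm x) (nPart h x) :=
  Commute.pow_pow_self x _ _

omit [Finite G] in
theorem nPart_mul (h : Nat.Coprime m n) {u v : G} (huv : Commute u v) (hu : u ^ m = 1)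
    (hv : v ^ n = 1) : nPart h (u * v) = v := by
  rw [nPart, huv.mul_pow, pow_idem_one h hu, pow_idem_self h hv, one_mul]

omit [Finite G] in
theorem nPart_conj (h : Nat.Coprime m n) (g x : G) :
    nPart h (g * x * g⁻¹) = g * nPart h x * g⁻¹ := conj_pow

theorem pow_eq_one_of_coprime (hmn : Nat.card G = m * n) {u : G}
    (hu : Nat.Coprime (orderOf u) n) : u ^ m = 1 :=
  orderOf_dvd_iff_pow_eq_one.mp (hu.dvd_of_dvd_mul_right (hmn ▸ orderOf_dvd_natCard u))

omit [Finite G] in
theorem coprime_of_pow_eq_one (h : Nat.Coprime m n) {u : G} (hu : u ^ m = 1) :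
    Nat.Coprime (orderOf u) n :=
  h.coprime_dvd_left (orderOf_dvd_of_pow_eq_one hu)

theorem exists_decomp_iff (h : Nat.Coprime m n) (hmn : Nat.card G = m * n) (g x : G) :
    (∃ v : G, IsConj v g ∧ (∃ u : G, x = u * v ∧ Commute u v ∧ Nat.Coprime (orderOf u) n ∧
      Nat.Coprime (orderOf v) m)) ↔ IsConj (nPart h x) g := by
  constructor
  · rintro ⟨v, hv, u, rfl, huv, hu, hvm⟩
    rwa [nPart_mul h huv (pow_eq_one_of_coprime hmn hu)
      (pow_eq_one_of_coprime (n := m) (m := n) (by rw [hmn, mul_comm]) hvm)]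
  · intro hx
    exact ⟨_, hx, nPart h.symm x, (mPart_mul_nPart h hmn x).symm, commute_parts h x,
      coprime_of_pow_eq_one h (nPart_pow h.symm (by rw [hmn, mul_comm]) x),
      coprime_of_pow_eq_one h.symm (nPart_pow h hmn x)⟩

/-- `n` on the section of `g`, zero elsewhere. -/
noncomputable def sectionFun (h : Nat.Coprime m n) (g : G) : G → ℂ :=
  fun x => haveI := Classical.propDecidable (IsConj (nPart h x) g)
    if IsConj (nPart h x) g then (n : ℂ) else 0

theorem isClassFunction_sectionFun (h : Nat.Coprime m n) (g : G) :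
    Cfsg.IsClassFunction G (sectionFun h g) := by
  intro x y
  have hiff : IsConj (nPart h (y * x * y⁻¹)) g ↔ IsConj (nPart h x) g := by
    have h1 : IsConj (nPart h x) (nPart h (y * x * y⁻¹)) :=
      isConj_iff.mpr ⟨y, (nPart_conj h y x).symm⟩
    exact ⟨fun h2 => h1.trans h2, fun h2 => h1.symm.trans h2⟩
  by_cases hc : IsConj (nPart h x) g
  · simp only [sectionFun]
    rw [if_pos hc, if_pos (hiff.mpr hc)]
  · simp only [sectionFun]
    rw [if_neg hc, if_neg (fun h2 => hc (hiff.mp h2))]

/-- In an elementary subgroup the elements of exponent `m` are closed under multiplication. -/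
theorem elementary_mul_mem (h : Nat.Coprime m n) {E : Type*} [Group E] [Finite E]
    (hE : ∀ x : E, x ^ (m * n) = 1) {p : ℕ} (hp : p.Prime) (hel : Cfsg.IsElementary p E)
    {x y : E} (hx : x ^ m = 1) (hy : y ^ m = 1) : (x * y) ^ m = 1 := by
  obtain ⟨c, hc, -, k, hk⟩ := hel
  set Z := Subgroup.zpowers c with hZ
  have hZc : Z ≤ Subgroup.center E := Subgroup.zpowers_le.mpr hc
  haveI : Z.Normal := ⟨fun z hz g => by
    rwa [Subgroup.mem_center_iff.mp (hZc hz) g, mul_inv_cancel_right]⟩
  obtain ⟨j, hj⟩ : ∃ j, (Subgroup.center E).index = p ^ j := by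
    obtain ⟨j, -, hj⟩ := (Nat.dvd_prime_pow hp).mp (hk ▸ Subgroup.index_dvd_of_le hZc)
    exact ⟨j, hj⟩
  by_cases hpm : p ∣ m
  · have hcop : Nat.Coprime (p ^ j) n := (h.coprime_dvd_left hpm).pow_left j
    have hiff : ∀ z : E, z ^ m = 1 ↔
        (MonoidHom.transferCenterPow E z) ^ m = 1 := by
      intro z
      rw [← OneMemClass.coe_eq_one, Subgroup.coe_pow, MonoidHom.transferCenterPow_apply, hj,
        ← pow_mul]
      constructor
      · intro hz; rw [mul_comm, pow_mul, hz, one_pow]
      · intro hz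
        have h1 : orderOf z ∣ Nat.gcd (p ^ j * m) (n * m) := Nat.dvd_gcd
          (orderOf_dvd_of_pow_eq_one hz) (orderOf_dvd_of_pow_eq_one (by rw [mul_comm]; exact hE z))
        rw [Nat.gcd_mul_right, Nat.Coprime.gcd_eq_one hcop, one_mul] at h1
        exact orderOf_dvd_iff_pow_eq_one.mp h1
    rw [hiff] at hx hy ⊢
    rw [map_mul, Commute.mul_pow (Subtype.ext (Subgroup.mem_center_iff.mp
      (MonoidHom.transferCenterPow E y).2 _)), hx, hy, one_mul]
  · have hmem : ∀ z : E, z ^ m = 1 → z ∈ Subgroup.center E := by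
      intro z hz
      rw [← QuotientGroup.eq_one_iff]
      refine orderOf_eq_one_iff.mp ?_
      have h1 : orderOf (z : E ⧸ Subgroup.center E) ∣ p ^ j := by
        rw [← hj, Subgroup.index_eq_card]; exact orderOf_dvd_natCard _
      have h2 : orderOf (z : E ⧸ Subgroup.center E) ∣ m := by
        refine orderOf_dvd_of_pow_eq_one ?_
        rw [← QuotientGroup.mk_pow, hz, QuotientGroup.mk_one]
      exact Nat.eq_one_of_dvd_coprimes ((hp.coprime_iff_not_dvd.mpr hpm).pow_left j) h1 h2
    have hcom : Commute x y := (Subgroup.mem_center_iff.mp (hmem y hy) x)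
    rw [hcom.mul_pow, hx, hy, one_mul]

/-- The elements of exponent `m` of an elementary group. -/
def torsionPart (h : Nat.Coprime m n) {E : Type*} [Group E] [Finite E]
    (hE : ∀ x : E, x ^ (m * n) = 1) {p : ℕ} (hp : p.Prime) (hel : Cfsg.IsElementary p E) :
    Subgroup E where
  carrier := {x | x ^ m = 1}
  one_mem' := one_pow m
  mul_mem' := elementary_mul_mem h hE hp hel
  inv_mem' {x} hx := by
    show x⁻¹ ^ m = 1
    rw [inv_pow, show x ^ m = 1 from hx, inv_one]

theorem mem_torsionPart (h : Nat.Coprime m n) {E : Type*} [Group E] [Finite E]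
    (hE : ∀ x : E, x ^ (m * n) = 1) {p : ℕ} (hp : p.Prime) (hel : Cfsg.IsElementary p E) {x : E} :
    x ∈ torsionPart h hE hp hel ↔ x ^ m = 1 := Iff.rfl

/-- The coefficients of a section function are algebraic integers. -/
theorem classInner_sectionFun_isIntegral [Fintype G] (h : Nat.Coprime m n)
    (hmn : Nat.card G = m * n) (g : G) {χ : G → ℂ} (hχ : Cfsg.IsCharacter G χ) :
    IsIntegral ℤ (Cfsg.classInner (sectionFun h g) χ) := by
  classical
  refine BrauerInduction.classInner_mem_of_elementary (isClassFunction_sectionFun h g)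
    (integralClosure ℤ ℂ).toSubring.toAddSubgroup (fun E _ p hp hel φ hφ => ?_) hχ
  show IsIntegral ℤ _
  have hE : ∀ x : E, x ^ (m * n) = 1 := fun x => Subtype.ext (by
    rw [Subgroup.coe_pow, pow_mul_eq_one hmn]; rfl)
  have hE' : ∀ x : E, x ^ (n * m) = 1 := fun x => by rw [mul_comm]; exact hE x
  set U := torsionPart h hE hp hel with hU
  set V := torsionPart h.symm hE' hp hel with hV
  haveI hUn : U.Normal := ⟨fun x hx y => by
    show (y * x * y⁻¹) ^ m = 1
    rw [conj_pow, show x ^ m = 1 from hx, mul_one, mul_inv_cancel]⟩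
  haveI hVn : V.Normal := ⟨fun x hx y => by
    show (y * x * y⁻¹) ^ n = 1
    rw [conj_pow, show x ^ n = 1 from hx, mul_one, mul_inv_cancel]⟩
  haveI : Fintype U := Fintype.ofFinite U
  haveI : Fintype V := Fintype.ofFinite V
  have hdisj : Disjoint U V := by
    rw [disjoint_iff, eq_bot_iff]
    intro x hx
    rw [Subgroup.mem_bot, ← orderOf_eq_one_iff]
    exact Nat.eq_one_of_dvd_coprimes h (orderOf_dvd_of_pow_eq_one hx.1)
      (orderOf_dvd_of_pow_eq_one hx.2)
  have hcomm : ∀ u ∈ U, ∀ v ∈ V, Commute u v := fun u hu v hv =>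
    Subgroup.commute_of_normal_of_disjoint U V hUn hVn hdisj u v hu hv
  have hnP : ∀ (u : U) (v : V), nPart h ((u : E) * v) = v := fun u v =>
    nPart_mul h (hcomm _ u.2 _ v.2) u.2 v.2
  have hdec : ∀ x : E, nPart h.symm x * nPart h x = x := by
    intro x
    have := pow_eq_pow_mod (idem h.symm + idem h) (hE x)
    rw [idem_add h, ← pow_eq_pow_mod 1 (hE x), pow_one, pow_add] at this
    exact this
  have hUmem : ∀ x : E, nPart h.symm x ∈ U := by
    intro x
    show nPart h.symm x ^ m = 1
    obtain ⟨j, hj⟩ := Nat.modEq_zero_iff_dvd.mp (idem_modEq_zero h.symm)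
    rw [nPart, ← pow_mul, hj, mul_right_comm, pow_mul, hE', one_pow]
  have hVmem : ∀ x : E, nPart h x ∈ V := by
    intro x
    show nPart h x ^ n = 1
    obtain ⟨j, hj⟩ := Nat.modEq_zero_iff_dvd.mp (idem_modEq_zero h)
    rw [nPart, ← pow_mul, hj, mul_right_comm, pow_mul, hE, one_pow]
  let e : U × V ≃ E :=
    { toFun := fun q => (q.1 : E) * q.2
      invFun := fun x => (⟨_, hUmem x⟩, ⟨_, hVmem x⟩)
      left_inv := fun q => Prod.ext (Subtype.ext (by
          show nPart h.symm ((q.1 : E) * q.2) = q.1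
          rw [(hcomm _ q.1.2 _ q.2.2).eq]
          exact nPart_mul h.symm (hcomm _ q.1.2 _ q.2.2).symm q.2.2 q.1.2))
        (Subtype.ext (hnP q.1 q.2))
      right_inv := fun x => hdec x }
  have hcard : Nat.card E = Nat.card U * Nat.card V := by
    rw [← Nat.card_congr e, Nat.card_prod]
  -- `|V|` divides `n`
  have hVdvd : Nat.card V ∣ n := by
    have h1 : Nat.card V ∣ m * n := hmn ▸ ((V.card_subgroup_dvd_card).trans E.card_subgroup_dvd_card)
    refine Nat.Coprime.dvd_of_dvd_mul_left ?_ h1
    refine Nat.coprime_of_dvd fun q hq hqV hqm => ?_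
    haveI := Fact.mk hq
    obtain ⟨v, hv⟩ := exists_prime_orderOf_dvd_card' q hqV
    have h2 : q ∣ n := by
      rw [← hv, ← Subgroup.orderOf_coe]
      exact orderOf_dvd_of_pow_eq_one v.2
    exact hq.one_lt.ne' (Nat.eq_one_of_dvd_coprimes h hqm h2)
  obtain ⟨a, ha⟩ := hVdvd
  have hφc : Cfsg.IsCharacter E (fun x => conj (φ x)) := Basics.isCharacter_conj hφ
  have key : Cfsg.classInner (fun x : E => sectionFun h g (x : G)) φ =
      (a : ℂ) * ∑ v : V, (if IsConj (((v : E) : G)) g then (1 : ℂ) else 0) *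
        Average.avg U (fun x => conj (φ x)) (v : E) := by
    rw [classInner_def, ← Fintype.sum_equiv e (fun q => sectionFun h g ((e q : E) : G) * conj (φ (e q)))
      (fun x : E => sectionFun h g (x : G) * conj (φ x)) (fun q => rfl), Fintype.sum_prod_type,
      Finset.sum_comm, Finset.mul_sum, Finset.mul_sum]
    refine Finset.sum_congr rfl fun v _ => ?_
    have hval : ∀ u : U, sectionFun h g ((e (u, v) : E) : G) =
        if IsConj (((v : E) : G)) g then (n : ℂ) else 0 := by
      intro u
      have h1 : nPart h ((e (u, v) : E) : G) = ((v : E) : G) := by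
        rw [← congrArg Subtype.val (hnP u v)]
        simp [e, nPart]
      simp only [sectionFun, h1]
    simp only [hval, ← Finset.mul_sum]
    rw [show ((e : U × V → E)) = fun q => (q.1 : E) * q.2 from rfl]
    split_ifs with hc
    · rw [Average.avg, hcard, ha, Nat.cast_mul, Nat.cast_mul, one_mul]
      have hU0 : (Nat.card U : ℂ) ≠ 0 := natCard_ne_zero
      have hV0 : (Nat.card V : ℂ) ≠ 0 := natCard_ne_zero
      field_simp
    · simp
  rw [key]
  refine (isIntegral_natCast a).mul (IsIntegral.sum _ fun v _ => ?_)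
  split_ifs
  · rw [one_mul]
    exact char_value_isIntegral (Average.isCharacter_avg U hφc) _
  · rw [zero_mul]; exact isIntegral_zero

/-- Frobenius: `m` divides the number of solutions of `x ^ m = 1`. -/
theorem dvd_card_pow_eq_one [Fintype G] (h : Nat.Coprime m n) (hmn : Nat.card G = m * n) :
    m ∣ Nat.card {x : G // x ^ m = 1} := by
  classical
  have hint := classInner_sectionFun_isIntegral h hmn (1 : G) (isCharacter_one (G := G))
  have hm0 : m ≠ 0 := by
    rintro rfl
    exact Nat.card_pos.ne' (hmn.trans (zero_mul n))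
  have hn0 : n ≠ 0 := by
    rintro rfl
    exact Nat.card_pos.ne' (hmn.trans (mul_zero m))
  refine dvd_of_isIntegral_div hm0 ?_
  convert hint using 1
  rw [classInner_def]
  have hiff : ∀ x : G, IsConj (nPart h x) 1 ↔ x ^ m = 1 := by
    intro x
    rw [isConj_one_left]
    refine ⟨fun h1 => ?_, fun h1 => ?_⟩
    · have h2 := mPart_mul_nPart h hmn x
      rw [h1, mul_one] at h2
      rw [← h2]
      exact nPart_pow h.symm (by rw [hmn, mul_comm]) x
    · exact pow_idem_one h h1
  simp only [sectionFun, hiff, map_one, mul_one]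
  rw [← Finset.sum_filter, Finset.sum_const, nsmul_eq_mul, hmn, Nat.card_eq_fintype_card,
    Fintype.card_subtype, Nat.cast_mul]
  have hm' : (m : ℂ) ≠ 0 := Nat.cast_ne_zero.mpr hm0
  have hn' : (n : ℂ) ≠ 0 := Nat.cast_ne_zero.mpr hn0
  field_simp

end Cfsg.Agent.CharTheory.Sections
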