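import Mathlib
import Cfsg.Agent.Lib.Characters.Induction
import Cfsg.Agent.Lib.Characters.Kernel
import Cfsg.Agent.Lib.Characters.Schur
import Cfsg.Agent.Lib.CharTheory.IndBasic
import Cfsg.Agent.Lib.Involutions.ThompsonTransfer

/-!
Perfect groups with an involution whose centralizer is dihedral of order 8.
-/

set_option autoImplicit false
set_option linter.unusedSectionVars false

namespace Cfsg.Agent.CharTheory.DihedralEight

open Cfsg.Agent.Characters Cfsg.Agent.CharTheory.IndBasic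

/-- The arithmetic of the degrees. -/
theorem order_of_degrees {N m : ℕ} (hN : N = 8 * m) (hm : Odd m) {D : ℤ}
    (he : (N : ℤ) * (D - 1) ^ 2 = 256 * D * (D + 1)) : N = 168 ∨ N = 360 := by
  obtain ⟨mh, hmh⟩ := hm
  subst hN
  subst hmh
  push_cast at he
  have h2 : ∀ k : ℤ, (2 : ℤ) ∣ (2 * (mh : ℤ) + 1) * k ^ 2 → ∃ l, k = 2 * l := fun k hk => by
    have h3 : (2 : ℤ) ∣ k ^ 2 := by
      have : (2 : ℤ) ∣ (2 * (mh : ℤ) + 1) * k ^ 2 - 2 * ((mh : ℤ) * k ^ 2) :=
        dvd_sub hk (dvd_mul_right _ _)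
      rwa [show (2 * (mh : ℤ) + 1) * k ^ 2 - 2 * ((mh : ℤ) * k ^ 2) = k ^ 2 by ring] at this
    exact Int.prime_two.dvd_of_dvd_pow h3
  obtain ⟨l, hl⟩ := h2 (D - 1) ⟨16 * D * (D + 1), by linarith⟩
  have hD : D = 2 * l + 1 := by linarith
  subst hD
  have e1 : (2 * (mh : ℤ) + 1) * l ^ 2 = 16 * (2 * l + 1) * (l + 1) := by linarith
  obtain ⟨p, rfl⟩ := h2 l ⟨8 * (2 * l + 1) * (l + 1), by linarith⟩
  have e2 : (2 * (mh : ℤ) + 1) * p ^ 2 = 4 * (4 * p + 1) * (2 * p + 1) := by linarith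
  obtain ⟨j, rfl⟩ := h2 p ⟨2 * (4 * p + 1) * (2 * p + 1), by linarith⟩
  have e3 : (2 * (mh : ℤ) + 1) * j ^ 2 = (8 * j + 1) * (4 * j + 1) := by linarith
  have hj : j ∣ 1 := ⟨(2 * (mh : ℤ) + 1) * j - 32 * j - 12, by linarith⟩
  rcases Int.isUnit_iff.1 (isUnit_of_dvd_one hj) with rfl | rfl
  · right; omega
  · left; omega

open scoped commutatorElement

variable {G : Type*} [Group G] [Fintype G]

/-- A generalized character of norm three containing the principal character once. -/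
theorem norm_three {Φ : G → ℂ} (hgen : Cfsg.IsGeneralizedCharacter G Φ)
    (h3 : Cfsg.classInner Φ Φ = 3) (h1 : Cfsg.classInner Φ (fun _ => 1) = 1) :
    ∃ (p q : Cfsg.IrrCharacter G) (a b : ℤ), p ≠ q ∧ (p : G → ℂ) ≠ (fun _ => 1) ∧
      (q : G → ℂ) ≠ (fun _ => 1) ∧ a * a = 1 ∧ b * b = 1 ∧
      ∀ g, Φ g = 1 + (a : ℂ) * (p : G → ℂ) g + (b : ℂ) * (q : G → ℂ) g := by
  classical
  haveI := Fintype.ofFinite (Cfsg.IrrCharacter G)
  let pr : Cfsg.IrrCharacter G := ⟨fun _ => 1, isIrrCharacter_one⟩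
  choose z hz using fun ψ : Cfsg.IrrCharacter G =>
    classInner_gen_int hgen (isGen_of_isCharacter (irr_isCharacter ψ))
  have hsum : ∑ ψ, z ψ * z ψ = 3 := by
    have := classInner_eq_sum Φ (isGen_isClassFunction hgen)
    simp only [fun ψ : Cfsg.IrrCharacter G => classInner_conj_symm Φ (ψ : G → ℂ), hz,
      map_intCast, h3] at this
    exact_mod_cast this.symm
  have hzpr : z pr = 1 := by exact_mod_cast (hz pr).symm.trans h1
  let T := (Finset.univ.erase pr).filter fun ψ => z ψ ≠ 0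
  have hT2 : ∑ ψ ∈ T, z ψ * z ψ = 2 := by
    have h1 := Finset.sum_erase_add Finset.univ (fun ψ => z ψ * z ψ) (Finset.mem_univ pr)
    rw [hsum, hzpr] at h1
    show ∑ ψ ∈ (Finset.univ.erase pr).filter (fun ψ => z ψ ≠ 0), z ψ * z ψ = 2
    rw [Finset.sum_filter_of_ne (p := fun ψ => z ψ ≠ 0) (fun ψ _ hne h0 => hne (by rw [h0, zero_mul]))]
    linarith
  have hge : ∀ ψ ∈ T, 1 ≤ z ψ * z ψ := fun ψ hψ => mul_self_pos.2 (Finset.mem_filter.1 hψ).2
  have hcard : T.card = 2 := by
    have hle : (T.card : ℤ) ≤ 2 := by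
      have h1 := Finset.card_nsmul_le_sum T _ 1 hge
      rwa [hT2, nsmul_eq_mul, mul_one] at h1
    have hne : T.card ≠ 0 := fun h0 => by
      rw [Finset.card_eq_zero.1 h0, Finset.sum_empty] at hT2
      omega
    rcases Nat.lt_or_ge T.card 2 with h2 | h2
    · obtain ⟨ψ, hψ⟩ := Finset.card_eq_one.1 (show T.card = 1 by omega)
      rw [hψ, Finset.sum_singleton] at hT2
      have hb : z ψ ≤ 1 ∧ -1 ≤ z ψ := by constructor <;> nlinarith
      obtain ⟨hb, hb'⟩ := hb
      interval_cases (z ψ) <;> omega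
    · omega
  obtain ⟨p, q, hpq, hTpq⟩ := Finset.card_eq_two.1 hcard
  have hpT : p ∈ T := by simp [hTpq]
  have hqT : q ∈ T := by simp [hTpq]
  rw [hTpq, Finset.sum_pair hpq] at hT2
  have hp1 : z p * z p = 1 := by nlinarith [hge p hpT, hge q hqT]
  have hq1 : z q * z q = 1 := by nlinarith [hge p hpT, hge q hqT]
  have hne1 : ∀ ψ ∈ T, (ψ : G → ℂ) ≠ fun _ => 1 := fun ψ hψ he =>
    (Finset.mem_erase.1 (Finset.mem_filter.1 hψ).1).1 (Subtype.ext he)
  refine ⟨p, q, z p, z q, hpq, hne1 p hpT, hne1 q hqT, hp1, hq1, fun g => ?_⟩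
  have h1 := congrFun (classFun_eq_sum (isGen_isClassFunction hgen)) g
  simp only [Finset.sum_apply, Pi.smul_apply, smul_eq_mul, hz] at h1
  rw [h1, ← Finset.sum_erase_add _ _ (Finset.mem_univ pr), hzpr, Int.cast_one, one_mul, add_comm,
    ← Finset.sum_filter_of_ne (p := fun ψ => z ψ ≠ 0) (fun ψ _ hne h0 => hne (by simp [h0]))]
  show (1 : ℂ) + ∑ ψ ∈ T, _ = _
  rw [hTpq, Finset.sum_pair hpq, add_assoc]

/-- The value of a character at an involution is an integer. -/
theorem exists_int_value {χ : G → ℂ} (hχ : Cfsg.IsCharacter G χ) {t : G} (ht : orderOf t = 2) :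
    ∃ z : ℤ, χ t = (z : ℂ) := by
  classical
  let H := Subgroup.zpowers t
  haveI := Fintype.ofFinite H
  obtain ⟨d, hd⟩ := char_one_nat hχ
  obtain ⟨m, hm⟩ := classInner_char_nat (isCharacter_restrict H hχ) (isCharacter_one (G := H))
  have hcard : Nat.card H = 2 := (Nat.card_zpowers t).trans ht
  let t' : H := ⟨t, Subgroup.mem_zpowers t⟩
  have hne : (1 : H) ≠ t' := fun h0 => by
    have h1 : (1 : G) = t := congrArg Subtype.val h0
    rw [← h1, orderOf_one] at ht
    omega
  have huniv : (Finset.univ : Finset H) = {1, t'} :=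
    (Finset.eq_univ_of_card _ (by
      rw [Finset.card_pair hne, ← Nat.card_eq_fintype_card, hcard])).symm
  rw [classInner_def, hcard, huniv, Finset.sum_pair hne] at hm
  simp only [Subgroup.coe_one, map_one, mul_one, hd] at hm
  refine ⟨2 * (m : ℤ) - d, ?_⟩
  push_cast at hm ⊢
  linear_combination (2 : ℂ) * hm

/-- Counting products of two conjugates of an involution in a character. -/
theorem sum_mul_involutions {χ : G → ℂ} (hχ : Cfsg.IsIrrCharacter G χ) (I : Finset G) (t : G)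
    (hconj : ∀ u ∈ I, ∀ a : G, a * u * a⁻¹ ∈ I) (hval : ∀ u ∈ I, χ u = χ t) :
    χ 1 * ∑ u ∈ I, ∑ v ∈ I, χ (u * v) = ((I.card : ℂ) * χ t) ^ 2 := by
  classical
  obtain ⟨m, ρ, hρ, rfl⟩ := hχ
  haveI := hρ
  let f : G → ℂ := fun g => if g ∈ I then 1 else 0
  have hf : Cfsg.IsClassFunction G f := fun g a => by
    have h1 : a * g * a⁻¹ ∈ I ↔ g ∈ I :=
      ⟨fun h => by simpa [mul_assoc] using hconj _ h a⁻¹, fun h => hconj g h a⟩
    simp only [f, h1]
  obtain ⟨w, hw⟩ := schur_scalar ρ _ (sum_smul_comm ρ hf)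
  have hT : (∑ g : G, f g • ρ g) = ∑ u ∈ I, ρ u := by
    rw [← Finset.univ_inter I, ← Finset.sum_ite_mem]
    exact Finset.sum_congr rfl fun g _ => by simp [f, ite_smul]
  rw [hT] at hw
  have h1 : (I.card : ℂ) * ρ.character t = w * ρ.character 1 := by
    have h2 := congrArg (LinearMap.trace ℂ (Fin m → ℂ)) hw
    rw [map_sum, map_smul, smul_eq_mul] at h2
    rw [← nsmul_eq_mul, ← Finset.sum_const]
    refine (Finset.sum_congr rfl fun u hu => (hval u hu).symm).trans (h2.trans ?_)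
    rw [Representation.character, ρ.map_one]
    rfl
  have h3 : ∑ u ∈ I, ∑ v ∈ I, ρ.character (u * v) = w ^ 2 * ρ.character 1 := by
    have h2 := congrArg (fun T : Module.End ℂ (Fin m → ℂ) =>
      LinearMap.trace ℂ (Fin m → ℂ) (T * T)) hw
    simp only [Finset.sum_mul_sum, map_sum, ← map_mul] at h2
    refine h2.trans ?_
    rw [show (w • LinearMap.id : Module.End ℂ (Fin m → ℂ)) = w • 1 from rfl, smul_mul_assoc,
      one_mul, smul_smul, map_smul, Representation.character, ρ.map_one, smul_eq_mul, sq]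
  rw [h3, h1]
  ring

theorem card_eq (hperf : commutator G = ⊤) (t : G) (ht : orderOf t = 2)
    (e : Subgroup.centralizer ({t} : Set G) ≃* DihedralGroup 4) :
    Nat.card G = 168 ∨ Nat.card G = 360 := by
  classical
  haveI : Fact (Nat.Prime 2) := ⟨Nat.prime_two⟩
  let C := Subgroup.centralizer ({t} : Set G)
  let f : DihedralGroup 4 →* G := C.subtype.comp e.symm.toMonoidHom
  have hfi : Function.Injective f := fun a b hab => e.symm.injective (Subtype.val_injective hab)
  have hfC : ∀ {g}, g ∈ C → ∃ d, f d = g := fun {g} hg =>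
    ⟨e ⟨g, hg⟩, congrArg Subtype.val (e.symm_apply_apply ⟨g, hg⟩)⟩
  have hfmem : ∀ d, f d ∈ C := fun d => SetLike.coe_mem _
  have hcomm : ∀ {g}, g ∈ C ↔ t * g = g * t := fun {g} => by
    simp [C, Subgroup.mem_centralizer_iff]
  have hft : f (.r 2) = t := by
    obtain ⟨z, hz⟩ := hfC (hcomm.2 rfl : t ∈ C)
    have h0 : ∀ z : DihedralGroup 4, z ≠ 1 → z * z = 1 → (∀ v, z * v = v * z) → z = .r 2 := by decide
    rw [← hz]
    refine (congrArg f (h0 z ?_ ?_ fun v => hfi ?_)).symm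
    · rintro rfl
      rw [map_one] at hz
      rw [← hz, orderOf_one] at ht
      omega
    · apply hfi
      rw [map_mul, map_one, hz, ← sq, ← ht, pow_orderOf_eq_one]
    · rw [map_mul, map_mul, hz]
      exact hcomm.1 (hfmem v)
  let a := f (.r 1)
  let s := f (.sr 0)
  let A := Subgroup.zpowers a
  have ha : orderOf a = 4 := (orderOf_injective f hfi _).trans DihedralGroup.orderOf_r_one
  have hA : ∀ {w}, w ∈ A ↔ ∃ i, f (.r i) = w := by
    intro w
    constructor
    · intro hw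
      obtain ⟨i, rfl⟩ := Subgroup.mem_zpowers_iff.1 hw
      exact ⟨(i : ZMod 4), by rw [← map_zpow, DihedralGroup.r_one_zpow]⟩
    · rintro ⟨i, rfl⟩
      exact Subgroup.mem_zpowers_iff.2 ⟨(i.val : ℤ), by
        rw [zpow_natCast, ← map_pow, DihedralGroup.r_one_pow, ZMod.natCast_zmod_val]⟩
  have hAC : A ≤ C := Subgroup.zpowers_le.2 (hfmem _)
  have hsC : s ∈ C := hfmem _
  have hsplit : ∀ c ∈ C, Xor (c * s ∈ A) (c ∈ A) := by
    intro c hc
    obtain ⟨d, rfl⟩ := hfC hc
    have h1 : ∀ d : DihedralGroup 4, (f d ∈ A ↔ ∃ i, d = .r i) := fun d =>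
      hA.trans ⟨fun ⟨i, hi⟩ => ⟨i, (hfi hi).symm⟩, fun ⟨i, hi⟩ => ⟨i, hi ▸ rfl⟩⟩
    rw [← map_mul, h1, h1]
    revert d
    intro d _
    cases d with
    | r i =>
      exact Or.inr ⟨⟨i, rfl⟩, fun ⟨j, hj⟩ => by
        rw [DihedralGroup.r_mul_sr] at hj
        simp at hj⟩
    | sr i =>
      exact Or.inl ⟨⟨0 - i, by rw [DihedralGroup.sr_mul_sr]⟩, fun ⟨j, hj⟩ => by simp at hj⟩
  have hsA : ∀ w ∈ A, s * w * s⁻¹ = w⁻¹ := by
    intro w hw
    obtain ⟨i, rfl⟩ := hA.1 hw
    rw [← map_inv, ← map_mul, ← map_mul, ← map_inv]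
    have h0 : ∀ i : ZMod 4, DihedralGroup.sr 0 * DihedralGroup.r i * (DihedralGroup.sr 0)⁻¹ =
        (DihedralGroup.r i : DihedralGroup 4)⁻¹ := by decide
    rw [h0 i]
  have hA2 : ∀ w ∈ A, w ≠ 1 → w = t ∨ w * w = t := by
    intro w hw hne
    obtain ⟨i, rfl⟩ := hA.1 hw
    have h1 : ∀ i : ZMod 4, (DihedralGroup.r i : DihedralGroup 4) = 1 ∨ i = 2 ∨
        (DihedralGroup.r i : DihedralGroup 4) * .r i = .r 2 := by decide
    rcases h1 i with h | h | h
    · rw [h, map_one] at hne; exact absurd rfl hne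
    · exact Or.inl (h ▸ hft)
    · exact Or.inr (by rw [← map_mul, h, hft])
  have hfus : ∀ (g w : G), w ∈ A → w ≠ 1 → g * w * g⁻¹ ∈ A → g ∈ C := by
    intro g w hw hne hgw
    have hne' : g * w * g⁻¹ ≠ 1 := fun h0 => hne (by
      have h1 : g * w = g := mul_inv_eq_one.1 h0
      exact mul_eq_left.1 h1)
    have key : g * t * g⁻¹ = t → g ∈ C := fun h => hcomm.2 (mul_inv_eq_iff_eq_mul.1 h).symm
    apply key
    have hconj2 : g * (w * w) * g⁻¹ = g * w * g⁻¹ * (g * w * g⁻¹) := by group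
    have ht2 : t * t = 1 := by rw [← sq, ← ht, pow_orderOf_eq_one]
    have ht1 : t ≠ 1 := fun h0 => by rw [h0, orderOf_one] at ht; omega
    rcases hA2 w hw hne with h | h <;> rcases hA2 _ hgw hne' with h' | h'
    · rw [← h]; exact h'.trans h.symm
    · rw [← hconj2, h, ht2, mul_one, mul_inv_cancel] at h'
      exact absurd h'.symm ht1
    · have h2 : g * t * g⁻¹ = 1 := by rw [← h, hconj2, h', ht2]
      exact absurd (mul_eq_left.1 (mul_inv_eq_one.1 h2)) ht1
    · rw [← h, hconj2, h']; exact h.symm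
  -- involutions
  obtain ⟨S, hS⟩ := ((IsPGroup.of_card (n := 3) (by
    rw [Nat.card_congr e.toEquiv, DihedralGroup.nat_card]; norm_num) : IsPGroup 2 C)).exists_le_sylow
  have hcardC : Nat.card C = 8 := by
    rw [Nat.card_congr e.toEquiv, DihedralGroup.nat_card]
  have hSC : (S : Subgroup G) = C := by
    refine le_antisymm ?_ hS
    by_contra hlt
    haveI := S.isPGroup'.isNilpotent
    have hne : C.subgroupOf S ≠ ⊤ := fun h0 => hlt (Subgroup.subgroupOf_eq_top.1 h0)
    obtain ⟨g, hgN, hgC⟩ := SetLike.exists_of_lt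
      (Group.normalizerCondition_of_isNilpotent _ (lt_top_iff_ne_top.2 hne))
    refine hgC ?_
    have hz : (⟨t, hS (hcomm.2 rfl)⟩ : S) ∈ C.subgroupOf S := (hcomm.2 rfl : t ∈ C)
    have hgt : (g : G) * t * (g : G)⁻¹ ∈ C :=
      (Subgroup.mem_normalizer_iff.1 hgN _).1 hz
    show (g : G) ∈ C
    have hcent : ∀ c ∈ C, ((g : G) * t * (g : G)⁻¹) * c = c * ((g : G) * t * (g : G)⁻¹) := by
      intro c hc
      have h1 : (g : G)⁻¹ * c * g ∈ C := by
        have h0 := (Subgroup.mem_normalizer_iff.1 (inv_mem hgN) ⟨c, hS hc⟩).1 hc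
        have h0' : (g : G)⁻¹ * c * ((g : G)⁻¹)⁻¹ ∈ C := h0
        simpa using h0'
      have h2 := congrArg (fun z => (g : G) * z * (g : G)⁻¹) (hcomm.1 h1)
      simpa [mul_assoc] using h2
    obtain ⟨z, hz'⟩ := hfC hgt
    have h0 : ∀ z : DihedralGroup 4, (∀ v, z * v = v * z) → z = 1 ∨ z = .r 2 := by decide
    rcases h0 z (fun v => hfi (by rw [map_mul, map_mul, hz']; exact hcent _ (hfmem v))) with rfl | rfl
    · rw [map_one] at hz'
      have h1 : t = 1 := by
        have := mul_inv_eq_one.1 hz'.symm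
        exact mul_eq_left.1 this
      rw [h1, orderOf_one] at ht
      omega
    · rw [hft] at hz'
      exact hcomm.2 (mul_inv_eq_iff_eq_mul.1 hz'.symm).symm
  have hinv : ∀ u : G, orderOf u = 2 → ∃ g : G, g * u * g⁻¹ = t := by
    intro u hu
    have hno2 : ∀ H : Subgroup G, H.index ≠ 2 := fun H hH => by
      haveI := Subgroup.normal_of_index_eq_two hH
      have h1 : Nat.card (G ⧸ H) = 2 := hH
      haveI := isCyclic_of_prime_card h1
      have h2 : commutator G ≤ H := by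
        rw [commutator_def, Subgroup.commutator_le]
        intro g₁ _ g₂ _
        rw [← QuotientGroup.eq_one_iff]
        show QuotientGroup.mk' H ⁅g₁, g₂⁆ = 1
        rw [map_commutatorElement, commutatorElement_eq_one_iff_mul_comm]
        exact (IsCyclic.commGroup (α := G ⧸ H)).mul_comm _ _
      rw [hperf, top_le_iff] at h2
      rw [h2, Subgroup.index_top] at hH
      omega
    have hrel : A.relIndex (S : Subgroup G) = 2 := by
      rw [hSC]
      have h1 := (A.subgroupOf C).card_mul_index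
      rw [Nat.card_congr (Subgroup.subgroupOfEquivOfLe hAC).toEquiv, hcardC, Nat.card_zpowers,
        ha] at h1
      show (A.subgroupOf C).index = 2
      omega
    obtain ⟨g, hg⟩ := Involutions.ThompsonTransfer.exists_conj_mem hno2 S A (hSC ▸ hAC) hrel u hu
    refine ⟨g, ?_⟩
    have hord : orderOf (g * u * g⁻¹) = 2 :=
      (orderOf_injective (MulAut.conj g).toMonoidHom (MulAut.conj g).injective u).trans hu
    rcases hA2 _ hg (fun h0 => by rw [h0, orderOf_one] at hord; omega) with h | h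
    · exact h
    · rw [← sq, ← hord, pow_orderOf_eq_one] at h
      rw [← h, orderOf_one] at ht
      omega
  -- the order
  have hSeight : Nat.card (S : Subgroup G) = 8 := by rw [hSC, hcardC]
  obtain ⟨m, hm⟩ : 8 ∣ Nat.card G := hSeight ▸ Subgroup.card_subgroup_dvd_card _
  have hmodd : Odd m := by
    have h1 := (S : Subgroup G).card_mul_index
    rw [hSeight, hm] at h1
    have h2 : (S : Subgroup G).index = m := by omega
    rw [← h2]
    exact Nat.odd_iff.2 (Nat.two_dvd_ne_zero.1 S.not_dvd_index)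
  -- the exceptional character
  haveI := Fintype.ofFinite A
  let u : ℂˣ := Units.mk0 Complex.I Complex.I_ne_zero
  have hu4 : orderOf u ∣ orderOf (⟨a, Subgroup.mem_zpowers a⟩ : A) := by
    rw [Subgroup.orderOf_mk, ha]
    exact orderOf_dvd_of_pow_eq_one (Units.ext (by simp [u]))
  have hgenA : ∀ w : A, w ∈ Subgroup.zpowers (⟨a, Subgroup.mem_zpowers a⟩ : A) := fun ⟨w, hw⟩ => by
    obtain ⟨i, rfl⟩ := Subgroup.mem_zpowers_iff.1 hw
    exact Subgroup.mem_zpowers_iff.2 ⟨i, rfl⟩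
  let ν : A →* ℂˣ := monoidHomOfForallMemZpowers hgenA hu4
  have hνa : (ν ⟨a, Subgroup.mem_zpowers a⟩ : ℂ) = Complex.I := by
    rw [monoidHomOfForallMemZpowers_apply_gen]
    rfl
  let one : A → ℂ := fun _ => 1
  let νf : A → ℂ := fun c => (ν c : ℂ)
  let νb : A → ℂ := fun c => ((ν⁻¹ : A →* ℂˣ) c : ℂ)
  let β : A → ℂ := one - νf
  let Φ := Cfsg.indFun A β
  have hgen : Cfsg.IsGeneralizedCharacter G Φ :=
    isGen_indFun _ (isGen_sub (isGen_of_isCharacter isCharacter_one)
      (isGen_of_isCharacter (isCharacter_linear ν)))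
  have hβ0 : ∀ g, Cfsg.extendByZero A β g ≠ 0 → g ∈ A ∧ g ≠ 1 := by
    intro g hg
    by_cases hgA : g ∈ A
    · refine ⟨hgA, fun h1 => hg ?_⟩
      subst h1
      rw [extendByZero_of_mem _ _ hgA]
      show (1 : ℂ) - (ν 1 : ℂ) = 0
      simp
    · exact absurd (extendByZero_of_notMem _ _ hgA) hg
  have hres : (fun c : A => Φ c) = (2 : ℂ) • one - νf - νb := by
    funext c
    have hterm : ∀ g : G, Cfsg.extendByZero A β (g⁻¹ * c * g) =
        (if g ∈ A then 1 - (ν c : ℂ) else 0) +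
          (if g * s ∈ A then 1 - ((ν c : ℂ))⁻¹ else 0) := by
      intro g
      by_cases hg : g ∈ A
      · have hgs : g * s ∉ A := fun h1 => by
          rcases hsplit g (hAC hg) with h | h
          · exact h.2 hg
          · exact h.2 h1
        rw [if_pos hg, if_neg hgs, add_zero,
          extendByZero_of_mem _ _ (mul_mem (mul_mem (inv_mem hg) c.2) hg)]
        show (1 : ℂ) - (ν ((⟨g, hg⟩ : A)⁻¹ * c * ⟨g, hg⟩) : ℂ) = _
        rw [map_mul, map_mul, map_inv, mul_right_comm, inv_mul_cancel, one_mul]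
      rw [if_neg hg, zero_add]
      by_cases hgs : g * s ∈ A
      · let b : A := ((⟨g * s, hgs⟩ : A)⁻¹ * c * ⟨g * s, hgs⟩)⁻¹
        have he : g⁻¹ * c * g = (b : G) := by
          show g⁻¹ * c * g = ((g * s)⁻¹ * c * (g * s))⁻¹
          rw [← hsA _ (mul_mem (mul_mem (inv_mem hgs) c.2) hgs)]
          group
        rw [if_pos hgs, he, extendByZero_of_mem _ _ b.2]
        show (1 : ℂ) - (ν b : ℂ) = _
        simp only [b, map_mul, map_inv, Units.val_mul, Units.val_inv_eq_inv_val]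
        field_simp
      · rw [if_neg hgs]
        by_contra hne
        obtain ⟨h1, h2⟩ := hβ0 _ hne
        have hgC : g ∈ C := hfus g _ h1 h2 (by simpa [mul_assoc] using c.2)
        rcases hsplit g hgC with h | h
        · exact hgs h.1
        · exact hg h.1
    have hcount : ∀ z : ℂ, ∑ g : G, (if g ∈ A then z else 0) = (Nat.card A : ℂ) * z := by
      intro z
      rw [← Finset.sum_filter, Finset.sum_const, nsmul_eq_mul]
      congr 2
      rw [Nat.card_eq_fintype_card, Fintype.card_subtype]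
    show (Nat.card A : ℂ)⁻¹ * ∑ g : G, Cfsg.extendByZero A β (g⁻¹ * c * g) = _
    rw [Finset.sum_congr rfl fun g _ => hterm g, Finset.sum_add_distrib, hcount,
      Fintype.sum_equiv (Equiv.mulRight s) (fun g => if g * s ∈ A then 1 - ((ν c : ℂ))⁻¹ else 0)
        (fun b => if b ∈ A then 1 - ((ν c : ℂ))⁻¹ else 0) (fun g => rfl), hcount, ← mul_add,
      inv_mul_cancel_left₀ (Nat.cast_ne_zero.2 Nat.card_pos.ne')]
    simp only [one, νf, νb, Pi.sub_apply, Pi.smul_apply, smul_eq_mul, MonoidHom.inv_apply,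
      Units.val_inv_eq_inv_val]
    ring
  have i1 : Cfsg.IsIrrCharacter A one := isIrrCharacter_one
  have iν : Cfsg.IsIrrCharacter A νf := isIrrCharacter_linear ν
  have iνb : Cfsg.IsIrrCharacter A νb := isIrrCharacter_linear ν⁻¹
  have hx0 : ∀ {f g : A → ℂ}, f ⟨a, Subgroup.mem_zpowers a⟩ ≠ g ⟨a, Subgroup.mem_zpowers a⟩ → f ≠ g :=
    fun hne he => hne (congrFun he _)
  have e2 : νf ⟨a, Subgroup.mem_zpowers a⟩ = Complex.I := hνa
  have e3 : νb ⟨a, Subgroup.mem_zpowers a⟩ = -Complex.I := by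
    show ((ν⁻¹ : A →* ℂˣ) ⟨a, Subgroup.mem_zpowers a⟩ : ℂ) = _
    rw [MonoidHom.inv_apply, Units.val_inv_eq_inv_val, hνa, Complex.inv_I]
  have n12 : one ≠ νf := hx0 (by rw [e2]; intro he; simpa [one] using congrArg Complex.im he)
  have n13 : one ≠ νb := hx0 (by rw [e3]; intro he; simpa [one] using congrArg Complex.im he)
  have n23 : νf ≠ νb := hx0 (by
    rw [e2, e3]
    intro he
    have := congrArg Complex.im he
    norm_num at this)
  have h3 : Cfsg.classInner Φ Φ = 3 := by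
    rw [frobenius_reciprocity _ _ (isGen_isClassFunction hgen), hres]
    simp only [β, classInner_sub_left, classInner_sub_right, classInner_smul_right,
      classInner_isIrr_self i1, classInner_isIrr_self iν, classInner_isIrr_ne i1 iν n12,
      classInner_isIrr_ne i1 iνb n13, classInner_isIrr_ne iν i1 n12.symm,
      classInner_isIrr_ne iν iνb n23, map_ofNat]
    norm_num
  have h1 : Cfsg.classInner Φ (fun _ => 1) = 1 := by
    rw [frobenius_reciprocity _ _ (char_isClassFunction isCharacter_one)]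
    show Cfsg.classInner β one = 1
    simp only [β, classInner_sub_left, classInner_isIrr_self i1,
      classInner_isIrr_ne iν i1 n12.symm, sub_zero]
  have hΦ1 : Φ 1 = 0 := by
    show Cfsg.indFun A β 1 = 0
    rw [indFun_one]
    simp [β, one, νf]
  have hΦt : Φ t = 4 := by
    have h2 := congrFun hres ((⟨a, Subgroup.mem_zpowers a⟩ : A) ^ 2)
    have he : (((⟨a, Subgroup.mem_zpowers a⟩ : A) ^ 2 : A) : G) = t := by
      show f (.r 1) ^ 2 = t
      rw [← map_pow, DihedralGroup.r_one_pow]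
      exact hft
    simp only [Pi.sub_apply, Pi.smul_apply, smul_eq_mul, one, νf, νb, map_pow,
      MonoidHom.inv_apply, Units.val_inv_eq_inv_val, Units.val_pow_eq_pow_val, hνa,
      Complex.I_sq] at h2
    rw [he] at h2
    rw [h2]
    norm_num
  -- counting
  let I : Finset G := Finset.univ.filter fun v => orderOf v = 2
  have hI : ∀ {v}, v ∈ I ↔ orderOf v = 2 := fun {v} => by simp [I]
  have hIc : ∀ v ∈ I, ∀ g : G, g * v * g⁻¹ ∈ I := fun v hv g =>
    hI.2 ((orderOf_injective (MulAut.conj g).toMonoidHom (MulAut.conj g).injective v).trans (hI.1 hv))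
  have hIcard : I.card * 8 = Nat.card G := by
    rw [← card_carrier_mul_card_centralizer t, hcardC, Nat.card_eq_fintype_card]
    congr 1
    rw [Fintype.card_subtype]
    congr 1
    ext v
    simp only [Finset.mem_filter, Finset.mem_univ, true_and, ConjClasses.mem_carrier_iff_mk_eq,
      ConjClasses.mk_eq_mk_iff_isConj, hI]
    constructor
    · intro hv
      obtain ⟨g, hg⟩ := hinv v hv
      exact isConj_iff.2 ⟨g, hg⟩
    · intro hv
      obtain ⟨g, hg⟩ := isConj_iff.1 hv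
      rw [← ht, ← hg]
      exact (orderOf_injective (MulAut.conj g).toMonoidHom (MulAut.conj g).injective v).symm
  have hcount : ∀ w : G, Φ w ≠ 0 → (I.filter fun v => v * w ∈ I).card = 4 := by
    intro w hw
    obtain ⟨g, -, hg⟩ := Finset.exists_ne_zero_of_sum_ne_zero (right_ne_zero_of_mul hw)
    obtain ⟨hgA, hg1⟩ := hβ0 _ hg
    obtain ⟨i, hi⟩ := hA.1 hgA
    have hi0 : i ≠ 0 := fun h0 => hg1 (by rw [← hi, h0, DihedralGroup.r_zero, map_one])
    have hinvol : ∀ v : G, orderOf v = 2 ↔ v * v = 1 ∧ v ≠ 1 := fun v => by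
      rw [orderOf_eq_prime_iff, sq]
    let B : Finset (DihedralGroup 4) := Finset.univ.filter fun d =>
      (d * d = 1 ∧ d ≠ 1) ∧ (d * .r i * (d * .r i) = 1 ∧ d * .r i ≠ 1)
    have hB : B.card = 4 := by
      revert hi0
      simp only [B]
      clear hi
      revert i
      decide
    rw [← hB]
    symm
    refine Finset.card_bij (fun d _ => g * f d * g⁻¹) (fun d hd => ?_) (fun d₁ _ d₂ _ hh => ?_)
      (fun v hv => ?_)
    · obtain ⟨-, hd1, hd2⟩ := Finset.mem_filter.1 hd
      have k1 : f d ∈ I := hI.2 ((hinvol _).2 ⟨by rw [← map_mul, hd1.1, map_one],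
        fun h0 => hd1.2 (hfi (h0.trans (map_one f).symm))⟩)
      have k2 : f (d * .r i) ∈ I := hI.2 ((hinvol _).2 ⟨by rw [← map_mul, hd2.1, map_one],
        fun h0 => hd2.2 (hfi (h0.trans (map_one f).symm))⟩)
      refine Finset.mem_filter.2 ⟨hIc _ k1 g, ?_⟩
      have := hIc _ k2 g
      rw [map_mul, hi] at this
      simpa [mul_assoc] using this
    · exact hfi (mul_left_cancel (mul_right_cancel hh))
    · obtain ⟨hv, hvw⟩ := Finset.mem_filter.1 hv
      have k1 : g⁻¹ * v * g ∈ I := by simpa using hIc v hv g⁻¹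
      have k2 : g⁻¹ * v * g * (g⁻¹ * w * g) ∈ I := by
        simpa [mul_assoc] using hIc _ hvw g⁻¹
      obtain ⟨k1a, k1b⟩ := (hinvol _).1 (hI.1 k1)
      obtain ⟨k2a, k2b⟩ := (hinvol _).1 (hI.1 k2)
      generalize hv' : g⁻¹ * v * g = v' at k1 k2 k1a k1b k2a k2b
      have hvC : v' ∈ C := by
        have hflip : v' * (g⁻¹ * w * g) * v'⁻¹ = (g⁻¹ * w * g)⁻¹ := by
          rw [inv_eq_of_mul_eq_one_right k1a]
          rw [eq_inv_iff_mul_eq_one, mul_assoc]
          exact k2a
        exact hfus v' _ hgA hg1 (by rw [hflip]; exact inv_mem hgA)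
      obtain ⟨d, hd⟩ := hfC hvC
      refine ⟨d, Finset.mem_filter.2 ⟨Finset.mem_univ _, ⟨hfi (by rw [map_mul, hd, k1a, map_one]),
        fun h0 => k1b (by rw [← hd, h0, map_one])⟩, hfi (by rw [map_mul, map_mul, hd, hi, k2a, map_one]),
        fun h0 => k2b (by rw [← hd, ← hi, ← map_mul, h0, map_one])⟩, ?_⟩
      rw [hd, ← hv']
      group
  have hfour : ∑ v ∈ I, ∑ v' ∈ I, Φ (v * v') = 4 * (Nat.card G : ℂ) := by
    have hswap : ∀ v ∈ I, ∑ v' ∈ I, Φ (v * v') = ∑ w : G, if v * w ∈ I then Φ w else 0 := by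
      intro v hv
      have hvv : v * v = 1 := by rw [← sq, ← hI.1 hv, pow_orderOf_eq_one]
      rw [show ∑ v' ∈ I, Φ (v * v') = ∑ v' : G, if v' ∈ I then Φ (v * v') else 0 by
        rw [Finset.sum_ite_mem, Finset.univ_inter]]
      refine Fintype.sum_equiv (Equiv.mulLeft v) _ _ fun v' => ?_
      rw [Equiv.coe_mulLeft, ← mul_assoc v v v', hvv, one_mul]
    rw [Finset.sum_congr rfl hswap, Finset.sum_comm]
    have hterm : ∀ w, (∑ v ∈ I, if v * w ∈ I then Φ w else 0) = 4 * Φ w := by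
      intro w
      by_cases hw : Φ w = 0
      · simp [hw]
      · rw [← Finset.sum_filter, Finset.sum_const, hcount w hw, nsmul_eq_mul]
        norm_num
    rw [Finset.sum_congr rfl fun w _ => hterm w, ← Finset.mul_sum]
    congr 1
    rw [classInner_def] at h1
    simp only [map_one, mul_one] at h1
    field_simp at h1
    rw [h1]
  obtain ⟨p, q, za, zb, hpq, hp1, hq1, hza, hzb, hdec⟩ := norm_three hgen h3 h1
  obtain ⟨dp, hdp⟩ := char_one_nat (irr_isCharacter p)
  obtain ⟨dq, hdq⟩ := char_one_nat (irr_isCharacter q)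
  have hdp0 : (dp : ℤ) ≠ 0 := by
    have : dp ≠ 0 := fun h0 => irr_one_ne_zero p.2 (by rw [hdp, h0, Nat.cast_zero])
    exact_mod_cast this
  have hdq0 : (dq : ℤ) ≠ 0 := by
    have : dq ≠ 0 := fun h0 => irr_one_ne_zero q.2 (by rw [hdq, h0, Nat.cast_zero])
    exact_mod_cast this
  obtain ⟨vp, hvp⟩ := exists_int_value (irr_isCharacter p) ht
  obtain ⟨vq, hvq⟩ := exists_int_value (irr_isCharacter q) ht
  have hdeg : 1 + za * (dp : ℤ) + zb * (dq : ℤ) = 0 := by
    have h2 := hdec 1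
    rw [hΦ1, hdp, hdq] at h2
    exact_mod_cast h2.symm
  have hAB : za * vp + zb * vq = 3 := by
    have h2 := hdec t
    rw [hΦt, hvp, hvq] at h2
    have h4 : (1 + za * vp + zb * vq : ℤ) = 4 := by exact_mod_cast h2.symm
    linarith
  have horth : vp * vp + vq * vq ≤ 7 := by
    haveI := Fintype.ofFinite (Cfsg.IrrCharacter G)
    have h2 := second_orthogonality t t
    rw [if_pos (IsConj.refl t), hcardC] at h2
    choose vv hvv using fun χ : Cfsg.IrrCharacter G => exists_int_value (irr_isCharacter χ) ht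
    have h4 : ∑ χ, vv χ * vv χ = 8 := by
      simp only [hvv, map_intCast] at h2
      exact_mod_cast h2
    let pr : Cfsg.IrrCharacter G := ⟨fun _ => 1, isIrrCharacter_one⟩
    have hprv : vv pr = 1 := by
      have h0 : (1 : ℂ) = (vv pr : ℂ) := hvv pr
      exact_mod_cast h0.symm
    have hpp : vv p = vp := by exact_mod_cast (hvv p).symm.trans hvp
    have hqq : vv q = vq := by exact_mod_cast (hvv q).symm.trans hvq
    have hp' : pr ≠ p := fun h0 => hp1 (h0 ▸ rfl)
    have hq' : pr ≠ q := fun h0 => hq1 (h0 ▸ rfl)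
    have h5 := Finset.sum_le_sum_of_subset_of_nonneg (Finset.subset_univ ({pr, p, q} : Finset _))
      (fun χ _ _ => mul_self_nonneg (vv χ))
    rw [h4, Finset.sum_insert (by simp [hp', hq']), Finset.sum_pair hpq, hprv, hpp, hqq] at h5
    linarith
  have hsplit2 : (za * vp = 1 ∧ zb * vq = 2) ∨ (za * vp = 2 ∧ zb * vq = 1) := by
    have hsq : (za * vp) * (za * vp) + (zb * vq) * (zb * vq) ≤ 7 := by
      calc (za * vp) * (za * vp) + (zb * vq) * (zb * vq)
          = (za * za) * (vp * vp) + (zb * zb) * (vq * vq) := by ring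
        _ ≤ 7 := by rw [hza, hzb]; linarith
    generalize za * vp = X at hAB hsq ⊢
    generalize zb * vq = Y at hAB hsq ⊢
    obtain rfl : Y = 3 - X := by linarith
    have hb : 0 ≤ X ∧ X ≤ 3 := by constructor <;> nlinarith
    obtain ⟨hb0, hb3⟩ := hb
    interval_cases X <;> omega
  -- the equation
  have hval : ∀ (χ : G → ℂ), Cfsg.IsCharacter G χ → ∀ v ∈ I, χ v = χ t := by
    intro χ hχ v hv
    obtain ⟨g, hg⟩ := hinv v (hI.1 hv)
    rw [← hg, char_isClassFunction hχ v g]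
  have k1 := sum_mul_involutions p.2 I t hIc (hval _ (irr_isCharacter p))
  have k2 := sum_mul_involutions q.2 I t hIc (hval _ (irr_isCharacter q))
  have hIm : I.card = m := by omega
  rw [hdp, hvp] at k1
  rw [hdq, hvq] at k2
  have htot : (I.card : ℂ) * I.card + (za : ℂ) * ∑ v ∈ I, ∑ v' ∈ I, (p : G → ℂ) (v * v') +
      (zb : ℂ) * ∑ v ∈ I, ∑ v' ∈ I, (q : G → ℂ) (v * v') = 32 * (m : ℂ) := by
    rw [hm] at hfour
    simp only [hdec, Finset.sum_add_distrib, Finset.sum_const, nsmul_eq_mul, mul_one,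
      ← Finset.mul_sum] at hfour
    rw [hfour]
    push_cast
    ring
  rw [hIm] at k1 k2 htot
  generalize ∑ v ∈ I, ∑ v' ∈ I, (p : G → ℂ) (v * v') = Sp at k1 htot
  generalize ∑ v ∈ I, ∑ v' ∈ I, (q : G → ℂ) (v * v') = Sq at k2 htot
  let D : ℤ := za * dp
  let E : ℤ := zb * dq
  have hm0 : (m : ℂ) ≠ 0 := by
    have : m ≠ 0 := by intro h0; rw [h0, mul_zero] at hm; exact Nat.card_pos.ne' hm
    exact_mod_cast this
  have hza' : (za : ℂ) * za = 1 := by exact_mod_cast hza
  have hzb' : (zb : ℂ) * zb = 1 := by exact_mod_cast hzb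
  have hC : (m : ℂ) * ((D : ℂ) * E + ((za : ℂ) * vp) ^ 2 * E + ((zb : ℂ) * vq) ^ 2 * D) =
      32 * ((D : ℂ) * E) := by
    refine mul_left_cancel₀ hm0 ?_
    simp only [D, E, Int.cast_mul, Int.cast_natCast]
    linear_combination ((za : ℂ) * zb * dp * dq) * htot -
      ((za : ℂ) * za * ((zb : ℂ) * dq)) * k1 - ((zb : ℂ) * zb * ((za : ℂ) * dp)) * k2
  have hZ : (m : ℤ) * (D * E + (za * vp) ^ 2 * E + (zb * vq) ^ 2 * D) = 32 * (D * E) := by
    exact_mod_cast hC
  have hDE : 1 + D + E = 0 := hdeg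
  rcases hsplit2 with ⟨hA1, hB2⟩ | ⟨hA2', hB1⟩
  · rw [hA1, hB2] at hZ
    refine order_of_degrees (D := D) hm hmodd ?_
    rw [hm]
    obtain rfl' : E = -1 - D := by linarith
    rw [rfl'] at hZ
    push_cast
    linear_combination (-8 : ℤ) * hZ
  · rw [hA2', hB1] at hZ
    refine order_of_degrees (D := E) hm hmodd ?_
    rw [hm]
    obtain rfl' : D = -1 - E := by linarith
    rw [rfl'] at hZ
    push_cast
    linear_combination (-8 : ℤ) * hZ

end Cfsg.Agent.CharTheory.DihedralEight
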