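import Mathlib
import Cfsg.Prelude.Def_OddOrderChar
import Cfsg.Agent.Lib.Characters.Counting
import Cfsg.Agent.Lib.Characters.Normal
import Cfsg.Agent.Lib.CharTheory.Clifford
import Cfsg.Agent.Lib.CharTheory.Basics
import Cfsg.Agent.OddChar.Isometry

/-!
Characters of a group with a normal subgroup containing the centralizers of its nontrivial
elements, and the linear algebra of a coherent set of them.
-/

set_option autoImplicit false

namespace Cfsg.Agent.CharTheory.TIFrobenius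

open Cfsg.Agent.Characters
open scoped ComplexConjugate

universe u

variable {L : Type u} [Group L] [Fintype L] (K : Subgroup L) [hKn : K.Normal]

/-- A character is relevant when it is not constant on `K`. -/
def Rel (χ : L → ℂ) : Prop := ∃ k : L, k ∈ K ∧ χ k ≠ χ 1

/-- The hypothesis: centralizers of nontrivial elements of `K` lie in `K`. -/
def CentLe : Prop := ∀ k ∈ K, k ≠ 1 → Subgroup.centralizer ({k} : Set L) ≤ K

variable {K}

/-- A nontrivial character of `K` is moved by everything outside `K`. -/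
theorem conjBy_ne (hC : CentLe K) {θ : K → ℂ} (hθ : Cfsg.IsIrrCharacter K θ)
    (hθ1 : θ ≠ fun _ => 1) {g : L} (hgK : g ∉ K) : Clifford.conjBy K g θ ≠ θ := by
  classical
  haveI := Fintype.ofFinite K
  haveI := Fintype.ofFinite (Cfsg.IrrCharacter K)
  intro hfix
  set α : K ≃* K := MulAut.conjNormal g
  have hone : ∀ k : K, IsConj (α k) k → k = 1 := by
    intro k hk
    obtain ⟨y, hy⟩ := isConj_iff.1 hk
    by_contra hk1
    have hy' : (y : L) * (g * k * g⁻¹) * (y : L)⁻¹ = k := congrArg Subtype.val hy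
    have hmem : (y : L) * g ∈ Subgroup.centralizer ({(k : L)} : Set L) := by
      rw [Subgroup.mem_centralizer_singleton_iff]
      calc (y : L) * g * k = ((y : L) * (g * k * g⁻¹) * (y : L)⁻¹) * ((y : L) * g) := by group
        _ = _ := by rw [hy']
    have h3 := hC k k.2 (fun e => hk1 (Subtype.ext e)) hmem
    exact hgK (by simpa using K.mul_mem (K.inv_mem y.2) h3)
  have hsum : ∑ χ : Cfsg.IrrCharacter K,
      Cfsg.classInner (irrAutEquiv α χ : K → ℂ) (χ : K → ℂ) = 1 := by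
    simp only [classInner_def]
    rw [← Finset.mul_sum, Finset.sum_comm, inv_mul_eq_one₀ natCard_ne_zero,
      Finset.sum_eq_single (1 : K)]
    · rw [show (∑ χ : Cfsg.IrrCharacter K, (irrAutEquiv α χ : K → ℂ) 1 * conj ((χ : K → ℂ) 1)) =
          ∑ χ : Cfsg.IrrCharacter K, (χ : K → ℂ) 1 * conj ((χ : K → ℂ) 1) from
          Finset.sum_congr rfl fun χ _ => by simp [irrAutEquiv],
        second_orthogonality, if_pos (IsConj.refl _),
        show Subgroup.centralizer ({(1 : K)} : Set K) = ⊤ from by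
          ext x; simp [Subgroup.mem_centralizer_singleton_iff], Subgroup.card_top]
    · intro k _ hk
      simp only [irrAutEquiv, Equiv.coe_fn_mk, Function.comp_apply]
      rw [second_orthogonality, if_neg fun h => hk (hone k h)]
    · simp
  simp only [classInner_irr] at hsum
  rw [Finset.sum_boole] at hsum
  have h2 : 2 ≤ (Finset.univ.filter fun χ : Cfsg.IrrCharacter K =>
      irrAutEquiv α χ = χ).card := by
    refine Finset.one_lt_card.2 ⟨⟨θ, hθ⟩, ?_, trivIrr K, ?_, fun e => hθ1 (congrArg Subtype.val e)⟩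
    · refine Finset.mem_filter.2 ⟨Finset.mem_univ _, Subtype.ext ?_⟩
      show θ ∘ α = θ
      conv_rhs => rw [← hfix, Clifford.conjBy_eq_comp]
      rfl
    · exact Finset.mem_filter.2 ⟨Finset.mem_univ _, Subtype.ext rfl⟩
  rw [Nat.cast_eq_one] at hsum
  omega

/-- Inducing a nontrivial irreducible character of `K` gives an irreducible character. -/
theorem isIrr_indFun (hC : CentLe K) {θ : K → ℂ} (hθ : Cfsg.IsIrrCharacter K θ)
    (hθ1 : θ ≠ fun _ => 1) : Cfsg.IsIrrCharacter L (Cfsg.indFun K θ) := by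
  classical
  haveI := Fintype.ofFinite K
  refine isIrr_of_isCharacter_of_norm_one (isCharacter_indFun K (isCharacter_of_isIrr hθ)) ?_
  apply mul_left_cancel₀ (natCard_ne_zero (G := K))
  rw [mul_one, card_mul_classInner_indFun K hθ]
  congr 1
  refine Nat.card_congr (Equiv.subtypeEquivRight fun g => ?_)
  constructor
  · intro h
    by_contra hg
    exact conjBy_ne hC hθ hθ1 hg h
  · intro hg
    funext n
    exact char_isClassFunction (isCharacter_of_isIrr hθ) n ⟨g, hg⟩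

/-- A relevant irreducible character is induced from a nontrivial character of `K`. -/
theorem exists_theta (hC : CentLe K) {χ : L → ℂ} (hχ : Cfsg.IsIrrCharacter L χ) (hrel : Rel K χ) :
    ∃ θ : K → ℂ, Cfsg.IsIrrCharacter K θ ∧ θ ≠ (fun _ => 1) ∧ Cfsg.indFun K θ = χ := by
  classical
  haveI := Fintype.ofFinite K
  haveI := Fintype.ofFinite (Cfsg.IrrCharacter K)
  have hres := isCharacter_restrict K (isCharacter_of_isIrr hχ)
  obtain ⟨θ, hθ, hθ1, hne⟩ : ∃ θ, Cfsg.IsIrrCharacter K θ ∧ θ ≠ (fun _ => 1) ∧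
      Cfsg.classInner (fun k : K => χ k) θ ≠ 0 := by
    by_contra h
    push Not at h
    obtain ⟨k, hk, hne⟩ := hrel
    apply hne
    have hexp := classFun_eq_sum (char_isClassFunction hres)
    rw [Finset.sum_eq_single (trivIrr K)
      (fun ψ _ hψ => by rw [h _ ψ.2 (fun e => hψ (Subtype.ext e)), zero_smul]) (by simp)] at hexp
    have h1 := congrFun hexp ⟨k, hk⟩
    have h2 := congrFun hexp 1
    simp only [Pi.smul_apply, trivIrr_coe] at h1 h2
    simpa using h1.trans h2.symm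
  refine ⟨θ, hθ, hθ1, ?_⟩
  by_contra hne'
  apply hne
  have h := classInner_isIrr_ne (isIrr_indFun hC hθ hθ1) hχ hne'
  rw [frobenius_reciprocity K θ (char_isClassFunction (isCharacter_of_isIrr hχ))] at h
  rw [classInner_conj_symm, h, map_zero]

theorem restrict_indFun_sum_eq_zero [Fintype K] {θ : K → ℂ}
    (hθ : Cfsg.IsIrrCharacter K θ) (hθ1 : θ ≠ fun _ => 1) :
    ∑ k : K, Cfsg.indFun K θ k = 0 := by
  classical
  have key : ∀ x : L, ∑ k : K, Clifford.conjBy K x θ k = 0 := by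
    intro x
    have hne : Clifford.conjBy K x θ ≠ fun _ => 1 := fun h => hθ1 <| by
      apply Clifford.conjBy_injective K x
      rw [h]
      rfl
    have h := classInner_isIrr_ne (Clifford.isIrrCharacter_conjBy K x hθ) isIrrCharacter_one hne
    simp only [classInner_def, map_one, mul_one, mul_eq_zero, inv_eq_zero] at h
    exact h.resolve_left natCard_ne_zero
  apply mul_left_cancel₀ (natCard_ne_zero (G := K))
  rw [mul_zero, Finset.mul_sum]
  simp only [Clifford.card_mul_indFun_coe]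
  rw [Finset.sum_comm]
  exact Finset.sum_eq_zero fun x _ => key x

/-- Induced nontrivial characters are relevant. -/
theorem rel_indFun {θ : K → ℂ} (hθ : Cfsg.IsIrrCharacter K θ)
    (hθ1 : θ ≠ fun _ => 1) : Rel K (Cfsg.indFun K θ) := by
  classical
  haveI := Fintype.ofFinite K
  by_contra h
  simp only [Rel, not_exists, not_and, not_not] at h
  have h0 := restrict_indFun_sum_eq_zero hθ hθ1
  rw [Finset.sum_congr rfl (g := fun _ => Cfsg.indFun K θ 1) fun k _ => h _ k.2, Finset.sum_const,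
    Finset.card_univ, nsmul_eq_mul, ← Nat.card_eq_fintype_card, mul_eq_zero] at h0
  rcases h0 with h0 | h0
  · exact natCard_ne_zero h0
  · rw [indFun_one, mul_eq_zero] at h0
    exact h0.elim (Nat.cast_ne_zero.2 Subgroup.index_ne_zero_of_finite) (irr_one_ne_zero hθ)

/-- A relevant irreducible character vanishes off `K`. -/
theorem vanish_off (hC : CentLe K) {χ : L → ℂ} (hχ : Cfsg.IsIrrCharacter L χ) (hrel : Rel K χ)
    {x : L} (hx : x ∉ K) : χ x = 0 := by
  obtain ⟨θ, -, -, rfl⟩ := exists_theta hC hχ hrel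
  exact Clifford.indFun_of_notMem K θ hx

theorem sum_rel_eq_zero [Fintype K] (hC : CentLe K) {χ : L → ℂ} (hχ : Cfsg.IsIrrCharacter L χ)
    (hrel : Rel K χ) : ∑ k : K, χ k = 0 := by
  obtain ⟨θ, hθ, hθ1, rfl⟩ := exists_theta hC hχ hrel
  exact restrict_indFun_sum_eq_zero hθ hθ1

omit hKn in
/-- A class function whose relevant coefficients are proportional to the degrees is constant on
the nontrivial elements of `K`. -/
theorem const_of_proportional {f : L → ℂ} (hf : Cfsg.IsClassFunction L f)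
    (h : ∀ ξ ξ' : L → ℂ, Cfsg.IsIrrCharacter L ξ → Rel K ξ → Cfsg.IsIrrCharacter L ξ' →
      Rel K ξ' → Cfsg.classInner f ξ * ξ' 1 = Cfsg.classInner f ξ' * ξ 1) :
    ∃ c : ℂ, ∀ k ∈ K, k ≠ 1 → f k = c := by
  classical
  haveI := Fintype.ofFinite (Cfsg.IrrCharacter L)
  obtain ⟨t, ht⟩ : ∃ t : ℂ, ∀ ξ : Cfsg.IrrCharacter L, Rel K (ξ : L → ℂ) →
      Cfsg.classInner f (ξ : L → ℂ) = t * (ξ : L → ℂ) 1 := by
    by_cases hex : ∃ ξ₀ : Cfsg.IrrCharacter L, Rel K (ξ₀ : L → ℂ)
    · obtain ⟨ξ₀, h₀⟩ := hex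
      refine ⟨Cfsg.classInner f (ξ₀ : L → ℂ) / (ξ₀ : L → ℂ) 1, fun ξ hξ => ?_⟩
      rw [div_mul_eq_mul_div, eq_div_iff (irr_one_ne_zero ξ₀.2)]
      exact h _ _ ξ.2 hξ ξ₀.2 h₀
    · exact ⟨0, fun ξ hξ => absurd ⟨ξ, hξ⟩ hex⟩
  refine ⟨∑ ξ ∈ Finset.univ.filter (fun ξ : Cfsg.IrrCharacter L => ¬ Rel K (ξ : L → ℂ)),
    (Cfsg.classInner f (ξ : L → ℂ) * (ξ : L → ℂ) 1 - t * ((ξ : L → ℂ) 1) ^ 2),
    fun k hk hk1 => ?_⟩
  have horth : ∑ ξ : Cfsg.IrrCharacter L, (ξ : L → ℂ) 1 * (ξ : L → ℂ) k = 0 := by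
    have h2 := second_orthogonality k (1 : L)
    rw [if_neg (fun hc => hk1 (isConj_one_left.1 hc))] at h2
    rw [← h2]
    refine Finset.sum_congr rfl fun ξ _ => ?_
    obtain ⟨n, hn⟩ := char_one_nat (irr_isCharacter ξ)
    rw [hn, Complex.conj_natCast, mul_comm]
  have hexp := congrFun (classFun_eq_sum hf) k
  simp only [Finset.sum_apply, Pi.smul_apply, smul_eq_mul] at hexp
  have hnr : ∀ ξ ∈ Finset.univ.filter (fun ξ : Cfsg.IrrCharacter L => ¬ Rel K (ξ : L → ℂ)),
      (ξ : L → ℂ) k = (ξ : L → ℂ) 1 := fun ξ hξ => by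
    by_contra hne
    exact (Finset.mem_filter.1 hξ).2 ⟨k, hk, hne⟩
  rw [← Finset.sum_filter_add_sum_filter_not Finset.univ
    (fun ξ : Cfsg.IrrCharacter L => Rel K (ξ : L → ℂ))] at hexp horth
  have e1 : ∑ ξ ∈ Finset.univ.filter (fun ξ : Cfsg.IrrCharacter L => ¬ Rel K (ξ : L → ℂ)),
      (ξ : L → ℂ) 1 * (ξ : L → ℂ) k =
      ∑ ξ ∈ Finset.univ.filter (fun ξ : Cfsg.IrrCharacter L => ¬ Rel K (ξ : L → ℂ)),
        ((ξ : L → ℂ) 1) ^ 2 := Finset.sum_congr rfl fun ξ hξ => by rw [hnr ξ hξ, sq]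
  have e2 : ∑ ξ ∈ Finset.univ.filter (fun ξ : Cfsg.IrrCharacter L => ¬ Rel K (ξ : L → ℂ)),
      Cfsg.classInner f (ξ : L → ℂ) * (ξ : L → ℂ) k =
      ∑ ξ ∈ Finset.univ.filter (fun ξ : Cfsg.IrrCharacter L => ¬ Rel K (ξ : L → ℂ)),
        Cfsg.classInner f (ξ : L → ℂ) * (ξ : L → ℂ) 1 :=
    Finset.sum_congr rfl fun ξ hξ => by rw [hnr ξ hξ]
  rw [hexp, Finset.sum_congr rfl (g := fun ξ : Cfsg.IrrCharacter L =>
      t * ((ξ : L → ℂ) 1 * (ξ : L → ℂ) k))
      (fun ξ hξ => by rw [ht ξ (Finset.mem_filter.1 hξ).2]; ring), ← Finset.mul_sum,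
    eq_neg_of_add_eq_zero_left horth, Finset.sum_sub_distrib, e1, e2, ← Finset.mul_sum]
  ring

/-- A function constant on the nontrivial elements of `K` pairs with relevant characters
proportionally to their degrees. -/
theorem card_mul_inner_of_const (hC : CentLe K) {f : L → ℂ} {c : ℂ}
    (hc : ∀ k ∈ K, k ≠ 1 → f k = c) {ξ : L → ℂ} (hξ : Cfsg.IsIrrCharacter L ξ) (hrel : Rel K ξ) :
    (Nat.card L : ℂ) * Cfsg.classInner f ξ = (f 1 - c) * ξ 1 := by
  classical
  haveI := Fintype.ofFinite K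
  rw [classInner_def, mul_inv_cancel_left₀ natCard_ne_zero]
  have hsupp : ∑ x : L, f x * conj (ξ x) = ∑ k : K, f k * conj (ξ k) := by
    symm
    refine Fintype.sum_of_injective (Subtype.val : K → L) Subtype.val_injective _ _
      (fun x hx => ?_) fun k => rfl
    rw [vanish_off hC hξ hrel fun h => hx ⟨⟨x, h⟩, rfl⟩, map_zero, mul_zero]
  rw [hsupp, ← sub_add_cancel (∑ k : K, f k * conj (ξ k)) (∑ k : K, c * conj (ξ k)),
    ← Finset.sum_sub_distrib, Finset.sum_eq_single (1 : K)]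
  · rw [← Finset.mul_sum, ← map_sum, sum_rel_eq_zero hC hξ hrel]
    obtain ⟨n, hn⟩ := char_one_nat (isCharacter_of_isIrr hξ)
    simp only [OneMemClass.coe_one, hn, Complex.conj_natCast, map_zero]
    ring
  · intro k _ hk
    rw [hc k k.2 fun h => hk (Subtype.ext h), sub_self]
  · simp

section Star

variable {G : Type u} [Group G] [Fintype G] {H : Subgroup G} [Fintype H] {S : Set (H → ℂ)}
  {star : (H → ℂ) → (G → ℂ)}

/-- Degree zero combinations of two members are mapped by induction. -/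
theorem star_comb (hstar : Cfsg.IsLinearIsometryOn (Cfsg.zspan S) star)
    (hext : ∀ α ∈ Cfsg.zspanOn S ({1}ᶜ : Set H), star α = Cfsg.indFun H α) {ξ ξ' : H → ℂ}
    (hξ : ξ ∈ S) (hξ' : ξ' ∈ S) {n n' : ℕ} (hn : ξ 1 = n) (hn' : ξ' 1 = n') :
    Cfsg.indFun H ((n' : ℂ) • ξ - (n : ℂ) • ξ') =
      (n' : ℂ) • star ξ - (n : ℂ) • star ξ' := by
  have hs : Cfsg.IsLinearIsometryOn
      ((OddChar.Isometry.zS S : Submodule ℤ (H → ℂ)) : Set (H → ℂ)) star := hstar
  have h1 := (OddChar.Isometry.zS S).smul_mem (n' : ℤ) (OddChar.Isometry.mem_zS hξ)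
  have h2 := (OddChar.Isometry.zS S).smul_mem (n : ℤ) (OddChar.Isometry.mem_zS hξ')
  have hc : (n' : ℂ) • ξ - (n : ℂ) • ξ' = (n' : ℤ) • ξ - (n : ℤ) • ξ' := by
    simp [Nat.cast_smul_eq_nsmul]
  rw [hc, ← hext _ (OddChar.Isometry.mem_zspanOn_compl_one
      ((OddChar.Isometry.zS S).sub_mem h1 h2) (by simp [hn, hn', mul_comm])),
    OddChar.Isometry.map_sub' hs h1 h2, hs.2.1 ξ (OddChar.Isometry.mem_zS hξ),
    hs.2.1 ξ' (OddChar.Isometry.mem_zS hξ')]
  simp [Nat.cast_smul_eq_nsmul]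

/-- Reciprocity for degree zero combinations of two members. -/
theorem restrict_inner_comb (hstar : Cfsg.IsLinearIsometryOn (Cfsg.zspan S) star)
    (hext : ∀ α ∈ Cfsg.zspanOn S ({1}ᶜ : Set H), star α = Cfsg.indFun H α) {Φ : G → ℂ}
    (hΦ : Cfsg.IsClassFunction G Φ) {ξ ξ' : H → ℂ} (hξ : ξ ∈ S) (hξ' : ξ' ∈ S)
    {n n' : ℕ} (hn : ξ 1 = n) (hn' : ξ' 1 = n') :
    (n' : ℂ) * Cfsg.classInner (fun h : H => Φ h) ξ -
        (n : ℂ) * Cfsg.classInner (fun h : H => Φ h) ξ' =
      (n' : ℂ) * Cfsg.classInner Φ (star ξ) - (n : ℂ) * Cfsg.classInner Φ (star ξ') := by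
  have h := frobenius_reciprocity' H ((n' : ℂ) • ξ - (n : ℂ) • ξ') hΦ
  rw [star_comb hstar hext hξ hξ' hn hn', classInner_sub_right, classInner_sub_right,
    classInner_smul_right, classInner_smul_right, classInner_smul_right, classInner_smul_right,
    Complex.conj_natCast, Complex.conj_natCast] at h
  exact h.symm

end Star

end Cfsg.Agent.CharTheory.TIFrobenius
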