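import Mathlib
import Cfsg.Agent.Lib.Characters.Schur
import Cfsg.Agent.Lib.Characters.Kernel

/-!
The centralizer algebra of a homogeneous representation is a full matrix algebra, so its
automorphisms are inner.
-/

set_option autoImplicit false

namespace Cfsg.Agent.CharTheory.HomCentralizer

open Cfsg.Agent.Characters Module

universe u v

variable {G : Type u} [Group G] {V : Type v} [AddCommGroup V] [Module ℂ V]

/-- The endomorphisms commuting with a representation. -/
def cent (σ : Representation ℂ G V) : Subalgebra ℂ (Module.End ℂ V) :=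
  Subalgebra.centralizer ℂ (Set.range fun g : G => σ g)

theorem mem_cent {σ : Representation ℂ G V} {T : Module.End ℂ V} :
    T ∈ cent σ ↔ ∀ g, σ g * T = T * σ g := by
  rw [cent, Subalgebra.mem_centralizer_iff]
  exact ⟨fun h g => h _ ⟨g, rfl⟩, by rintro h _ ⟨g, rfl⟩; exact h g⟩

theorem mem_cent_apply {σ : Representation ℂ G V} {T : Module.End ℂ V} :
    T ∈ cent σ ↔ ∀ g v, T (σ g v) = σ g (T v) := by
  rw [mem_cent]
  refine ⟨fun h g v => (DFunLike.congr_fun (h g) v).symm, fun h g => LinearMap.ext fun v => ?_⟩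
  exact (h g v).symm

variable {n b : ℕ}

/-- `b` copies of a representation. -/
def copies (σ : Representation ℂ G (Fin n → ℂ)) (b : ℕ) :
    Representation ℂ G (Fin b → Fin n → ℂ) where
  toFun g := LinearMap.pi fun i => σ g ∘ₗ LinearMap.proj i
  map_one' := LinearMap.ext fun f => funext fun i => by simp
  map_mul' g h := LinearMap.ext fun f => funext fun i => by simp

theorem copies_apply (σ : Representation ℂ G (Fin n → ℂ)) (g : G) (f : Fin b → Fin n → ℂ)
    (i : Fin b) : copies σ b g f i = σ g (f i) := rfl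

theorem copies_character (σ : Representation ℂ G (Fin n → ℂ)) (g : G) :
    (copies σ b).character g = (b : ℂ) * σ.character g := by
  classical
  rw [Representation.character, Representation.character,
    LinearMap.trace_eq_matrix_trace ℂ (Pi.basis fun _ : Fin b => Pi.basisFun ℂ (Fin n)),
    LinearMap.trace_eq_matrix_trace ℂ (Pi.basisFun ℂ (Fin n)), Matrix.trace, Matrix.trace,
    Fintype.sum_sigma]
  rw [Finset.sum_congr rfl (g := fun _ : Fin b => ∑ k : Fin n,
      (LinearMap.toMatrix (Pi.basisFun ℂ (Fin n)) (Pi.basisFun ℂ (Fin n)) (σ g)).diag k)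
    fun i _ => ?_]
  · simp
  refine Finset.sum_congr rfl fun k _ => ?_
  rw [Matrix.diag_apply, Matrix.diag_apply, LinearMap.toMatrix_apply, LinearMap.toMatrix_apply]
  simp [Pi.basis_repr, copies_apply, Pi.basis_apply]

/-- The action of a matrix on `b` copies. -/
def matAct (n b : ℕ) : Matrix (Fin b) (Fin b) ℂ →ₐ[ℂ] Module.End ℂ (Fin b → Fin n → ℂ) :=
  AlgHom.ofLinearMap
    { toFun := fun A => LinearMap.pi fun i => ∑ j, A i j • LinearMap.proj j
      map_add' := fun A B => LinearMap.ext fun f => funext fun i => by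
        simp [add_smul, Finset.sum_add_distrib]
      map_smul' := fun c A => LinearMap.ext fun f => funext fun i => by
        simp [smul_smul, Finset.smul_sum] }
    (LinearMap.ext fun f => funext fun i => by simp [Matrix.one_apply, ite_smul])
    (fun A B => LinearMap.ext fun f => funext fun i => by
      simp [Matrix.mul_apply, Finset.sum_smul, Finset.smul_sum, smul_smul]
      rw [Finset.sum_comm])

theorem matAct_apply (A : Matrix (Fin b) (Fin b) ℂ) (f : Fin b → Fin n → ℂ) (i : Fin b) :
    matAct n b A f i = ∑ j, A i j • f j := by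
  simp [matAct]

theorem matAct_injective (hn : n ≠ 0) : Function.Injective (matAct n b) := by
  intro A B h
  ext i j
  have h1 := congrFun (congrFun (DFunLike.congr_fun h
    (Pi.single j (Pi.single ⟨0, Nat.pos_of_ne_zero hn⟩ 1))) i) ⟨0, Nat.pos_of_ne_zero hn⟩
  simpa [matAct_apply, Finset.sum_apply, Pi.single_apply, apply_ite, ite_apply] using h1

theorem cent_copies (σ : Representation ℂ G (Fin n → ℂ)) [σ.IsIrreducible] :
    cent (copies σ b) = (matAct n b).range := by
  ext T
  rw [mem_cent_apply, AlgHom.mem_range]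
  constructor
  · intro hT
    have hs : ∀ i j : Fin b, ∃ c : ℂ, (LinearMap.proj i ∘ₗ T ∘ₗ LinearMap.single ℂ (fun _ : Fin b => Fin n → ℂ) j :
        (Fin n → ℂ) →ₗ[ℂ] (Fin n → ℂ)) = c • LinearMap.id := fun i j => by
      refine schur_scalar σ _ fun g v => ?_
      have h1 : copies σ b g (Pi.single j v) = Pi.single j (σ g v) := by
        funext k
        rw [copies_apply]
        by_cases hk : k = j
        · subst hk; simp
        · simp [hk]
      simp [← h1, hT, copies_apply]
    choose A hA using hs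
    refine ⟨Matrix.of A, LinearMap.ext fun f => funext fun i => ?_⟩
    rw [matAct_apply]
    conv_rhs => rw [← Finset.univ_sum_single f, map_sum, Finset.sum_apply]
    refine Finset.sum_congr rfl fun j _ => ?_
    have := DFunLike.congr_fun (hA i j) (f j)
    simpa using this.symm
  · rintro ⟨A, rfl⟩ g f
    funext i
    simp [matAct_apply, copies_apply, map_sum]

variable [Finite G] [FiniteDimensional ℂ V]

/-- The centralizer of a homogeneous representation is a matrix algebra. -/
theorem exists_equiv_end (σ : Representation ℂ G V) {θ : G → ℂ} (hθ : Cfsg.IsIrrCharacter G θ)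
    {b : ℕ} (hσ : σ.character = (b : ℂ) • θ) :
    Nonempty (cent σ ≃ₐ[ℂ] Module.End ℂ (Fin b → ℂ)) := by
  obtain ⟨n, τ, hτ, rfl⟩ := hθ
  haveI := hτ
  have hn : n ≠ 0 := by
    have := finrank_pos_of_isIrreducible τ
    simp at this
    omega
  obtain ⟨e⟩ := nonempty_equiv_of_character_eq (copies τ b) σ (by
    funext g
    rw [copies_character, hσ]
    rfl)
  let E : Module.End ℂ (Fin b → Fin n → ℂ) ≃ₐ[ℂ] Module.End ℂ V :=
    (e.toLinearEquiv).conjAlgEquiv ℂ
  have hrange : (cent (copies τ b)).map E.toAlgHom = cent σ := by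
    have he : ∀ g f, e.toLinearEquiv (copies τ b g f) = σ g (e.toLinearEquiv f) := fun g f =>
      DFunLike.congr_fun (e.toIntertwiningMap.isIntertwining' g) f
    have hE : ∀ (S : Module.End ℂ (Fin b → Fin n → ℂ)) (x : Fin b → Fin n → ℂ),
        E S (e.toLinearEquiv x) = e.toLinearEquiv (S x) := fun S x => by
      show e.toLinearEquiv (S (e.toLinearEquiv.symm (e.toLinearEquiv x))) = _
      rw [LinearEquiv.symm_apply_apply]
    ext T
    rw [Subalgebra.mem_map]
    constructor
    · rintro ⟨S, hS, rfl⟩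
      rw [mem_cent_apply] at hS ⊢
      intro g v
      obtain ⟨f, rfl⟩ := e.toLinearEquiv.surjective v
      show E S (σ g (e.toLinearEquiv f)) = σ g (E S (e.toLinearEquiv f))
      rw [← he, hE, hE, hS, he]
    · intro hT
      refine ⟨E.symm T, ?_, E.apply_symm_apply T⟩
      rw [mem_cent_apply] at hT ⊢
      intro g f
      apply e.toLinearEquiv.injective
      rw [← hE, E.apply_symm_apply, he, he, hT, ← hE (E.symm T) f, E.apply_symm_apply]
  refine ⟨(Subalgebra.equivOfEq _ _ hrange).symm.trans
    (((cent (copies τ b)).equivMapOfInjective E.toAlgHom E.injective).symm.trans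
      ((Subalgebra.equivOfEq _ _ (cent_copies τ)).trans
        ((AlgEquiv.ofInjective (matAct n b) (matAct_injective hn)).symm.trans
          Matrix.toLinAlgEquiv')))⟩

/-- An automorphism preserving the centralizer of a homogeneous representation acts on it by
conjugation with an element of it. -/
theorem exists_inner (σ : Representation ℂ G V) {θ : G → ℂ} (hθ : Cfsg.IsIrrCharacter G θ)
    {b : ℕ} (hσ : σ.character = (b : ℂ) • θ) (φ : Module.End ℂ V ≃ₐ[ℂ] Module.End ℂ V)
    (hφ : ∀ T ∈ cent σ, φ T ∈ cent σ) :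
    ∃ t t' : Module.End ℂ V, t ∈ cent σ ∧ t' ∈ cent σ ∧ t * t' = 1 ∧ t' * t = 1 ∧
      ∀ T ∈ cent σ, φ T = t * T * t' := by
  obtain ⟨e⟩ := exists_equiv_end σ hθ hσ
  let f : cent σ →ₐ[ℂ] cent σ :=
    (φ.toAlgHom.comp (cent σ).val).codRestrict (cent σ) fun T => hφ T T.2
  have hf : Function.Injective f := fun a b h => by
    have h1 : φ (a : Module.End ℂ V) = φ (b : Module.End ℂ V) := congrArg Subtype.val h
    exact Subtype.ext (φ.injective h1)
  have hfs : Function.Surjective f :=
    (LinearMap.injective_iff_surjective (f := f.toLinearMap)).1 hf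
  obtain ⟨T, hT⟩ := AlgEquiv.eq_linearEquivConjAlgEquiv
    (e.symm.trans ((AlgEquiv.ofBijective f ⟨hf, hfs⟩).trans e))
  refine ⟨e.symm T.toLinearMap, e.symm T.symm.toLinearMap, (e.symm _).2, (e.symm _).2, ?_, ?_,
    fun S hS => ?_⟩
  · rw [← Subalgebra.coe_mul, ← map_mul,
      show (T.toLinearMap * T.symm.toLinearMap : Module.End ℂ (Fin b → ℂ)) = 1 from
        LinearMap.ext fun x => T.apply_symm_apply x, map_one, Subalgebra.coe_one]
  · rw [← Subalgebra.coe_mul, ← map_mul,
      show (T.symm.toLinearMap * T.toLinearMap : Module.End ℂ (Fin b → ℂ)) = 1 from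
        LinearMap.ext fun x => T.symm_apply_apply x, map_one, Subalgebra.coe_one]
  · have h1 := DFunLike.congr_fun hT (e ⟨S, hS⟩)
    simp only [AlgEquiv.trans_apply, AlgEquiv.symm_apply_apply, AlgEquiv.coe_ofBijective,
      LinearEquiv.conjAlgEquiv_apply] at h1
    have h2 := congrArg (fun x => ((e.symm x : cent σ) : Module.End ℂ V)) h1
    simp only [AlgEquiv.symm_apply_apply] at h2
    refine h2.trans ?_
    rw [show (T.toLinearMap ∘ₗ e ⟨S, hS⟩ ∘ₗ T.symm.toLinearMap : Module.End ℂ (Fin b → ℂ)) =
      T.toLinearMap * e ⟨S, hS⟩ * T.symm.toLinearMap from rfl, map_mul, map_mul,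
      AlgEquiv.symm_apply_apply]
    rfl

/-- The centre of the centralizer of a homogeneous representation consists of scalars. -/
theorem center_scalar (σ : Representation ℂ G V) {θ : G → ℂ} (hθ : Cfsg.IsIrrCharacter G θ)
    {b : ℕ} (hσ : σ.character = (b : ℂ) • θ) {T : Module.End ℂ V} (hT : T ∈ cent σ)
    (hc : ∀ S ∈ cent σ, S * T = T * S) : ∃ c : ℂ, T = c • 1 := by
  obtain ⟨e⟩ := exists_equiv_end σ hθ hσ
  have hmem : e ⟨T, hT⟩ ∈ Subalgebra.center ℂ (Module.End ℂ (Fin b → ℂ)) := by
    rw [Subalgebra.mem_center_iff]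
    intro B
    have h1 : e.symm B * ⟨T, hT⟩ = ⟨T, hT⟩ * e.symm B := Subtype.ext (hc _ (e.symm B).2)
    simpa using congrArg e h1
  rw [Algebra.IsCentral.center_eq_bot, Algebra.mem_bot] at hmem
  obtain ⟨c, hc'⟩ := hmem
  refine ⟨c, ?_⟩
  have h2 := congrArg (fun x => ((e.symm x : cent σ) : Module.End ℂ V)) hc'
  simp only [AlgEquiv.symm_apply_apply, AlgEquiv.commutes] at h2
  rw [← h2]
  simp [Algebra.algebraMap_eq_smul_one]

end Cfsg.Agent.CharTheory.HomCentralizer
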