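import Mathlib

/-!
The presentation of the alternating group by `s` of order three and involutions `t i`.
-/

set_option autoImplicit false

namespace Cfsg.Agent.CharTheory.AltPresentation

universe u

variable {Q : Type u} [Group Q]

/-- The relations between the generators `x 0, …, x (m - 1)`. -/
structure Rels (x : ℕ → Q) (m : ℕ) : Prop where
  cube : 0 < m → x 0 ^ 3 = 1
  sq : ∀ i, 1 ≤ i → i < m → x i ^ 2 = 1
  adj : ∀ i, i + 1 < m → (x i * x (i + 1)) ^ 3 = 1
  far : ∀ i j, i + 1 < j → j < m → (x i * x j) ^ 2 = 1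

/-- The coset representatives `x k * x (k-1) * ⋯` of length `j`. -/
def P (x : ℕ → Q) (k : ℕ) : ℕ → Q
  | 0 => 1
  | j + 1 => P x k j * x (k - j)

variable {x : ℕ → Q} {m : ℕ} (h : Rels x m)
include h

theorem mul_self' {i : ℕ} (h1 : 1 ≤ i) (hi : i < m) : x i * x i = 1 := by
  rw [← sq]; exact h.sq i h1 hi

theorem inv_eq' {i : ℕ} (h1 : 1 ≤ i) (hi : i < m) : (x i)⁻¹ = x i :=
  inv_eq_of_mul_eq_one_right (mul_self' h h1 hi)

theorem far_rel {i j : ℕ} (hij : i + 1 < j) (hj : j < m) : x i * x j * x i = x j := by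
  have h1 := h.far i j hij hj
  rw [sq] at h1
  calc x i * x j * x i = (x i * x j * (x i * x j)) * (x j)⁻¹ := by group
    _ = x j := by rw [h1, one_mul, inv_eq' h (by omega) hj]

theorem comm_of_far {i j : ℕ} (hi : 1 ≤ i) (hj : 1 ≤ j) (him : i < m) (hjm : j < m)
    (hf : i + 1 < j ∨ j + 1 < i) : x i * x j = x j * x i := by
  have key : ∀ a b : ℕ, 1 ≤ a → a + 1 < b → b < m → x a * x b = x b * x a := fun a b ha hab hb => by
    calc x a * x b = x a * (x a * x b * x a) := by rw [far_rel h hab hb]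
      _ = (x a * x a) * (x b * x a) := by group
      _ = x b * x a := by rw [mul_self' h ha (by omega), one_mul]
  rcases hf with hf | hf
  · exact key i j hi hf hjm
  · exact (key j i hj hf him).symm

theorem s_mul {j : ℕ} (hj : 2 ≤ j) (hjm : j < m) :
    x 0 * x j = x j * (x 0)⁻¹ ∧ (x 0)⁻¹ * x j = x j * x 0 := by
  have h1 := far_rel h (i := 0) (by omega) hjm
  refine ⟨?_, ?_⟩
  · rw [eq_mul_inv_iff_mul_eq, h1]
  · calc (x 0)⁻¹ * x j = (x 0)⁻¹ * (x 0 * x j * x 0) := by rw [h1]
      _ = x j * x 0 := by group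

theorem braid {i : ℕ} (hi : 1 ≤ i) (him : i + 1 < m) :
    x (i + 1) * x i * x (i + 1) = x i * x (i + 1) * x i := by
  have h1 := h.adj i him
  rw [pow_succ, sq] at h1
  calc x (i + 1) * x i * x (i + 1)
      = (x i)⁻¹ * (x (i + 1))⁻¹ * (x i)⁻¹ *
          (x i * x (i + 1) * (x i * x (i + 1)) * (x i * x (i + 1))) := by group
    _ = x i * x (i + 1) * x i := by
        rw [h1, mul_one, inv_eq' h hi (by omega), inv_eq' h (by omega) him]

theorem s_braid (hm : 1 < m) :
    x 1 * x 0 * x 1 = (x 0)⁻¹ * x 1 * (x 0)⁻¹ ∧ x 1 * (x 0)⁻¹ * x 1 = x 0 * x 1 * x 0 := by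
  have h1 := h.adj 0 hm
  simp only [zero_add, pow_succ, pow_zero, one_mul] at h1
  have e1 : x 1 * x 0 * x 1 = (x 0)⁻¹ * x 1 * (x 0)⁻¹ := by
    calc x 1 * x 0 * x 1
        = (x 0)⁻¹ * (x 0 * x 1 * (x 0 * x 1) * (x 0 * x 1)) * (x 1)⁻¹ * (x 0)⁻¹ := by group
      _ = (x 0)⁻¹ * x 1 * (x 0)⁻¹ := by rw [h1, mul_one, inv_eq' h le_rfl hm]
  refine ⟨e1, ?_⟩
  have e2 := congrArg (fun g => g⁻¹) e1
  simp only [mul_inv_rev, inv_inv, inv_eq' h le_rfl hm] at e2
  rw [← mul_assoc, ← mul_assoc] at e2
  exact e2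

theorem P_comm {k : ℕ} (hk : k < m) : ∀ j, j ≤ k → ∀ l, 1 ≤ l → l + j + 1 ≤ k →
    P x k j * x l = x l * P x k j
  | 0, _, l, _, _ => by simp [P]
  | j + 1, hj, l, hl, hlk => by
    show P x k j * x (k - j) * x l = _
    rw [mul_assoc, comm_of_far h (by omega) hl (by omega) (by omega) (Or.inr (by omega)),
      ← mul_assoc, P_comm hk j (by omega) l hl (by omega), mul_assoc]
    rfl

theorem P_s {k : ℕ} (hk : k < m) : ∀ j, j + 1 ≤ k → ∀ g : Q, g = x 0 ∨ g = (x 0)⁻¹ →
    ∃ g' : Q, (g' = x 0 ∨ g' = (x 0)⁻¹) ∧ P x k j * g = g' * P x k j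
  | 0, _, g, hg => ⟨g, hg, by simp [P]⟩
  | j + 1, hj, g, hg => by
    obtain ⟨h1, h2⟩ := s_mul h (show 2 ≤ k - j by omega) (by omega)
    have key : ∃ g₁ : Q, (g₁ = x 0 ∨ g₁ = (x 0)⁻¹) ∧ x (k - j) * g = g₁ * x (k - j) := by
      rcases hg with rfl | rfl
      · exact ⟨_, Or.inr rfl, h2.symm⟩
      · exact ⟨_, Or.inl rfl, h1.symm⟩
    obtain ⟨g₁, hg₁, e₁⟩ := key
    obtain ⟨g', hg', e'⟩ := P_s hk j (by omega) g₁ hg₁
    refine ⟨g', hg', ?_⟩
    show P x k j * x (k - j) * g = g' * (P x k j * x (k - j))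
    rw [mul_assoc, e₁, ← mul_assoc, e', mul_assoc]

theorem P_shift {k : ℕ} (hk : k < m) : ∀ j, j ≤ k → ∀ l, k + 1 < l + j → l ≤ k →
    P x k j * x l = x (l - 1) * P x k j
  | 0, _, l, hl, hlk => by omega
  | j + 1, hj, l, hl, hlk => by
    show P x k j * x (k - j) * x l = x (l - 1) * (P x k j * x (k - j))
    rcases Nat.lt_or_ge (k - j + 1) l with hlt | hge
    · rw [mul_assoc, comm_of_far h (by omega) (by omega) (by omega) (by omega) (Or.inl hlt),
        ← mul_assoc, P_shift hk j (by omega) l (by omega) hlk, mul_assoc]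
    · obtain ⟨j, rfl⟩ : ∃ i, j = i + 1 := ⟨j - 1, by omega⟩
      obtain ⟨i, rfl⟩ : ∃ i, l = i + 1 := ⟨l - 1, by omega⟩
      have hi : k - (j + 1) = i := by omega
      have hi' : k - j = i + 1 := by omega
      show P x k j * x (k - j) * x (k - (j + 1)) * x (i + 1) =
        x i * (P x k j * x (k - j) * x (k - (j + 1)))
      rw [hi, hi', mul_assoc (P x k j), mul_assoc (P x k j),
        braid h (by omega) (by omega), ← mul_assoc, ← mul_assoc,
        P_comm h hk j (by omega) i (by omega) (by omega)]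
      simp only [mul_assoc]

/-- The representatives of the cosets of the previous subgroup. -/
def rep (x : ℕ → Q) (k j : ℕ) : Q :=
  if j ≤ k then P x k j else if j = k + 1 then P x k k * x 0 else P x k k * (x 0)⁻¹

theorem coset_closed {k : ℕ} (hk1 : 1 ≤ k) (hk : k < m) (j : ℕ) (hj : j ≤ k + 2) (i : ℕ)
    (hi : i ≤ k) : ∃ a ∈ Subgroup.closure (x '' Set.Iio k), ∃ j', j' ≤ k + 2 ∧
      rep x k j * x i = a * rep x k j' := by
  have hmem : ∀ l, l < k → x l ∈ Subgroup.closure (x '' Set.Iio k) := fun l hl =>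
    Subgroup.subset_closure ⟨l, hl, rfl⟩
  have hs : ∀ g : Q, g = x 0 ∨ g = (x 0)⁻¹ → g ∈ Subgroup.closure (x '' Set.Iio k) := by
    rintro g (rfl | rfl)
    · exact hmem 0 (by omega)
    · exact Subgroup.inv_mem _ (hmem 0 (by omega))
  have hk' : rep x k (k + 1) = P x k k * x 0 ∧ rep x k (k + 2) = P x k k * (x 0)⁻¹ := by
    simp [rep]
  have hP : ∀ l, l ≤ k → rep x k l = P x k l := fun l hl => by simp [rep, hl]
  have h3 : x 0 * x 0 = (x 0)⁻¹ := by
    have h1 := h.cube (by omega)
    rw [pow_succ, sq] at h1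
    exact eq_inv_of_mul_eq_one_left h1
  rcases Nat.lt_or_ge k j with hjk | hjk
  · obtain ⟨q, hq⟩ : ∃ q, k = q + 1 := ⟨k - 1, by omega⟩
    have hPk : P x k k = P x k q * x 1 := by
      show P x k k = _
      conv_lhs => arg 3; rw [hq]
      show P x k q * x (k - q) = _
      rw [show k - q = 1 by omega]
    obtain ⟨b1, b2⟩ := s_braid h (by omega)
    rcases (show j = k + 1 ∨ j = k + 2 by omega) with rfl | rfl
    · rw [hk'.1]
      rcases Nat.eq_zero_or_pos i with rfl | hi0
      · exact ⟨1, one_mem _, k + 2, le_rfl, by rw [hk'.2, one_mul, mul_assoc, h3]⟩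
      rcases Nat.lt_or_ge i 2 with hi2 | hi2
      · obtain rfl : i = 1 := by omega
        obtain ⟨g', hg', e⟩ := P_s h hk q (by omega) (x 0)⁻¹ (Or.inr rfl)
        refine ⟨g', hs g' hg', k + 2, le_rfl, ?_⟩
        rw [hk'.2, hPk, mul_assoc (P x k q), mul_assoc (P x k q), b1, ← mul_assoc, ← mul_assoc, e]
        simp only [mul_assoc]
      · refine ⟨x (i - 1), hmem _ (by omega), k + 2, le_rfl, ?_⟩
        rw [hk'.2, mul_assoc, (s_mul h hi2 (by omega)).1, ← mul_assoc,
          P_shift h hk k le_rfl i (by omega) hi, mul_assoc]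
    · rw [hk'.2]
      rcases Nat.eq_zero_or_pos i with rfl | hi0
      · exact ⟨1, one_mem _, k, by omega, by rw [hP k le_rfl, one_mul, inv_mul_cancel_right]⟩
      rcases Nat.lt_or_ge i 2 with hi2 | hi2
      · obtain rfl : i = 1 := by omega
        obtain ⟨g', hg', e⟩ := P_s h hk q (by omega) (x 0) (Or.inl rfl)
        refine ⟨g', hs g' hg', k + 1, by omega, ?_⟩
        rw [hk'.1, hPk, mul_assoc (P x k q), mul_assoc (P x k q), b2, ← mul_assoc, ← mul_assoc, e]
        simp only [mul_assoc]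
      · refine ⟨x (i - 1), hmem _ (by omega), k + 1, by omega, ?_⟩
        rw [hk'.1, mul_assoc, (s_mul h hi2 (by omega)).2, ← mul_assoc,
          P_shift h hk k le_rfl i (by omega) hi, mul_assoc]
  · rw [hP j hjk]
    rcases Nat.eq_zero_or_pos i with rfl | hi0
    · rcases Nat.lt_or_ge j k with hjk' | hjk'
      · obtain ⟨g', hg', e⟩ := P_s h hk j hjk' (x 0) (Or.inl rfl)
        exact ⟨g', hs g' hg', j, by omega, by rw [hP j hjk, e]⟩
      · obtain rfl : j = k := by omega
        exact ⟨1, one_mem _, j + 1, by omega, by rw [hk'.1, one_mul]⟩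
    rcases Nat.lt_trichotomy (i + j) k with hc | hc | hc
    · exact ⟨x i, hmem i (by omega), j, by omega, by
        rw [hP j hjk, P_comm h hk j hjk i hi0 (by omega)]⟩
    · refine ⟨1, one_mem _, j + 1, by omega, ?_⟩
      rw [hP (j + 1) (by omega), one_mul]
      show P x k j * x i = P x k j * x (k - j)
      rw [show k - j = i by omega]
    · rcases Nat.lt_or_ge (k + 1) (i + j) with hc' | hc'
      · exact ⟨x (i - 1), hmem _ (by omega), j, by omega, by
          rw [hP j hjk, P_shift h hk j hjk i hc' hi]⟩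
      · obtain ⟨j, rfl⟩ : ∃ q, j = q + 1 := ⟨j - 1, by omega⟩
        refine ⟨1, one_mem _, j, by omega, ?_⟩
        rw [hP j (by omega), one_mul]
        show P x k j * x (k - j) * x i = _
        rw [show k - j = i by omega, mul_assoc, mul_self' h hi0 (by omega), mul_one]

/-- The bound on the order of the subgroup generated by the first `k` generators. -/
theorem card_closure_le : ∀ k, 1 ≤ k → k ≤ m →
    Finite (Subgroup.closure (x '' Set.Iio k)) ∧
      2 * Nat.card (Subgroup.closure (x '' Set.Iio k)) ≤ (k + 2).factorial := by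
  intro k hk1
  induction k, hk1 using Nat.le_induction with
  | base =>
    intro h1m
    have he : Subgroup.closure (x '' Set.Iio 1) = Subgroup.zpowers (x 0) := by
      rw [Subgroup.zpowers_eq_closure]
      congr 1
      ext y
      simp [eq_comm]
    have hfin : IsOfFinOrder (x 0) := isOfFinOrder_iff_pow_eq_one.2 ⟨3, by norm_num, h.cube h1m⟩
    rw [he]
    refine ⟨hfin.finite_zpowers.to_subtype, ?_⟩
    rw [Nat.card_zpowers]
    have := Nat.le_of_dvd (by norm_num) (orderOf_dvd_of_pow_eq_one (h.cube h1m))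
    simp only [Nat.factorial]
    omega
  | succ k hk1 ih =>
    intro hkm
    obtain ⟨hfin, hcard⟩ := ih (by omega)
    set K := Subgroup.closure (x '' Set.Iio k) with hK
    let U : Set Q := {g | ∃ a ∈ K, ∃ j, j ≤ k + 2 ∧ g = a * rep x k j}
    have hstep : ∀ g ∈ U, ∀ i, i ≤ k → g * x i ∈ U := by
      rintro g ⟨a, ha, j, hj, rfl⟩ i hi
      obtain ⟨b, hb, j', hj', e⟩ := coset_closed h hk1 (by omega) j hj i hi
      exact ⟨a * b, mul_mem ha hb, j', hj', by rw [mul_assoc, e, mul_assoc]⟩
    have hU : ∀ g ∈ Subgroup.closure (x '' Set.Iio (k + 1)), g ∈ U := by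
      intro g hg
      induction hg using Subgroup.closure_induction_right with
      | one => exact ⟨1, one_mem _, 0, by omega, by simp [rep, P]⟩
      | mul_right g _ y hy hgU =>
        obtain ⟨i, hi, rfl⟩ := hy
        exact hstep g hgU i (Nat.le_of_lt_succ hi)
      | mul_inv_cancel g _ y hy hgU =>
        obtain ⟨i, hi, rfl⟩ := hy
        have hi' : i ≤ k := Nat.le_of_lt_succ hi
        rcases Nat.eq_zero_or_pos i with rfl | hi0
        · have h1 := h.cube (by omega)
          rw [pow_succ] at h1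
          rw [← eq_inv_of_mul_eq_one_left h1, sq, ← mul_assoc]
          exact hstep _ (hstep g hgU 0 hi') 0 hi'
        · rw [inv_eq' h hi0 (by omega)]
          exact hstep g hgU i hi'
    choose a ha j hj he using fun g : Subgroup.closure (x '' Set.Iio (k + 1)) => hU g g.2
    let F : Subgroup.closure (x '' Set.Iio (k + 1)) → K × Fin (k + 3) :=
      fun g => (⟨a g, ha g⟩, ⟨j g, Nat.lt_succ_of_le (hj g)⟩)
    have hF : Function.Injective F := fun g g' e => Subtype.ext (by
      rw [he g, he g', show a g = a g' from congrArg (fun p => (p.1 : Q)) e,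
        show j g = j g' from congrArg (fun p => (p.2 : ℕ)) e])
    refine ⟨Finite.of_injective F hF, ?_⟩
    have h1 := Nat.card_le_card_of_injective F hF
    rw [Nat.card_prod, Nat.card_eq_fintype_card (α := Fin (k + 3)), Fintype.card_fin] at h1
    rw [show k + 1 + 2 = (k + 2) + 1 from rfl, Nat.factorial_succ]
    calc 2 * Nat.card (Subgroup.closure (x '' Set.Iio (k + 1)))
        ≤ 2 * (Nat.card K * (k + 3)) := Nat.mul_le_mul_left 2 h1
      _ = (k + 3) * (2 * Nat.card K) := by ring
      _ ≤ (k + 2 + 1) * (k + 2).factorial := Nat.mul_le_mul_left _ hcard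

theorem card_le (hm : 1 ≤ m) (hgen : Subgroup.closure (x '' Set.Iio m) = ⊤) :
    Finite Q ∧ 2 * Nat.card Q ≤ (m + 2).factorial := by
  obtain ⟨h1, h2⟩ := card_closure_le h m hm le_rfl
  rw [hgen] at h1 h2
  exact ⟨Finite.of_equiv _ Subgroup.topEquiv.toEquiv, by rwa [Subgroup.card_top] at h2⟩

omit h

/-! ### The generators of the alternating group -/

/-- The points. -/
def pt (m k : ℕ) : Fin (m + 2) := Fin.ofNat (m + 2) k

/-- The adjacent transpositions. -/
def sw (m k : ℕ) : Equiv.Perm (Fin (m + 2)) := Equiv.swap (pt m k) (pt m (k + 1))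

theorem pt_ne {m a b : ℕ} (ha : a < m + 2) (hb : b < m + 2) (hab : a ≠ b) : pt m a ≠ pt m b := by
  intro e
  have := congrArg Fin.val e
  simp only [pt, Fin.val_ofNat, Nat.mod_eq_of_lt ha, Nat.mod_eq_of_lt hb] at this
  exact hab this

theorem sw_far {m a b : ℕ} (hb : b + 1 < m + 2) (hab : a + 1 < b) : sw m a * sw m b = sw m b * sw m a :=
  (Equiv.Perm.disjoint_swap_swap (by
    simp only [List.nodup_cons, List.mem_cons, List.not_mem_nil, or_false, not_or, List.nodup_nil,
      and_true, not_false_eq_true]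
    refine ⟨⟨?_, ?_, ?_⟩, ⟨?_, ?_⟩, ?_⟩ <;> exact pt_ne (by omega) (by omega) (by omega))).commute

theorem three_swap {α : Type*} [DecidableEq α] [Fintype α] {a b c : α} (hab : a ≠ b) (hbc : b ≠ c)
    (hac : a ≠ c) : (Equiv.swap a b * Equiv.swap b c) ^ 3 = 1 := by
  have h1 : (Equiv.swap a b * Equiv.swap b c).IsThreeCycle := by
    rw [Equiv.swap_comm a b]
    exact Equiv.Perm.isThreeCycle_swap_mul_swap_same hab.symm hbc hac
  rw [← h1.orderOf, pow_orderOf_eq_one]

theorem sw_adj {m a : ℕ} (ha : a + 2 < m + 2) : (sw m a * sw m (a + 1)) ^ 3 = 1 :=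
  three_swap (pt_ne (by omega) (by omega) (by omega)) (pt_ne (by omega) (by omega) (by omega))
    (pt_ne (by omega) (by omega) (by omega))

/-- The generators. -/
def gen (m i : ℕ) : Equiv.Perm (Fin (m + 2)) := sw m 0 * sw m (i + 1)

theorem sw_sq (m a : ℕ) : sw m a * sw m a = 1 := Equiv.swap_mul_self _ _

theorem gen_rels (m : ℕ) : Rels (gen m) m := by
  have hcomm : ∀ i, 1 ≤ i → i < m → sw m 0 * sw m (i + 1) = sw m (i + 1) * sw m 0 := fun i h1 hi =>
    sw_far (by omega) (by omega)
  refine ⟨fun hm => sw_adj (by omega), fun i h1 hi => ?_, fun i hi => ?_, fun i j hij hj => ?_⟩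
  · show (sw m 0 * sw m (i + 1)) ^ 2 = 1
    rw [(show Commute (sw m 0) (sw m (i + 1)) from hcomm i h1 hi).mul_pow]
    simp [sq, sw_sq]
  · rcases Nat.eq_zero_or_pos i with rfl | h0
    · have e : gen m 0 * gen m (0 + 1) = Equiv.swap (pt m 0) (pt m 2) * Equiv.swap (pt m 2) (pt m 3) := by
        show sw m 0 * sw m 1 * (sw m 0 * sw m 2) = _
        rw [← mul_assoc]
        congr 1
        show Equiv.swap (pt m 0) (pt m 1) * Equiv.swap (pt m 1) (pt m 2) *
          Equiv.swap (pt m 0) (pt m 1) = _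
        rw [Equiv.swap_comm (pt m 0) (pt m 1), Equiv.swap_comm (pt m 1) (pt m 2),
          Equiv.swap_mul_swap_mul_swap]
        · exact pt_ne (by omega) (by omega) (by omega)
        · exact pt_ne (by omega) (by omega) (by omega)
      rw [e]
      exact three_swap (pt_ne (by omega) (by omega) (by omega))
        (pt_ne (by omega) (by omega) (by omega)) (pt_ne (by omega) (by omega) (by omega))
    · show (sw m 0 * sw m (i + 1) * (sw m 0 * sw m (i + 1 + 1))) ^ 3 = 1
      rw [hcomm i h0 (by omega), mul_assoc, ← mul_assoc (sw m 0) (sw m 0), sw_sq, one_mul]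
      exact sw_adj (by omega)
  · show (sw m 0 * sw m (i + 1) * (sw m 0 * sw m (j + 1))) ^ 2 = 1
    rcases Nat.eq_zero_or_pos i with rfl | h0
    · rw [← mul_assoc]
      have e : sw m 0 * sw m (0 + 1) * sw m 0 = Equiv.swap (pt m 0) (pt m 2) := by
        show Equiv.swap (pt m 0) (pt m 1) * Equiv.swap (pt m 1) (pt m 2) *
          Equiv.swap (pt m 0) (pt m 1) = _
        rw [Equiv.swap_comm (pt m 0) (pt m 1), Equiv.swap_comm (pt m 1) (pt m 2),
          Equiv.swap_mul_swap_mul_swap]
        · exact pt_ne (by omega) (by omega) (by omega)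
        · exact pt_ne (by omega) (by omega) (by omega)
      have hcm : Commute (Equiv.swap (pt m 0) (pt m 2)) (sw m (j + 1)) := by
        rw [← e]
        exact ((show Commute (sw m 0) (sw m (j + 1)) from sw_far (by omega) (by omega)).mul_left
          (show Commute (sw m (0 + 1)) (sw m (j + 1)) from sw_far (by omega) (by omega))).mul_left
          (show Commute (sw m 0) (sw m (j + 1)) from sw_far (by omega) (by omega))
      rw [e, hcm.mul_pow]
      simp [sq, sw_sq]
    · rw [hcomm i h0 (by omega), mul_assoc, ← mul_assoc (sw m 0) (sw m 0), sw_sq, one_mul,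
        (show Commute (sw m (i + 1)) (sw m (j + 1)) from sw_far (by omega) (by omega)).mul_pow]
      simp [sq, sw_sq]

/-- The generators lie in the alternating group and generate it. -/
theorem closure_gen (m : ℕ) :
    Subgroup.closure (gen m '' Set.Iio m) = alternatingGroup (Fin (m + 2)) := by
  set R := Subgroup.closure (gen m '' Set.Iio m) with hR
  have hsign : ∀ a, a < m + 1 → Equiv.Perm.sign (sw m a) = -1 := fun a ha =>
    Equiv.Perm.sign_swap (pt_ne (by omega) (by omega) (by omega))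
  have hle : R ≤ alternatingGroup (Fin (m + 2)) := by
    rw [hR, Subgroup.closure_le]
    rintro _ ⟨i, hi, rfl⟩
    have hi' : i < m := hi
    rw [SetLike.mem_coe, Equiv.Perm.mem_alternatingGroup]
    show Equiv.Perm.sign (sw m 0 * sw m (i + 1)) = 1
    rw [map_mul, hsign 0 (by omega), hsign (i + 1) (by omega)]
    decide
  have hconj : ∀ g ∈ R, sw m 0 * g * sw m 0 ∈ R := by
    intro g hg
    induction hg using Subgroup.closure_induction with
    | mem y hy =>
      obtain ⟨i, hi, rfl⟩ := hy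
      have e : sw m 0 * gen m i * sw m 0 = (gen m i)⁻¹ := by
        refine eq_inv_of_mul_eq_one_left ?_
        show sw m 0 * (sw m 0 * sw m (i + 1)) * sw m 0 * (sw m 0 * sw m (i + 1)) = 1
        rw [← mul_assoc (sw m 0) (sw m 0), sw_sq, one_mul, mul_assoc, ← mul_assoc (sw m 0) (sw m 0),
          sw_sq, one_mul, sw_sq]
      rw [e]
      exact R.inv_mem (Subgroup.subset_closure ⟨i, hi, rfl⟩)
    | one => rw [mul_one, sw_sq]; exact R.one_mem
    | mul y z _ _ hy hz =>
      rw [show sw m 0 * (y * z) * sw m 0 = (sw m 0 * y * sw m 0) * (sw m 0 * z * sw m 0) by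
        rw [show (sw m 0 * y * sw m 0) * (sw m 0 * z * sw m 0) =
          sw m 0 * y * (sw m 0 * sw m 0) * z * sw m 0 by group, sw_sq, mul_one]; group]
      exact R.mul_mem hy hz
    | inv y _ hy =>
      have h0 : (sw m 0)⁻¹ = sw m 0 := Equiv.swap_inv _ _
      rw [show sw m 0 * y⁻¹ * sw m 0 = (sw m 0 * y * sw m 0)⁻¹ by
        rw [mul_inv_rev, mul_inv_rev, h0, mul_assoc]]
      exact R.inv_mem hy
  have hall : ∀ g : Equiv.Perm (Fin (m + 2)), g ∈ R ∨ g * sw m 0 ∈ R := by
    intro g
    have hg : g ∈ Submonoid.closure (Set.range fun i : Fin (m + 1) =>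
        Equiv.swap i.castSucc i.succ) := by
      rw [Equiv.Perm.mclosure_swap_castSucc_succ (m + 1)]; exact Submonoid.mem_top g
    induction hg using Submonoid.closure_induction_left with
    | one => exact Or.inl R.one_mem
    | mul_left y hy z _ hz =>
      obtain ⟨i, rfl⟩ := hy
      have hi : Equiv.swap i.castSucc i.succ = sw m i := by
        unfold sw pt
        congr 1 <;> ext <;> simp [Nat.mod_eq_of_lt, show (i : ℕ) < m + 2 by omega,
          show (i : ℕ) + 1 < m + 2 by omega]
      simp only [hi]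
      have hmem : sw m 0 * sw m i ∈ R := by
        rcases Nat.eq_zero_or_pos (i : ℕ) with h0 | h0
        · rw [h0, sw_sq]; exact R.one_mem
        · refine Subgroup.subset_closure ⟨(i : ℕ) - 1, ?_, ?_⟩
          · show (i : ℕ) - 1 < m
            have := i.2
            omega
          · show sw m 0 * sw m ((i : ℕ) - 1 + 1) = _
            rw [Nat.sub_add_cancel h0]
      have hmem' : sw m i * sw m 0 ∈ R := by
        have h1 := R.inv_mem hmem
        rwa [mul_inv_rev, sw, sw, Equiv.swap_inv, Equiv.swap_inv] at h1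
      rcases hz with hz | hz
      · refine Or.inr ?_
        rw [show sw m i * z * sw m 0 = (sw m i * sw m 0) * (sw m 0 * z * sw m 0) by
          rw [← mul_assoc, ← mul_assoc, mul_assoc (sw m i) (sw m 0) (sw m 0), sw_sq, mul_one]]
        exact R.mul_mem hmem' (hconj z hz)
      · refine Or.inl ?_
        rw [show sw m i * z = (sw m i * sw m 0) * (sw m 0 * (z * sw m 0) * sw m 0) by
          rw [← mul_assoc, ← mul_assoc, ← mul_assoc, mul_assoc (sw m i) (sw m 0) (sw m 0), sw_sq,
            mul_one, mul_assoc _ (sw m 0) (sw m 0), sw_sq, mul_one]]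
        exact R.mul_mem hmem' (hconj _ hz)
  refine le_antisymm hle fun g hg => ?_
  rcases hall g with h1 | h1
  · exact h1
  · exfalso
    have h2 := Equiv.Perm.mem_alternatingGroup.1 (hle h1)
    rw [map_mul, Equiv.Perm.mem_alternatingGroup.1 hg, hsign 0 (by omega)] at h2
    exact absurd h2 (by decide)

end Cfsg.Agent.CharTheory.AltPresentation
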