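import Mathlib
import Cfsg.Agent.Lib.CharTheory.AltPresentation

/-!
The presented group is the alternating group.
-/

set_option autoImplicit false

namespace Cfsg.Agent.CharTheory.AltPresentation

/-- The relators. -/
abbrev relators (m : ℕ) : Set (FreeGroup (Fin m)) :=
  {g : FreeGroup (Fin m) | ∃ i : Fin m, i.val = 0 ∧ g = FreeGroup.of i ^ 3} ∪
    {g | ∃ i : Fin m, 1 ≤ i.val ∧ g = FreeGroup.of i ^ 2} ∪
    {g | ∃ i j : Fin m, j.val = i.val + 1 ∧ g = (FreeGroup.of i * FreeGroup.of j) ^ 3} ∪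
    {g | ∃ i j : Fin m, i.val + 1 < j.val ∧ g = (FreeGroup.of i * FreeGroup.of j) ^ 2}

theorem presented (m : ℕ) (hm : 1 ≤ m) :
    Nonempty (PresentedGroup (relators m) ≃* alternatingGroup (Fin (m + 2))) := by
  classical
  have hg := gen_rels m
  have hlift : ∀ r ∈ relators m, FreeGroup.lift (fun i : Fin m => gen m i) r = 1 := by
    intro r hr
    rcases hr with ((⟨i, h0, rfl⟩ | ⟨i, h1, rfl⟩) | ⟨i, j, hij, rfl⟩) | ⟨i, j, hij, rfl⟩
    · simp only [map_pow, FreeGroup.lift_apply_of, h0]; exact hg.cube (by omega)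
    · simp only [map_pow, FreeGroup.lift_apply_of]; exact hg.sq i h1 i.2
    · simp only [map_pow, map_mul, FreeGroup.lift_apply_of, hij]
      exact hg.adj i (by omega)
    · simp only [map_pow, map_mul, FreeGroup.lift_apply_of]
      exact hg.far i j hij j.2
  let φ : PresentedGroup (relators m) →* Equiv.Perm (Fin (m + 2)) := PresentedGroup.toGroup hlift
  have hφ : φ.range = alternatingGroup (Fin (m + 2)) := by
    rw [← closure_gen m, MonoidHom.range_eq_map, ← PresentedGroup.closure_range_of (relators m),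
      MonoidHom.map_closure]
    congr 1
    ext g
    constructor
    · rintro ⟨-, ⟨i, rfl⟩, rfl⟩
      exact ⟨i, i.2, (PresentedGroup.toGroup.of (h := hlift)).symm⟩
    · rintro ⟨i, hi, rfl⟩
      exact ⟨_, ⟨⟨i, hi⟩, rfl⟩, PresentedGroup.toGroup.of (h := hlift)⟩
  let x : ℕ → PresentedGroup (relators m) := fun i =>
    if h : i < m then PresentedGroup.of ⟨i, h⟩ else 1
  have hx : Rels x m := by
    refine ⟨fun h => ?_, fun i h1 hi => ?_, fun i hi => ?_, fun i j hij hj => ?_⟩
    · simp only [x, dif_pos h]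
      rw [PresentedGroup.of, ← map_pow]
      exact PresentedGroup.one_of_mem (Or.inl (Or.inl (Or.inl ⟨⟨0, h⟩, rfl, rfl⟩)))
    · simp only [x, dif_pos hi]
      rw [PresentedGroup.of, ← map_pow]
      exact PresentedGroup.one_of_mem (Or.inl (Or.inl (Or.inr ⟨⟨i, hi⟩, h1, rfl⟩)))
    · simp only [x, dif_pos hi, dif_pos (show i < m by omega)]
      simp only [PresentedGroup.of, ← map_mul, ← map_pow]
      exact PresentedGroup.one_of_mem
        (Or.inl (Or.inr ⟨⟨i, by omega⟩, ⟨i + 1, hi⟩, rfl, rfl⟩))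
    · simp only [x, dif_pos hj, dif_pos (show i < m by omega)]
      simp only [PresentedGroup.of, ← map_mul, ← map_pow]
      exact PresentedGroup.one_of_mem (Or.inr ⟨⟨i, by omega⟩, ⟨j, hj⟩, hij, rfl⟩)
  have hgen : Subgroup.closure (x '' Set.Iio m) = ⊤ := by
    rw [← PresentedGroup.closure_range_of (relators m)]
    congr 1
    ext g
    constructor
    · rintro ⟨i, hi, rfl⟩
      exact ⟨⟨i, hi⟩, by simp only [x, dif_pos (show i < m from hi)]⟩
    · rintro ⟨i, rfl⟩
      exact ⟨i, i.2, by simp [x, i.2]⟩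
  obtain ⟨hfin, hcard⟩ := card_le hx hm hgen
  haveI : Nontrivial (Fin (m + 2)) := Fin.nontrivial_iff_two_le.2 (by omega)
  have halt : 2 * Nat.card (alternatingGroup (Fin (m + 2))) = (m + 2).factorial := by
    rw [two_mul_nat_card_alternatingGroup, Nat.card_eq_fintype_card, Fintype.card_perm, Fintype.card_fin]
  let ψ := φ.codRestrict (alternatingGroup (Fin (m + 2))) fun y => hφ ▸ ⟨y, rfl⟩
  have hψ : Function.Surjective ψ := by
    rintro ⟨g, hg⟩
    rw [← hφ] at hg
    obtain ⟨y, hy⟩ := hg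
    exact ⟨y, Subtype.ext hy⟩
  refine ⟨MulEquiv.ofBijective ψ ((Nat.bijective_iff_surjective_and_card ψ).2 ⟨hψ, ?_⟩)⟩
  have := Nat.card_le_card_of_surjective ψ hψ
  omega

end Cfsg.Agent.CharTheory.AltPresentation
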