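import Mathlib
import Cfsg.Agent.Lib.Blocks.Block
import Cfsg.Agent.Lib.Characters.Schur
import Cfsg.Agent.Lib.Characters.Kernel
import Cfsg.Agent.Lib.CharTheory.NormalSylow.Extend

/-!
An extendible character of the principal block extends in the principal block when the group is
covered by the normal subgroup and the centralizer of its Sylow subgroup.
-/

set_option autoImplicit false
set_option linter.style.haveILetI false
set_option linter.unusedSectionVars false

namespace Cfsg.Agent.CharTheory.PrincipalExtension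

open Cfsg.Agent.Characters Cfsg.Agent.Blocks

universe u

variable {G : Type u} [Group G] [Finite G] (N : Subgroup G) [N.Normal]

/-- Invariant under conjugation by `N`. -/
def NEl (a : MonoidAlgebra ℂ G) : Prop :=
  ∀ n ∈ N, ∀ g : G, a.coeff (n * g * n⁻¹) = a.coeff g

/-- Supported in one coset. -/
def Supp (a : MonoidAlgebra ℂ G) (c : G ⧸ N) : Prop :=
  ∀ y : G, QuotientGroup.mk' N y ≠ c → a.coeff y = 0

variable {N}

theorem nEl_one : NEl N (1 : MonoidAlgebra ℂ G) := fun n _ g => central_one g n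

theorem nEl_mul {a b : MonoidAlgebra ℂ G} (ha : NEl N a) (hb : NEl N b) : NEl N (a * b) := by
  haveI := Fintype.ofFinite G
  intro n hn g
  rw [coeff_mul', coeff_mul']
  symm
  refine Fintype.sum_equiv (MulAut.conj n).toEquiv _ _ fun k => ?_
  rw [show (MulAut.conj n).toEquiv k = n * k * n⁻¹ from rfl, ha n hn k,
    show (n * k * n⁻¹)⁻¹ * (n * g * n⁻¹) = n * (k⁻¹ * g) * n⁻¹ by group, hb n hn]

theorem nEl_pow {a : MonoidAlgebra ℂ G} (ha : NEl N a) (k : ℕ) : NEl N (a ^ k) := by
  induction k with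
  | zero => simpa using nEl_one
  | succ k ih => rw [pow_succ]; exact nEl_mul ih ha

theorem supp_one : Supp N (1 : MonoidAlgebra ℂ G) 1 := fun y hy => by
  classical
  rw [MonoidAlgebra.one_def, MonoidAlgebra.coeff_single, Finsupp.single_apply, if_neg]
  exact fun h => hy (by rw [← h, map_one])

theorem supp_mul {a b : MonoidAlgebra ℂ G} {c d : G ⧸ N} (ha : Supp N a c) (hb : Supp N b d) :
    Supp N (a * b) (c * d) := by
  haveI := Fintype.ofFinite G
  intro y hy
  rw [coeff_mul']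
  refine Finset.sum_eq_zero fun h _ => ?_
  by_cases hc : QuotientGroup.mk' N h = c
  · by_cases hd : QuotientGroup.mk' N (h⁻¹ * y) = d
    · exact absurd (by rw [← hc, ← hd, ← map_mul, mul_inv_cancel_left]) hy
    · rw [hb _ hd, mul_zero]
  · rw [ha _ hc, zero_mul]

theorem supp_pow {a : MonoidAlgebra ℂ G} {c : G ⧸ N} (ha : Supp N a c) (k : ℕ) :
    Supp N (a ^ k) (c ^ k) := by
  induction k with
  | zero => simpa using supp_one
  | succ k ih => rw [pow_succ, pow_succ]; exact supp_mul ih ha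

variable (N) in
/-- The sum of the conjugates of `x` under `N`. -/
noncomputable def orbitSum (x : G) : MonoidAlgebra ℂ G :=
  haveI := Classical.decPred fun y : G => ∃ n ∈ N, n * x * n⁻¹ = y
  ofFun fun y => if ∃ n ∈ N, n * x * n⁻¹ = y then 1 else 0

theorem nEl_orbitSum (x : G) : NEl N (orbitSum N x) := by
  classical
  intro m hm g
  simp only [orbitSum, coeff_ofFun]
  refine if_congr ⟨?_, ?_⟩ rfl rfl
  · rintro ⟨n, hn, e⟩
    exact ⟨m⁻¹ * n, N.mul_mem (N.inv_mem hm) hn, by
      rw [show m⁻¹ * n * x * (m⁻¹ * n)⁻¹ = m⁻¹ * (n * x * n⁻¹) * m by group, e]; group⟩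
  · rintro ⟨n, hn, rfl⟩
    exact ⟨m * n, N.mul_mem hm hn, by group⟩

theorem supp_orbitSum (x : G) : Supp N (orbitSum N x) (QuotientGroup.mk' N x) := by
  classical
  intro y hy
  simp only [orbitSum, coeff_ofFun]
  rw [if_neg]
  rintro ⟨n, hn, rfl⟩
  apply hy
  have h1 : QuotientGroup.mk' N n = 1 := (QuotientGroup.eq_one_iff n).2 hn
  rw [map_mul, map_mul, map_inv, h1]
  simp

theorem omega_trivial [Fintype G] (a : MonoidAlgebra ℂ G) :
    omega (fun _ : G => (1 : ℂ)) a = ∑ g : G, a.coeff g := by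
  rw [omega, evalChar_eq_sum, div_one]
  exact Finset.sum_congr rfl fun g _ => mul_one _

theorem card_orbit (x : G) :
    Nat.card {y : G // ∃ n ∈ N, n * x * n⁻¹ = y} =
      ((Subgroup.centralizer ({x} : Set G)).subgroupOf N).index := by
  set L := (Subgroup.centralizer ({x} : Set G)).subgroupOf N
  have hL : ∀ a b : N, (a : G) * x * (a : G)⁻¹ = (b : G) * x * (b : G)⁻¹ ↔ a⁻¹ * b ∈ L := by
    intro a b
    rw [Subgroup.mem_subgroupOf, Subgroup.mem_centralizer_singleton_iff, Subgroup.coe_mul,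
      Subgroup.coe_inv]
    constructor
    · intro h
      calc ((a : G)⁻¹ * b) * x = (a : G)⁻¹ * ((b : G) * x * (b : G)⁻¹) * b := by group
        _ = x * ((a : G)⁻¹ * b) := by rw [← h]; group
    · intro h
      calc (a : G) * x * (a : G)⁻¹ = (a : G) * (x * ((a : G)⁻¹ * b)) * (b : G)⁻¹ := by group
        _ = (b : G) * x * (b : G)⁻¹ := by rw [← h]; group
  rw [Subgroup.index_eq_card]
  symm
  refine Nat.card_congr (Equiv.ofBijective (fun q : N ⧸ L => Quotient.liftOn' q
    (fun a => (⟨(a : G) * x * (a : G)⁻¹, a, a.2, rfl⟩ : {y : G // ∃ n ∈ N, n * x * n⁻¹ = y}))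
    fun a b hab => Subtype.ext ((hL a b).2 (QuotientGroup.leftRel_apply.1 hab))) ⟨?_, ?_⟩)
  · intro q r
    induction q using QuotientGroup.induction_on with | _ a => ?_
    induction r using QuotientGroup.induction_on with | _ b => ?_
    intro h
    exact QuotientGroup.eq.2 ((hL a b).1 (congrArg Subtype.val h))
  · rintro ⟨y, n, hn, rfl⟩
    exact ⟨QuotientGroup.mk ⟨n, hn⟩, rfl⟩

variable [Fintype G] {ψ : G → ℂ} (hψN : Cfsg.IsIrrCharacter N fun n : N => ψ n)
  (hψ : Cfsg.IsCharacter G ψ)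

include hψN hψ in
/-- The central character is multiplicative on invariant elements. -/
theorem omega_nEl_mul {a : MonoidAlgebra ℂ G} (ha : NEl N a) (b : MonoidAlgebra ℂ G) :
    omega ψ (a * b) = omega ψ a * omega ψ b := by
  obtain ⟨n, ρ, rfl⟩ := hψ
  obtain ⟨d, τ, hτ, hτc⟩ := hψN
  haveI := hτ
  let σ : Representation ℂ N (Fin n → ℂ) := ρ.comp N.subtype
  obtain ⟨e⟩ := nonempty_equiv_of_character_eq τ σ (by rw [hτc]; rfl)
  set T := ρ.asAlgebraHom a with hT
  have hcomm : ∀ (m : N) (v : Fin n → ℂ), T (σ m v) = σ m (T v) := by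
    intro m v
    show (T * ρ (m : G)) v = (ρ (m : G) * T) v
    rw [hT, ← Representation.asAlgebraHom_single_one ρ, ← map_mul, ← map_mul]
    refine congrArg (fun z => ρ.asAlgebraHom z v) (el_ext fun g => ?_)
    rw [coeff_mul_single', coeff_single_mul', mul_one, one_mul]
    have := ha (m : G) m.2 ((m : G)⁻¹ * g)
    rw [mul_inv_cancel_left] at this
    exact this
  have he : ∀ (m : N) (v : Fin d → ℂ), e.toLinearEquiv (τ m v) = σ m (e.toLinearEquiv v) :=
    fun m v => e.toIntertwiningMap.isIntertwining _ _ m v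
  set E := e.toLinearEquiv
  obtain ⟨c, hc⟩ := schur_scalar τ (E.symm.toLinearMap ∘ₗ T ∘ₗ E.toLinearMap) (fun m v => by
    show E.symm (T (E (τ m v))) = τ m (E.symm (T (E v)))
    apply E.injective
    rw [he, he, LinearEquiv.apply_symm_apply, LinearEquiv.apply_symm_apply, hcomm])
  have hT' : T = c • LinearMap.id := LinearMap.ext fun v => by
    have h1 : E.symm (T (E (E.symm v))) = c • E.symm v := LinearMap.congr_fun hc (E.symm v)
    rw [LinearEquiv.apply_symm_apply] at h1
    have h2 := congrArg E h1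
    rw [LinearEquiv.apply_symm_apply, map_smul, LinearEquiv.apply_symm_apply] at h2
    exact h2
  have hn0 : (Module.finrank ℂ (Fin n → ℂ) : ℂ) ≠ 0 := by
    rw [← e.toLinearEquiv.finrank_eq]
    exact Nat.cast_ne_zero.2 (finrank_pos_of_isIrreducible τ).ne'
  have h1 : omega ρ.character a = c := by
    rw [omega, evalChar_eq_trace, ← hT, hT', map_smul, LinearMap.trace_id, ρ.char_one, smul_eq_mul,
      mul_div_assoc, div_self hn0, mul_one]
  rw [h1, omega, omega, evalChar_eq_trace, evalChar_eq_trace, map_mul, ← hT, hT',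
    show (LinearMap.id : (Fin n → ℂ) →ₗ[ℂ] (Fin n → ℂ)) = 1 from rfl, smul_mul_assoc, one_mul,
    map_smul, smul_eq_mul, mul_div_assoc]

include hψN hψ in
theorem omega_nEl_pow {a : MonoidAlgebra ℂ G} (ha : NEl N a) (k : ℕ) :
    omega ψ (a ^ k) = omega ψ a ^ k := by
  induction k with
  | zero =>
    rw [pow_zero, pow_zero, omega_one]
    have := irr_one_ne_zero hψN
    simpa using this
  | succ k ih => rw [pow_succ', pow_succ', omega_nEl_mul hψN hψ ha, ih]

theorem omega_trivial_mul (a b : MonoidAlgebra ℂ G) :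
    omega (fun _ : G => (1 : ℂ)) (a * b) =
      omega (fun _ : G => (1 : ℂ)) a * omega (fun _ : G => (1 : ℂ)) b := by
  rw [omega_trivial, omega_trivial, omega_trivial, Finset.sum_mul_sum]
  simp only [coeff_mul']
  rw [Finset.sum_comm]
  refine Finset.sum_congr rfl fun h _ => ?_
  exact Fintype.sum_equiv (Equiv.mulLeft h⁻¹) _ _ fun g => rfl

theorem omega_trivial_pow (a : MonoidAlgebra ℂ G) (k : ℕ) :
    omega (fun _ : G => (1 : ℂ)) (a ^ k) = omega (fun _ : G => (1 : ℂ)) a ^ k := by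
  induction k with
  | zero => simpa using omega_one (χ := fun _ : G => (1 : ℂ)) one_ne_zero
  | succ k ih => rw [pow_succ', pow_succ', omega_trivial_mul, ih]

theorem ring_omega_trivial {p : ℕ} {M : Ideal Cfsg.AlgInt} (hM : Cfsg.IsPModular p M)
    {a : MonoidAlgebra ℂ G} (ha : IntEl M a) :
    Cfsg.MemLocalRing M (omega (fun _ : G => (1 : ℂ)) a) := by
  rw [omega_trivial]
  exact ring_sum hM fun g _ => ha g

/-- The local ring is integrally closed. -/
theorem ring_of_pow {p : ℕ} {M : Ideal Cfsg.AlgInt} (hM : Cfsg.IsPModular p M) {x : ℂ} {k : ℕ}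
    (hk : k ≠ 0) (h : Cfsg.MemLocalRing M (x ^ k)) : Cfsg.MemLocalRing M x := by
  obtain ⟨a, b, hb, hab⟩ := h
  have hb0 : (b : ℂ) ≠ 0 := algInt_coe_ne_zero hb
  obtain ⟨j, rfl⟩ := Nat.exists_eq_succ_of_ne_zero hk
  have hpow : (x * b) ^ (j + 1) = ((a * b ^ j : Cfsg.AlgInt) : ℂ) := by
    rw [mul_pow, ← hab]
    push_cast
    field_simp
    ring
  have hint : IsIntegral ℤ (x * b) := IsIntegral.of_pow (Nat.succ_pos j) (by
    rw [hpow]; exact (a * b ^ j : Cfsg.AlgInt).2)
  exact ⟨⟨x * b, hint⟩, b, hb, by field_simp⟩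

include hψN hψ in
/-- On the trivial coset the central character is that of the trivial character. -/
theorem cong_coset_one {p : ℕ} {M : Ideal Cfsg.AlgInt} (hM : Cfsg.IsPModular p M)
    (hθ : (⟨fun n : N => ψ n, hψN⟩ : Cfsg.IrrCharacter N) ∈ Cfsg.principalBlock M N)
    {a : MonoidAlgebra ℂ G} (ha : NEl N a) (hai : IntEl M a) (hs : Supp N a 1) :
    Cong M (omega ψ a) (omega (fun _ : G => (1 : ℂ)) a) := by
  classical
  haveI := Fintype.ofFinite N
  set z : MonoidAlgebra ℂ N := ofFun fun n : N => a.coeff n with hz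
  have hzc : IsCentralEl z := fun x m => by
    rw [hz, coeff_ofFun, coeff_ofFun]
    exact ha (m : G) m.2 (x : G)
  have hzi : IntEl M z := fun x => by rw [hz, coeff_ofFun]; exact hai _
  have h := omega_cong_of_mem hM (isPBlock_principal M N) hθ (trivIrr_mem_principal hM) hzc hzi
  have hsum : ∀ f : G → ℂ, evalChar (fun n : N => f n) z = evalChar f a := by
    intro f
    rw [evalChar_eq_sum, evalChar_eq_sum]
    simp only [hz, coeff_ofFun]
    rw [← Finset.sum_subset (Finset.subset_univ (Finset.univ.filter fun g : G => g ∈ N))]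
    · exact (Finset.sum_subtype (Finset.univ.filter fun g : G => g ∈ N) (fun x => by simp)
        (fun g => a.coeff g * f g)).symm
    · intro g _ hg
      have hg' : g ∉ N := by simpa using hg
      rw [hs g (fun h => hg' ((QuotientGroup.eq_one_iff g).1 h)), zero_mul]
  have e1 : omega (fun n : N => ψ n) z = omega ψ a := by
    rw [omega, omega, hsum, OneMemClass.coe_one]
  have e2 : omega ((trivIrr N : Cfsg.IrrCharacter N) : N → ℂ) z =
      omega (fun _ : G => (1 : ℂ)) a := by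
    show evalChar (fun _ : N => (1 : ℂ)) z / 1 = evalChar (fun _ : G => (1 : ℂ)) a / 1
    rw [← hsum fun _ => (1 : ℂ)]
  rw [← e1, ← e2]
  exact h

/-- A root of unity of order prime to `p` congruent to a root of `1`. -/
theorem exists_root {p : ℕ} {M : Ideal Cfsg.AlgInt} (hM : Cfsg.IsPModular p M) {e : ℕ}
    (he : e ≠ 0) {r : ℂ} (hr : Cfsg.MemLocalRing M r) (h : Cong M (r ^ e) 1) :
    ∃ ζ : ℂ, ζ ^ ordCompl[p] e = 1 ∧ Cong M r ζ := by
  classical
  have hprim := Complex.isPrimitiveRoot_exp e he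
  set ω := Complex.exp (2 * Real.pi * Complex.I / e)
  have hfac : r ^ e - 1 = ∏ ζ ∈ Polynomial.nthRootsFinset e (1 : ℂ), (r - ζ) := by
    have := congrArg (Polynomial.eval r) (Polynomial.X_pow_sub_one_eq_prod (Nat.pos_of_ne_zero he) hprim)
    simpa [Polynomial.eval_prod] using this
  have hring : ∀ ζ ∈ Polynomial.nthRootsFinset e (1 : ℂ), Cfsg.MemLocalRing M (r - ζ) :=
    fun ζ hζ => ring_sub hM hr (ring_of_pow_eq_one hM he
      ((Polynomial.mem_nthRootsFinset (Nat.pos_of_ne_zero he) (1 : ℂ)).1 hζ))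
  obtain ⟨ζ, hζ, hcong⟩ : ∃ ζ ∈ Polynomial.nthRootsFinset e (1 : ℂ),
      Cfsg.MemLocalIdeal M (r - ζ) := by
    by_contra hno
    push Not at hno
    have hh : Cfsg.MemLocalIdeal M (r ^ e - 1) := h
    rw [hfac] at hh
    have key : ∀ s : Finset ℂ, s ⊆ Polynomial.nthRootsFinset e (1 : ℂ) →
        Cfsg.MemLocalRing M (∏ ζ ∈ s, (r - ζ)) ∧ ¬ Cfsg.MemLocalIdeal M (∏ ζ ∈ s, (r - ζ)) := by
      intro s hs
      induction s using Finset.induction with
      | empty => exact ⟨by simpa using ring_one hM, by simpa using not_ideal_one hM⟩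
      | insert x s hx ih =>
        have hx' := hs (Finset.mem_insert_self x s)
        obtain ⟨h1, h2⟩ := ih fun y hy => hs (Finset.mem_insert_of_mem hy)
        rw [Finset.prod_insert hx]
        refine ⟨ring_mul hM (hring x hx') h1, fun h3 => ?_⟩
        rcases (ideal_mul_iff hM (hring x hx') h1).1 h3 with h4 | h4
        · exact hno x hx' h4
        · exact h2 h4
    exact (key _ subset_rfl).2 hh
  have hζe : ζ ^ e = 1 := (Polynomial.mem_nthRootsFinset (Nat.pos_of_ne_zero he) (1 : ℂ)).1 hζ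
  have hp := hM.1
  set m := ordCompl[p] e
  set q := ordProj[p] e
  obtain ⟨s, hs1, hs2⟩ := Nat.chineseRemainder (n := q) (m := m)
    (Nat.Coprime.pow_left _ (Nat.coprime_ordCompl hp he)) 0 1
  refine ⟨ζ ^ s, ?_, ?_⟩
  · rw [← pow_mul]
    obtain ⟨k, hk⟩ := Nat.modEq_zero_iff_dvd.1 hs1
    rw [hk, show q * k * m = (q * m) * k by ring, Nat.ordProj_mul_ordCompl_eq_self, pow_mul, hζe,
      one_pow]
  · refine cong_trans hM hcong ?_
    have hζ0 : Cfsg.MemLocalRing M ζ := ring_of_pow_eq_one hM he hζe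
    -- the quotient of `ζ ^ s` by `ζ` has order a power of `p`
    obtain ⟨k, hk⟩ : ∃ k, s + (e - 1) = m * k := by
      have h1 : m ∣ e := Nat.ordCompl_dvd e p
      have h2 : (s + (e - 1)) % m = 0 := by
        have h3 : s + (e - 1) ≡ 1 + (e - 1) [MOD m] := Nat.ModEq.add_right _ hs2
        rw [Nat.add_sub_cancel' (Nat.one_le_iff_ne_zero.2 he)] at h3
        exact h3.trans (Nat.modEq_zero_iff_dvd.2 h1)
      exact Nat.dvd_of_mod_eq_zero h2
    have hq : (ζ ^ (s + (e - 1))) ^ p ^ (e.factorization p) = 1 := by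
      rw [hk, ← pow_mul, show m * k * p ^ e.factorization p = (q * m) * k by ring,
        Nat.ordProj_mul_ordCompl_eq_self, pow_mul, hζe, one_pow]
    have h1 := cong_mul_left hM hζ0 (cong_one_of_pow_prime_pow hM hq)
    rw [mul_one, ← pow_succ', show s + (e - 1) + 1 = s + e by
      have := Nat.one_le_iff_ne_zero.2 he; omega, pow_add, hζe, mul_one] at h1
    exact cong_symm hM h1

include hψN hψ in
/-- The correcting linear character. -/
theorem exists_twist {p : ℕ} {M : Ideal Cfsg.AlgInt} (hM : Cfsg.IsPModular p M)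
    (hθ : (⟨fun n : N => ψ n, hψN⟩ : Cfsg.IrrCharacter N) ∈ Cfsg.principalBlock M N)
    (P : Sylow p N)
    (hcov : ∀ g : G, ∃ x : G, x ∈ Subgroup.centralizer
      (((P : Subgroup N).map N.subtype : Subgroup G) : Set G) ∧
      QuotientGroup.mk' N x = QuotientGroup.mk' N g) :
    ∃ μ : G →* ℂˣ, (∀ n ∈ N, μ n = 1) ∧
      ∀ (a : MonoidAlgebra ℂ G) (g : G), NEl N a → IntEl M a →
        Supp N a (QuotientGroup.mk' N g) →
        Cong M ((μ g : ℂ) * omega ψ a) (omega (fun _ : G => (1 : ℂ)) a) := by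
  classical
  have hp := hM.1
  haveI := Fact.mk hp
  choose x hx hxg using hcov
  set π := QuotientGroup.mk' N with hπ
  let x' : G ⧸ N → G := fun c => x c.out
  have hx'c : ∀ c : G ⧸ N, π (x' c) = c := fun c => (hxg _).trans (QuotientGroup.out_eq' c)
  let A : G ⧸ N → MonoidAlgebra ℂ G := fun c => orbitSum N (x' c)
  have hAN : ∀ c, NEl N (A c) := fun c => nEl_orbitSum _
  have hAS : ∀ c, Supp N (A c) c := fun c => by
    have h1 := supp_orbitSum (N := N) (x' c)
    rw [← hπ, hx'c] at h1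
    exact h1
  have hAI : ∀ c, IntEl M (A c) := fun c y => by
    simp only [A, orbitSum, coeff_ofFun]
    split <;> simp [ring_one hM, ring_zero hM]
  let t : G ⧸ N → ℕ := fun c => ((Subgroup.centralizer ({x' c} : Set G)).subgroupOf N).index
  have hAt : ∀ c, omega (fun _ : G => (1 : ℂ)) (A c) = (t c : ℂ) := fun c => by
    rw [omega_trivial]
    simp only [A, orbitSum, coeff_ofFun]
    show _ = ((((Subgroup.centralizer ({x' c} : Set G)).subgroupOf N).index : ℕ) : ℂ)
    rw [← card_orbit, Nat.card_eq_fintype_card, Fintype.card_subtype, ← Finset.sum_boole]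
    exact Finset.sum_congr rfl fun y _ => by split_ifs <;> simp_all
  have htp : ∀ c, ¬ p ∣ t c := by
    intro c hd
    refine P.not_dvd_index (hd.trans (Subgroup.index_dvd_of_le fun y hy => ?_))
    rw [Subgroup.mem_subgroupOf, Subgroup.mem_centralizer_singleton_iff]
    exact Subgroup.mem_centralizer_iff.1 (hx c.out) _ (Subgroup.mem_map_of_mem N.subtype hy)
  have hunit : ∀ c, ¬ Cfsg.MemLocalIdeal M (t c : ℂ) := fun c h =>
    htp c ((ideal_natCast_iff hM _).1 h)
  set o := Nat.card (G ⧸ N) with ho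
  have ho0 : o ≠ 0 := Nat.card_pos.ne'
  have hpow : ∀ c : G ⧸ N, c ^ o = 1 := fun c => pow_card_eq_one'
  have hkey : ∀ (a : MonoidAlgebra ℂ G) (c : G ⧸ N), NEl N a → IntEl M a → Supp N a c →
      Cfsg.MemLocalRing M (omega ψ a) ∧
      Cong M (omega ψ a * omega ψ (A c) ^ (o - 1))
        (omega (fun _ : G => (1 : ℂ)) a * (t c : ℂ) ^ (o - 1)) := by
    intro a c ha hai has
    have h1 := cong_coset_one hψN hψ hM hθ (nEl_pow ha o) (intEl_pow hM hai o)
      (by have h := supp_pow has o; rwa [hpow] at h)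
    rw [omega_nEl_pow hψN hψ ha, omega_trivial_pow] at h1
    refine ⟨ring_of_pow hM ho0
      (ring_of_cong hM h1 (ring_pow hM (ring_omega_trivial hM hai) o)), ?_⟩
    have h2 := cong_coset_one hψN hψ hM hθ (nEl_mul ha (nEl_pow (hAN c) (o - 1)))
      (intEl_mul hM hai (intEl_pow hM (hAI c) (o - 1)))
      (by
        have h := supp_mul has (supp_pow (hAS c) (o - 1))
        rwa [← pow_succ', Nat.sub_add_cancel (Nat.one_le_iff_ne_zero.2 ho0), hpow] at h)
    rwa [omega_nEl_mul hψN hψ ha, omega_nEl_pow hψN hψ (hAN c), omega_trivial_mul,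
      omega_trivial_pow, hAt] at h2
  let r : G ⧸ N → ℂ := fun c => omega ψ (A c) * (t c : ℂ)⁻¹
  have hrR : ∀ c, Cfsg.MemLocalRing M (r c) := fun c =>
    ring_mul hM (hkey _ c (hAN c) (hAI c) (hAS c)).1 (ring_inv_natCast hM (htp c))
  have hro : ∀ c, Cong M (r c ^ o) 1 := by
    intro c
    have h1 := (hkey _ c (hAN c) (hAI c) (hAS c)).2
    rw [← pow_succ', hAt, ← pow_succ', Nat.sub_add_cancel (Nat.one_le_iff_ne_zero.2 ho0)] at h1
    have h2 := cong_mul_left hM (ring_pow hM (ring_inv_natCast hM (htp c)) o) h1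
    have ht0 : (t c : ℂ) ≠ 0 := ne_zero_of_not_ideal hM (hunit c)
    rw [← mul_pow, ← mul_pow, inv_mul_cancel₀ ht0, one_pow, mul_comm] at h2
    exact h2
  set m := ordCompl[p] o with hm
  have hm0 : m ≠ 0 := (Nat.ordCompl_pos p ho0).ne'
  have hpm : ¬ p ∣ m := Nat.not_dvd_ordCompl hp ho0
  choose ζ hζm hζ using fun c => exists_root hM ho0 (hrR c) (hro c)
  have hζ0 : ∀ c, ζ c ≠ 0 := fun c h => by
    have := hζm c
    rw [h, zero_pow hm0] at this
    exact zero_ne_one this
  have hζR : ∀ c, Cfsg.MemLocalRing M (ζ c) := fun c => ring_of_pow_eq_one hM hm0 (hζm c)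
  have hmain : ∀ (a : MonoidAlgebra ℂ G) (c : G ⧸ N), NEl N a → IntEl M a → Supp N a c →
      Cong M (omega ψ a) (ζ c * omega (fun _ : G => (1 : ℂ)) a) := by
    intro a c ha hai has
    obtain ⟨hring, h1⟩ := hkey a c ha hai has
    have ht0 : (t c : ℂ) ≠ 0 := ne_zero_of_not_ideal hM (hunit c)
    have h2 := cong_mul_left hM (ring_pow hM (ring_inv_natCast hM (htp c)) (o - 1)) h1
    have h3 := cong_mul_left hM (hrR c) h2
    have e1 : r c * ((t c : ℂ)⁻¹ ^ (o - 1) * (omega ψ a * omega ψ (A c) ^ (o - 1))) =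
        omega ψ a * r c ^ o := by
      have e0 : r c ^ o = r c * r c ^ (o - 1) := by
        rw [← pow_succ', Nat.sub_add_cancel (Nat.one_le_iff_ne_zero.2 ho0)]
      rw [e0]
      simp only [r, mul_pow]
      ring
    have e2 : r c * ((t c : ℂ)⁻¹ ^ (o - 1) *
        (omega (fun _ : G => (1 : ℂ)) a * (t c : ℂ) ^ (o - 1))) =
        r c * omega (fun _ : G => (1 : ℂ)) a := by
      rw [inv_pow, mul_left_comm ((t c : ℂ) ^ (o - 1))⁻¹,
        inv_mul_cancel₀ (pow_ne_zero _ ht0), mul_one]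
    rw [e1, e2] at h3
    have h4 := cong_mul_left hM hring (hro c)
    rw [mul_one] at h4
    refine cong_trans hM (cong_trans hM (cong_symm hM h4) h3) ?_
    rw [mul_comm (r c), mul_comm (ζ c)]
    exact cong_mul_left hM (ring_omega_trivial hM hai) (hζ c)
  have hmul : ∀ c d, ζ (c * d) = ζ c * ζ d := by
    intro c d
    have hN := nEl_mul (hAN c) (hAN d)
    have h1 := hmain _ (c * d) hN (intEl_mul hM (hAI c) (hAI d)) (supp_mul (hAS c) (hAS d))
    rw [omega_nEl_mul hψN hψ (hAN c), omega_trivial_mul] at h1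
    have h2 := cong_mul hM (hmain _ c (hAN c) (hAI c) (hAS c)) (hmain _ d (hAN d) (hAI d) (hAS d))
      (ring_mul hM (hζR c) (ring_omega_trivial hM (hAI c)))
      (ring_mul hM (hζR d) (ring_omega_trivial hM (hAI d)))
    have h3 := cong_trans hM (cong_symm hM h1) h2
    simp only [hAt] at h3
    have ht : Cfsg.MemLocalRing M ((ζ (c * d))⁻¹ * ((t c : ℂ)⁻¹ * (t d : ℂ)⁻¹)) := by
      refine ring_mul hM ?_ (ring_mul hM (ring_inv_natCast hM (htp c)) (ring_inv_natCast hM (htp d)))
      exact ring_of_pow_eq_one hM hm0 (by rw [inv_pow, hζm, inv_one])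
    have h4 := cong_mul_left hM ht h3
    have htc : (t c : ℂ) ≠ 0 := ne_zero_of_not_ideal hM (hunit c)
    have htd : (t d : ℂ) ≠ 0 := ne_zero_of_not_ideal hM (hunit d)
    have hz := hζ0 (c * d)
    have e3 : (ζ (c * d))⁻¹ * ((t c : ℂ)⁻¹ * (t d : ℂ)⁻¹) *
        (ζ (c * d) * ((t c : ℂ) * (t d : ℂ))) = 1 := by field_simp
    have e4 : (ζ (c * d))⁻¹ * ((t c : ℂ)⁻¹ * (t d : ℂ)⁻¹) *
        (ζ c * (t c : ℂ) * (ζ d * (t d : ℂ))) = (ζ (c * d))⁻¹ * (ζ c * ζ d) := by field_simp
    rw [e3, e4] at h4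
    have h5 := eq_one_of_cong_one hM hpm (η := (ζ (c * d))⁻¹ * (ζ c * ζ d))
      (by rw [mul_pow, mul_pow, inv_pow, hζm, hζm, hζm]; simp) (cong_symm hM h4)
    exact ((inv_mul_eq_one₀ hz).1 h5)
  let z : G ⧸ N →* ℂˣ :=
    MonoidHom.mk' (fun c => Units.mk0 (ζ c) (hζ0 c)) fun c d => Units.ext (hmul c d)
  refine ⟨(z.comp π)⁻¹, fun n hn => ?_, fun a g ha hai has => ?_⟩
  · rw [MonoidHom.inv_apply, MonoidHom.comp_apply,
      show π n = 1 from (QuotientGroup.eq_one_iff n).2 hn, map_one, inv_one]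
  · have hzc : (((z.comp π)⁻¹ g : ℂˣ) : ℂ) = (ζ (π g))⁻¹ := by
      simp [z]
    have h1 := cong_mul_left hM (c := (ζ (π g))⁻¹)
      (ring_of_pow_eq_one hM hm0 (by rw [inv_pow, hζm, inv_one])) (hmain a _ ha hai has)
    rw [inv_mul_cancel_left₀ (hζ0 _)] at h1
    rw [hzc]
    exact h1

end Cfsg.Agent.CharTheory.PrincipalExtension
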