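import Mathlib
import Cfsg.Agent.Lib.CharTheory.Average
import Cfsg.Agent.Lib.CharTheory.Extraspecial
import Cfsg.Agent.Lib.Characters.Kernel
import Cfsg.Agent.Lib.Characters.Induction

/-!
An abelian subgroup such that every non-central centralizer meets at most one of its conjugates:
the degree of an irreducible character not trivial on it exceeds the square root of its order.
-/

set_option autoImplicit false

namespace Cfsg.Agent.CharTheory.OneConjugate

open Cfsg.Agent.Characters
open Cfsg.Agent.CharTheory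

universe u

variable {G : Type u} [Group G] [Fintype G] (H : Subgroup G)

/-- Every centralizer of a non-central element meets at most one conjugate. -/
def OneConj : Prop :=
  ∀ g : G, g ∉ Subgroup.center G → ∀ a b : G,
    Subgroup.centralizer ({g} : Set G) ⊓ H.map (MulAut.conj a).toMonoidHom ≠ ⊥ →
    Subgroup.centralizer ({g} : Set G) ⊓ H.map (MulAut.conj b).toMonoidHom ≠ ⊥ →
    H.map (MulAut.conj a).toMonoidHom = H.map (MulAut.conj b).toMonoidHom

/-- The elements commuting with some non-trivial element of `H`. -/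
def Wit (g : G) : Prop := ∃ a ∈ H, a ≠ 1 ∧ a * g = g * a

variable {H}

omit [Fintype G] in
theorem cent_ne_bot {g x a : G} (ha : a ∈ H) (ha1 : a ≠ 1)
    (hcomm : a * (x⁻¹ * g * x) = (x⁻¹ * g * x) * a) :
    Subgroup.centralizer ({g} : Set G) ⊓ H.map (MulAut.conj x).toMonoidHom ≠ ⊥ := by
  intro h0
  have hm : x * a * x⁻¹ ∈
      Subgroup.centralizer ({g} : Set G) ⊓ H.map (MulAut.conj x).toMonoidHom := by
    refine ⟨Subgroup.mem_centralizer_singleton_iff.2 ?_, ⟨a, ha, by simp⟩⟩
    calc x * a * x⁻¹ * g = x * (a * (x⁻¹ * g * x)) * x⁻¹ := by group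
      _ = x * ((x⁻¹ * g * x) * a) * x⁻¹ := by rw [hcomm]
      _ = g * (x * a * x⁻¹) := by group
  rw [h0, Subgroup.mem_bot] at hm
  exact ha1 (conj_eq_one_iff.1 hm)

omit [Fintype G] in
theorem mem_normalizer_of_map_eq {x y : G}
    (h : H.map (MulAut.conj x).toMonoidHom = H.map (MulAut.conj y).toMonoidHom) :
    x⁻¹ * y ∈ Subgroup.normalizer (H : Set G) := by
  refine Subgroup.mem_normalizer_iff.2 fun u => ?_
  constructor
  · intro hu
    have h1 : y * u * y⁻¹ ∈ H.map (MulAut.conj x).toMonoidHom := by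
      rw [h]; exact ⟨u, hu, by simp⟩
    obtain ⟨v, hv, hv'⟩ := h1
    have : x * v * x⁻¹ = y * u * y⁻¹ := by simpa using hv'
    rwa [show x⁻¹ * y * u * (x⁻¹ * y)⁻¹ = x⁻¹ * (y * u * y⁻¹) * x by group, ← this,
      show x⁻¹ * (x * v * x⁻¹) * x = v by group]
  · intro hu
    have h1 : x * (x⁻¹ * y * u * (x⁻¹ * y)⁻¹) * x⁻¹ ∈ H.map (MulAut.conj y).toMonoidHom := by
      rw [← h]; exact ⟨_, hu, by simp⟩
    obtain ⟨v, hv, hv'⟩ := h1
    have h2 : y * v * y⁻¹ = y * u * y⁻¹ := by
      have : y * v * y⁻¹ = x * (x⁻¹ * y * u * (x⁻¹ * y)⁻¹) * x⁻¹ := by simpa using hv'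
      rw [this]; group
    rw [mul_left_inj, mul_right_inj] at h2
    exact h2 ▸ hv

variable (hab : ∀ a ∈ H, ∀ b ∈ H, a * b = b * a) (hZ : H ⊓ Subgroup.center G = ⊥)
  (hone : OneConj H)
include hab hZ hone

omit [Fintype G] in
theorem wit_mem_normalizer {g : G} (hg : Wit H g) : g ∈ Subgroup.normalizer (H : Set G) := by
  obtain ⟨a, ha, ha1, hag⟩ := hg
  have hnc : a ∉ Subgroup.center G := fun h => ha1 (by
    have hm : a ∈ H ⊓ Subgroup.center G := ⟨ha, h⟩
    rwa [hZ, Subgroup.mem_bot] at hm)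
  have h := mem_normalizer_of_map_eq (hone a hnc 1 g
    (cent_ne_bot ha ha1 (by simp))
    (cent_ne_bot ha ha1 (by
      rw [show g⁻¹ * a * g = a by rw [mul_assoc, hag, inv_mul_cancel_left]])))
  simpa using h

omit [Fintype G] hab in
theorem wit_ncard_le [Finite G] {g : G} (hg : g ∉ Subgroup.center G) :
    Nat.card {x : G // Wit H (x⁻¹ * g * x)} ≤ Nat.card (Subgroup.normalizer (H : Set G)) := by
  rcases isEmpty_or_nonempty {x : G // Wit H (x⁻¹ * g * x)} with h | ⟨⟨y, hy⟩⟩
  · simp
  refine Nat.card_le_card_of_injective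
    (fun x => ⟨y⁻¹ * x.1, ?_⟩) fun x x' h => Subtype.ext (mul_left_cancel (congrArg Subtype.val h))
  obtain ⟨a, ha, ha1, hc⟩ := x.2
  obtain ⟨b, hb, hb1, hc'⟩ := hy
  exact mem_normalizer_of_map_eq (hone g hg y x.1 (cent_ne_bot hb hb1 hc') (cent_ne_bot ha ha1 hc))

/-- The first inequality. -/
theorem sq_gt [Fintype H] {χ : G → ℂ} (hχ : Cfsg.IsIrrCharacter G χ)
    (hker : ∃ h ∈ H, χ h ≠ χ 1) :
    (χ 1).re ^ 2 > (Nat.card H : ℝ) *
      (Cfsg.classInner (fun h : H => χ h) (fun _ => 1)).re ^ 2 := by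
  classical
  obtain ⟨h₀, hh₀, hne⟩ := hker
  have hh₀1 : h₀ ≠ 1 := fun h => hne (h ▸ rfl)
  have hχc := isCharacter_of_isIrr hχ
  obtain ⟨d, hd0, hd⟩ := irr_one_pos hχ
  obtain ⟨c, hc⟩ := classInner_char_nat (isCharacter_restrict H hχc) (isCharacter_one (G := H))
  rw [hd, hc, Complex.natCast_re, Complex.natCast_re]
  let N := Subgroup.normalizer (H : Set G)
  have hHN : H ≤ N := Subgroup.le_normalizer
  let HN := H.subgroupOf N
  haveI : HN.Normal := Subgroup.normal_in_normalizer
  let f : N → ℂ := fun n => χ n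
  have hf : Cfsg.IsCharacter N f := isCharacter_restrict N hχc
  let α : N → ℂ := Average.avg HN f
  have hα : Cfsg.IsCharacter N α := Average.isCharacter_avg HN hf
  let β : N → ℂ := f - α
  let e : HN ≃ H := (Subgroup.subgroupOfEquivOfLe hHN).toEquiv
  have hcardHN : (Nat.card HN : ℂ) = (Nat.card H : ℂ) := by rw [Nat.card_congr e]
  have hcsum : ∑ a : H, χ a = (Nat.card H : ℂ) * c := by
    rw [← hc, classInner_def]
    simp [mul_inv_cancel_left₀ natCard_ne_zero]
  -- off `W` the function is its average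
  have hoff : ∀ n : N, ¬ Wit H n → f n = α n := by
    intro n hn
    let φ : H → HN := fun a => ⟨⟨(n : G) * a * (n : G)⁻¹ * (a : G)⁻¹,
      N.mul_mem (N.mul_mem (N.mul_mem n.2 (hHN a.2)) (N.inv_mem n.2)) (N.inv_mem (hHN a.2))⟩,
      Subgroup.mem_subgroupOf.2 (H.mul_mem
        ((Subgroup.mem_normalizer_iff.1 n.2 a).1 a.2) (H.inv_mem a.2))⟩
    have hφ : Function.Bijective φ := by
      rw [Fintype.bijective_iff_injective_and_card]
      refine ⟨fun a b hab' => ?_, (Fintype.card_congr e).symm⟩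
      have h1 : (n : G) * a * (n : G)⁻¹ * (a : G)⁻¹ = (n : G) * b * (n : G)⁻¹ * (b : G)⁻¹ :=
        congrArg (fun x : HN => ((x : N) : G)) hab'
      by_contra hne'
      refine hn ⟨(a : G)⁻¹ * b, H.mul_mem (H.inv_mem a.2) b.2,
        fun h => hne' (Subtype.ext (inv_mul_eq_one.1 h)), ?_⟩
      have hq : ∀ x ∈ H, (n : G) * x * (n : G)⁻¹ ∈ H := fun x hx =>
        (Subgroup.mem_normalizer_iff.1 n.2 x).1 hx
      have h2 : (n : G) * ((a : G)⁻¹ * b) * (n : G)⁻¹ = (a : G)⁻¹ * b := by
        have h3 : (n : G) * a * (n : G)⁻¹ = (n : G) * b * (n : G)⁻¹ * (b : G)⁻¹ * a := by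
          rw [← h1, inv_mul_cancel_right]
        have h4 : (n : G) * ((a : G)⁻¹ * b) * (n : G)⁻¹ =
            ((n : G) * a * (n : G)⁻¹)⁻¹ * ((n : G) * b * (n : G)⁻¹) := by group
        rw [h4, h3]; group
      exact (mul_inv_eq_iff_eq_mul.1 h2).symm
    show f n = (Nat.card HN : ℂ)⁻¹ * ∑ m : HN, f ((m : N) * n)
    rw [← Fintype.sum_bijective φ hφ (fun a : H => f n) _ (fun a => ?_), Finset.sum_const,
      Finset.card_univ, nsmul_eq_mul, ← Nat.card_eq_fintype_card, ← hcardHN,
      inv_mul_cancel_left₀ natCard_ne_zero]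
    show χ (n : G) = χ ((n : G) * a * (n : G)⁻¹ * (a : G)⁻¹ * (n : G))
    have hcomm : (n : G) * a * (n : G)⁻¹ * (a : G)⁻¹ = (a : G)⁻¹ * ((n : G) * a * (n : G)⁻¹) :=
      hab _ ((Subgroup.mem_normalizer_iff.1 n.2 a).1 a.2) _ (H.inv_mem a.2)
    rw [hcomm]
    have h5 := char_isClassFunction hχc (n : G) (a : G)⁻¹
    rw [inv_inv] at h5
    rw [← h5]
    congr 1; group
  -- values on `H` times the centre
  have hαz : ∀ (a : H) (z : Subgroup.center G) (hm : (a : G) * z ∈ N),
      Complex.normSq (α ⟨(a : G) * z, hm⟩) = (c : ℝ) ^ 2 := by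
    intro a z hm
    obtain ⟨ω, hω⟩ := Extraspecial.central_scalar hχ z.2
    have hω1 : ‖ω‖ = 1 := by
      refine Complex.norm_eq_one_of_pow_eq_one (n := orderOf (z : G)) ?_ (orderOf_pos _).ne'
      have hp : ∀ k : ℕ, χ ((z : G) ^ k) = ω ^ k * χ 1 := by
        intro k
        induction k with
        | zero => simp
        | succ k ih => rw [pow_succ, hω, ih, pow_succ]; ring
      have h1 := hp (orderOf (z : G))
      rw [pow_orderOf_eq_one] at h1
      exact mul_right_cancel₀ (irr_one_ne_zero hχ) (h1.symm.trans (one_mul _).symm)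
    have h2 : α ⟨(a : G) * z, hm⟩ = ω * c := by
      show (Nat.card HN : ℂ)⁻¹ * ∑ m : HN, χ (((m : N) : G) * ((a : G) * z)) = _
      rw [Fintype.sum_equiv e (fun m : HN => χ (((m : N) : G) * ((a : G) * z)))
        (fun b : H => χ ((b : G) * ((a : G) * z))) (fun m => rfl)]
      rw [Fintype.sum_equiv (Equiv.mulRight a) (fun b : H => χ ((b : G) * ((a : G) * z)))
        (fun b : H => ω * χ b) (fun b => by
          show _ = ω * χ ((b : G) * a)
          rw [← hω, mul_assoc]), ← Finset.mul_sum, hcsum, hcardHN]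
      field_simp
    rw [h2, map_mul, Complex.normSq_natCast, Complex.normSq_eq_norm_sq, hω1]
    ring
  let S : ℝ := ∑ n : N, if Wit H n then Complex.normSq (f n) else 0
  have hsplit : ∑ n : N, Complex.normSq (f n) =
      ∑ n : N, Complex.normSq (β n) + ∑ n : N, Complex.normSq (α n) := by
    have h1 : ∑ n : N, f n * (starRingEnd ℂ) (α n) = ∑ n : N, α n * (starRingEnd ℂ) (α n) :=
      (Average.sum_avg_mul HN f (fun n => (starRingEnd ℂ) (α n))
        (fun m n => by simp only [α, Average.avg_mul_left])).symm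
    have h2 : ∀ n : N, Complex.normSq (f n) = Complex.normSq (β n) +
        (2 * (f n * (starRingEnd ℂ) (α n)).re - Complex.normSq (α n)) := fun n => by
      simp only [β, Pi.sub_apply, Complex.normSq_sub]; ring
    rw [Finset.sum_congr rfl fun n _ => h2 n, Finset.sum_add_distrib, Finset.sum_sub_distrib,
      ← Finset.mul_sum, ← Complex.re_sum, h1, Complex.re_sum]
    simp only [Complex.mul_conj, Complex.ofReal_re]
    ring
  have hβ : (Nat.card N : ℝ) ≤ ∑ n : N, Complex.normSq (β n) := by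
    obtain ⟨k, hk⟩ := classInner_gen_int (θ := β) (θ' := β)
      (isGen_sub (isGen_of_isCharacter hf) (isGen_of_isCharacter hα))
      (isGen_sub (isGen_of_isCharacter hf) (isGen_of_isCharacter hα))
    have hsum : (∑ n : N, Complex.normSq (β n)) = (Nat.card N : ℝ) * k := by
      have h3 : Cfsg.classInner β β =
          (Nat.card N : ℂ)⁻¹ * ((∑ n : N, Complex.normSq (β n) : ℝ) : ℂ) := by
        rw [classInner_def, Complex.ofReal_sum]
        exact congrArg _ (Finset.sum_congr rfl fun n _ => Complex.mul_conj _)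
      rw [hk] at h3
      have h4 : ((∑ n : N, Complex.normSq (β n) : ℝ) : ℂ) = (Nat.card N : ℂ) * (k : ℂ) := by
        rw [h3, mul_inv_cancel_left₀ natCard_ne_zero]
      exact_mod_cast h4
    have hcd : f 1 ≠ α 1 := by
      intro h
      apply hne
      have h2 : α (1 : N) = (c : ℂ) := by
        show (Nat.card HN : ℂ)⁻¹ * ∑ m : HN, χ (((m : N) * 1 : N) : G) = _
        rw [Fintype.sum_equiv e (fun m : HN => χ (((m : N) * 1 : N) : G)) (fun b : H => χ b)
          (fun m => by rw [mul_one]; rfl), hcsum, hcardHN]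
        field_simp
      rw [h2] at h
      change χ (1 : G) = (c : ℂ) at h
      -- `c = χ 1` forces `H` into the kernel
      have h5 : ∑ a : H, (χ 1 - χ a).re = 0 := by
        rw [← Complex.re_sum, Finset.sum_sub_distrib, hcsum, ← h]
        simp [Nat.card_eq_fintype_card]
      have h6 : ∀ a : H, 0 ≤ (χ 1 - χ a).re := fun a => by
        have h7 := char_norm_le hχc (a : G)
        rw [hd, Complex.norm_natCast] at h7
        rw [Complex.sub_re, hd, Complex.natCast_re, sub_nonneg]
        exact (Complex.re_le_norm _).trans h7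
      have h8 := (Finset.sum_eq_zero_iff_of_nonneg fun a _ => h6 a).1 h5 ⟨h₀, hh₀⟩ (Finset.mem_univ _)
      have h9 := char_norm_le hχc h₀
      rw [hd, Complex.norm_natCast] at h9
      rw [Complex.sub_re, hd, Complex.natCast_re, sub_eq_zero] at h8
      have h10 : (χ h₀).im = 0 := by
        have h11 := Complex.normSq_apply (χ h₀)
        rw [Complex.normSq_eq_norm_sq] at h11
        have h12 : ‖χ h₀‖ ^ 2 ≤ (d : ℝ) ^ 2 := pow_le_pow_left₀ (norm_nonneg _) h9 2
        have h13 : (χ h₀).re = (d : ℝ) := h8.symm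
        rw [h13] at h11
        nlinarith [mul_self_nonneg (χ h₀).im]
      rw [hd]
      exact Complex.ext (by rw [← h8, Complex.natCast_re]) (by rw [h10, Complex.natCast_im])
    have hk0 : (0 : ℝ) < k := by
      have h2 : 0 < ∑ n : N, Complex.normSq (β n) :=
        Finset.sum_pos' (fun n _ => Complex.normSq_nonneg _)
          ⟨1, Finset.mem_univ _, Complex.normSq_pos.2 (sub_ne_zero.2 hcd)⟩
      rw [hsum] at h2
      exact pos_of_mul_pos_right h2 (Nat.cast_nonneg _)
    have hk1 : (1 : ℝ) ≤ k := by exact_mod_cast (show (0 : ℤ) < k by exact_mod_cast hk0)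
    rw [hsum]
    exact le_mul_of_one_le_right (Nat.cast_nonneg _) hk1
  have hS : (Nat.card N : ℝ) + (Nat.card H : ℝ) * Nat.card (Subgroup.center G) * (c : ℝ) ^ 2 ≤ S := by
    have hαW : (Nat.card H : ℝ) * Nat.card (Subgroup.center G) * (c : ℝ) ^ 2 ≤
        ∑ n : N, if Wit H n then Complex.normSq (α n) else 0 := by
      let φ : H × Subgroup.center G → N := fun p => ⟨(p.1 : G) * p.2,
        N.mul_mem (hHN p.1.2) (Subgroup.center_le_normalizer _ p.2.2)⟩
      have hφ : Function.Injective φ := by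
        intro p q h
        have h' : (p.1 : G) * p.2 = q.1 * q.2 := congrArg Subtype.val h
        have hm : (q.1 : G)⁻¹ * p.1 ∈ H ⊓ Subgroup.center G := by
          refine ⟨H.mul_mem (H.inv_mem q.1.2) p.1.2, ?_⟩
          rw [show (q.1 : G)⁻¹ * p.1 = (q.2 : G) * (p.2 : G)⁻¹ by
            rw [eq_mul_inv_iff_mul_eq, mul_assoc, h', inv_mul_cancel_left]]
          exact (Subgroup.center G).mul_mem q.2.2 ((Subgroup.center G).inv_mem p.2.2)
        rw [hZ, Subgroup.mem_bot, inv_mul_eq_one] at hm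
        rw [← hm] at h'
        exact Prod.ext (Subtype.ext hm.symm) (Subtype.ext (mul_left_cancel h'))
      calc (Nat.card H : ℝ) * Nat.card (Subgroup.center G) * (c : ℝ) ^ 2
          = ∑ p : H × Subgroup.center G, if Wit H (φ p) then Complex.normSq (α (φ p)) else 0 := by
            rw [Finset.sum_congr rfl (g := fun _ => (c : ℝ) ^ 2) fun p _ => by
              rw [if_pos]
              · exact hαz p.1 p.2 _
              · refine ⟨h₀, hh₀, hh₀1, ?_⟩
                show h₀ * ((p.1 : G) * p.2) = (p.1 : G) * p.2 * h₀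
                rw [mul_assoc, ← Subgroup.mem_center_iff.1 p.2.2 h₀, ← mul_assoc, ← mul_assoc,
                  hab _ hh₀ _ p.1.2]]
            rw [Finset.sum_const, Finset.card_univ, Fintype.card_prod, nsmul_eq_mul,
              Nat.card_eq_fintype_card, Nat.card_eq_fintype_card]
            push_cast; ring
        _ = ∑ n ∈ Finset.univ.image φ, if Wit H n then Complex.normSq (α n) else 0 :=
            (Finset.sum_image (fun p _ q _ h => hφ h)
              (f := fun n : N => if Wit H n then Complex.normSq (α n) else 0)).symm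
        _ ≤ _ := Finset.sum_le_sum_of_subset_of_nonneg (Finset.subset_univ _) fun n _ _ => by
            split_ifs
            exacts [Complex.normSq_nonneg _, le_rfl]
    have h1 : S = ∑ n : N, Complex.normSq (β n) +
        ∑ n : N, (if Wit H n then Complex.normSq (α n) else 0) := by
      have h2 : ∀ n : N, (if Wit H n then Complex.normSq (f n) else 0) =
          Complex.normSq (f n) - Complex.normSq (α n) +
            (if Wit H n then Complex.normSq (α n) else 0) := fun n => by
        split_ifs with hW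
        · ring
        · rw [hoff n hW]; ring
      show (∑ n : N, if Wit H n then Complex.normSq (f n) else 0) = _
      rw [Finset.sum_congr rfl fun n _ => h2 n, Finset.sum_add_distrib, Finset.sum_sub_distrib,
        hsplit]
      ring
    rw [h1]
    exact add_le_add hβ hαW
  -- global count
  let P : G → ℝ := fun g => if Wit H g ∧ g ∉ Subgroup.center G then Complex.normSq (χ g) else 0
  have hzc : ∀ z ∈ Subgroup.center G, Complex.normSq (χ z) = (d : ℝ) ^ 2 := by
    intro z hz
    obtain ⟨ω, hω⟩ := Extraspecial.central_scalar hχ hz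
    have h1 := hω 1
    rw [one_mul] at h1
    have h2 := hω z⁻¹
    rw [inv_mul_cancel, char_inv hχc, h1] at h2
    rw [h1, Complex.normSq_mul, hd, Complex.normSq_natCast]
    have h3 : (1 : ℂ) = ω * (starRingEnd ℂ) ω := by
      refine mul_right_cancel₀ (irr_one_ne_zero hχ) ?_
      rw [one_mul]
      nth_rewrite 1 [h2]
      rw [map_mul, hd, map_natCast]; ring
    rw [Complex.mul_conj] at h3
    have h4 : Complex.normSq ω = 1 := by exact_mod_cast h3.symm
    rw [h4]; ring
  have hPsum : S = (∑ g : G, P g) + Nat.card (Subgroup.center G) * (d : ℝ) ^ 2 := by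
    have h1 : S = ∑ g : G, if Wit H g then Complex.normSq (χ g) else 0 := by
      refine Finset.sum_of_injOn (fun n : N => (n : G)) (Subtype.val_injective.injOn)
        (fun n _ => Finset.mem_univ _) (fun g _ hg => ?_) (fun n _ => rfl)
      rw [if_neg]
      exact fun hW => hg ⟨⟨g, wit_mem_normalizer hab hZ hone hW⟩, Finset.mem_univ _, rfl⟩
    have h2 : ∀ g : G, (if Wit H g then Complex.normSq (χ g) else 0) =
        P g + (if g ∈ Subgroup.center G then (d : ℝ) ^ 2 else 0) := fun g => by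
      by_cases hz : g ∈ Subgroup.center G
      · rw [if_pos hz, if_pos ⟨h₀, hh₀, hh₀1, Subgroup.mem_center_iff.1 hz h₀⟩, hzc g hz]
        simp [P, hz]
      · rw [if_neg hz, add_zero]
        simp [P, hz]
    rw [h1, Finset.sum_congr rfl fun g _ => h2 g, Finset.sum_add_distrib]
    congr 1
    rw [← Finset.sum_filter, Finset.sum_const, nsmul_eq_mul, ← Fintype.card_subtype,
      ← Nat.card_eq_fintype_card]
  have hG : ∑ g : G, Complex.normSq (χ g) = (Nat.card G : ℝ) := by
    have h1 := classInner_isIrr_self hχ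
    rw [classInner_def, inv_mul_eq_iff_eq_mul₀ natCard_ne_zero, mul_one] at h1
    simp only [Complex.mul_conj] at h1
    exact_mod_cast h1
  have hglob : (Nat.card G : ℝ) * (∑ g : G, P g) ≤ (Nat.card N : ℝ) *
      ((Nat.card G : ℝ) - Nat.card (Subgroup.center G) * (d : ℝ) ^ 2) := by
    have h1 : ∀ x : G, ∑ g : G, P (x⁻¹ * g * x) = ∑ g : G, P g := fun x =>
      Fintype.sum_equiv (MulAut.conj x⁻¹).toEquiv _ _ fun g => by simp
    have h2 : ∀ g : G, ∑ x : G, P (x⁻¹ * g * x) ≤
        (Nat.card N : ℝ) * (if g ∈ Subgroup.center G then 0 else Complex.normSq (χ g)) := by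
      intro g
      by_cases hz : g ∈ Subgroup.center G
      · rw [if_pos hz, mul_zero]
        refine le_of_eq (Finset.sum_eq_zero fun x _ => ?_)
        simp only [P]
        rw [if_neg]
        rintro ⟨-, hh⟩
        exact hh (by
          rw [mul_assoc, ← Subgroup.mem_center_iff.1 hz x, inv_mul_cancel_left]; exact hz)
      · rw [if_neg hz]
        have h3 : ∀ x : G, P (x⁻¹ * g * x) ≤
            if Wit H (x⁻¹ * g * x) then Complex.normSq (χ g) else 0 := fun x => by
          have hv : χ (x⁻¹ * g * x) = χ g := by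
            simpa using char_isClassFunction hχc g x⁻¹
          simp only [P, hv]
          split_ifs with hA hB hB
          · exact le_rfl
          · exact absurd hA.1 hB
          · exact Complex.normSq_nonneg _
          · exact le_rfl
        refine (Finset.sum_le_sum fun x _ => h3 x).trans ?_
        rw [← Finset.sum_filter, Finset.sum_const, nsmul_eq_mul, ← Fintype.card_subtype,
          ← Nat.card_eq_fintype_card]
        exact mul_le_mul_of_nonneg_right (by exact_mod_cast wit_ncard_le hZ hone hz)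
          (Complex.normSq_nonneg _)
    calc (Nat.card G : ℝ) * (∑ g : G, P g) = ∑ x : G, ∑ g : G, P (x⁻¹ * g * x) := by
          rw [Finset.sum_congr rfl fun x _ => h1 x, Finset.sum_const, Finset.card_univ,
            nsmul_eq_mul, Nat.card_eq_fintype_card]
      _ = ∑ g : G, ∑ x : G, P (x⁻¹ * g * x) := Finset.sum_comm
      _ ≤ ∑ g : G, (Nat.card N : ℝ) *
          (if g ∈ Subgroup.center G then 0 else Complex.normSq (χ g)) :=
            Finset.sum_le_sum fun g _ => h2 g
      _ = _ := by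
          rw [← Finset.mul_sum, ← hG]
          congr 1
          have h4 : ∀ g : G, (if g ∈ Subgroup.center G then 0 else Complex.normSq (χ g)) =
              Complex.normSq (χ g) - (if g ∈ Subgroup.center G then (d : ℝ) ^ 2 else 0) := fun g => by
            split_ifs with hz
            · rw [hzc g hz, sub_self]
            · rw [sub_zero]
          rw [Finset.sum_congr rfl fun g _ => h4 g, Finset.sum_sub_distrib, ← Finset.sum_filter,
            Finset.sum_const, nsmul_eq_mul, ← Fintype.card_subtype, ← Nat.card_eq_fintype_card]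
  have hGpos : (0 : ℝ) < Nat.card G := by exact_mod_cast Nat.card_pos
  have hNpos : (0 : ℝ) < Nat.card N := by exact_mod_cast Nat.card_pos
  have hZpos : (0 : ℝ) < Nat.card (Subgroup.center G) := by exact_mod_cast Nat.card_pos
  have hdpos : (0 : ℝ) < (d : ℝ) ^ 2 := by positivity
  by_contra hle
  push Not at hle
  nlinarith [mul_le_mul_of_nonneg_left hS hGpos.le,
    mul_pos (mul_pos hNpos hZpos) hdpos,
    mul_le_mul_of_nonneg_left hle (mul_pos hGpos hZpos).le]

omit hab hZ hone in
theorem degree_le_norm [Fintype H] (hab : ∀ a ∈ H, ∀ b ∈ H, a * b = b * a) {χ : G → ℂ}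
    (hχ : Cfsg.IsCharacter G χ) :
    (χ 1).re ≤ (Cfsg.classInner (fun h : H => χ h) (fun h : H => χ h)).re := by
  classical
  haveI := Fintype.ofFinite (Cfsg.IrrCharacter H)
  obtain ⟨n, hn⟩ := char_eq_sum_nat (isCharacter_restrict H hχ)
  have h1 : ∀ ψ : Cfsg.IrrCharacter H, (ψ : H → ℂ) 1 = 1 := fun ψ =>
    irr_degree_one_of_comm (fun a b => Subtype.ext (hab a a.2 b b.2)) ψ.2
  have h2 : χ 1 = ∑ ψ : Cfsg.IrrCharacter H, (n ψ : ℂ) := by
    have := congrFun hn 1
    simpa [h1] using this
  have h3 : Cfsg.classInner (fun h : H => χ h) (fun h : H => χ h) =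
      ∑ ψ : Cfsg.IrrCharacter H, (n ψ : ℂ) * (n ψ : ℂ) := by
    rw [hn]
    nth_rewrite 2 [show (∑ ψ : Cfsg.IrrCharacter H, (n ψ : ℂ) • (ψ : H → ℂ)) =
      ∑ ψ : Cfsg.IrrCharacter H, (n ψ : ℂ) • (ψ : H → ℂ) from rfl]
    rw [classInner_sum_right]
    refine Finset.sum_congr rfl fun ψ _ => ?_
    rw [classInner_smul_right, map_natCast, classInner_sum_smul_irr, if_pos (Finset.mem_univ _)]
  rw [h2, h3, Complex.re_sum, Complex.re_sum]
  refine Finset.sum_le_sum fun ψ _ => ?_
  rw [← Nat.cast_mul, Complex.natCast_re, Complex.natCast_re]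
  exact_mod_cast Nat.le_mul_self (n ψ)

/-- The second inequality. -/
theorem one_add_sq_gt [Fintype H] {χ : G → ℂ} (hχ : Cfsg.IsIrrCharacter G χ)
    (h1 : χ 1 ≠ 1) (hgen : ∀ M : Subgroup G, M.Normal → H ≤ M → M = ⊤) :
    (1 + (χ 1).re) ^ 2 > (Nat.card H : ℝ) := by
  classical
  haveI := Fintype.ofFinite (Cfsg.IrrCharacter G)
  have hχc := isCharacter_of_isIrr hχ
  obtain ⟨d, hd0, hd⟩ := irr_one_pos hχ
  have hd2 : (2 : ℝ) ≤ d := by
    have : d ≠ 1 := fun h => h1 (by rw [hd, h, Nat.cast_one])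
    exact_mod_cast (show 2 ≤ d by omega)
  let Φ : G → ℂ := χ * fun g => (starRingEnd ℂ) (χ g)
  obtain ⟨m, hm⟩ := char_eq_sum_nat (χ := Φ) (isCharacter_mul hχc (isCharacter_conj hχc))
  set s : ℝ := Real.sqrt (Nat.card H) with hs
  let c : Cfsg.IrrCharacter G → ℝ := fun ψ =>
    (Cfsg.classInner (fun h : H => (ψ : G → ℂ) h) (fun _ => 1)).re
  have hm1 : m (trivIrr G) = 1 := by
    have h2 : Cfsg.classInner Φ ((trivIrr G : Cfsg.IrrCharacter G) : G → ℂ) = m (trivIrr G) := by
      rw [hm, classInner_sum_smul_irr, if_pos (Finset.mem_univ _)]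
    have h3 : Cfsg.classInner Φ (fun _ => (1 : ℂ)) = Cfsg.classInner χ χ := by
      simp [classInner_def, Φ]
    rw [trivIrr_coe, h3, classInner_isIrr_self hχ] at h2
    exact_mod_cast h2.symm
  have hterm : ∀ ψ : Cfsg.IrrCharacter G, ψ ≠ trivIrr G →
      s * c ψ < ((ψ : G → ℂ) 1).re := by
    intro ψ hψ
    have hker : ∃ h ∈ H, (ψ : G → ℂ) h ≠ (ψ : G → ℂ) 1 := by
      by_contra hno
      push Not at hno
      have htop := hgen (charKernel (ψ : G → ℂ) (irr_isCharacter ψ)) (charKernel_normal _)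
        fun h hh => hno h hh
      have hconst : ∀ g : G, (ψ : G → ℂ) g = (ψ : G → ℂ) 1 := fun g =>
        (mem_charKernel (h := irr_isCharacter ψ)).1 (htop ▸ Subgroup.mem_top g)
      have h0 := classInner_isIrr_ne ψ.2 (isIrrCharacter_one (G := G))
        fun h => hψ (Subtype.ext h)
      rw [classInner_def] at h0
      simp only [hconst, map_one, mul_one, Finset.sum_const, Finset.card_univ, nsmul_eq_mul,
        ← Nat.card_eq_fintype_card] at h0
      rw [inv_mul_cancel_left₀ natCard_ne_zero] at h0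
      exact irr_one_ne_zero ψ.2 h0
    have h2 := sq_gt hab hZ hone ψ.2 hker
    have h3 : 0 ≤ ((ψ : G → ℂ) 1).re := by
      obtain ⟨k, -, hk⟩ := irr_one_pos ψ.2
      rw [hk, Complex.natCast_re]; positivity
    have h4 : (s * c ψ) ^ 2 < ((ψ : G → ℂ) 1).re ^ 2 := by
      rw [mul_pow, hs, Real.sq_sqrt (Nat.cast_nonneg _)]; exact h2
    exact (abs_lt_of_sq_lt_sq h4 h3).trans_le' (le_abs_self _)
  have hdeg : ∑ ψ : Cfsg.IrrCharacter G, (m ψ : ℝ) * ((ψ : G → ℂ) 1).re = (d : ℝ) ^ 2 := by
    have h2 := congrArg Complex.re (congrFun hm 1)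
    simp only [Φ, Pi.mul_apply, hd, map_natCast, Finset.sum_apply, Pi.smul_apply, smul_eq_mul,
      Complex.re_sum, Complex.mul_re, Complex.natCast_re, Complex.natCast_im, zero_mul, sub_zero] at h2
    rw [sq, h2]
  have hfix : ∑ ψ : Cfsg.IrrCharacter G, (m ψ : ℝ) * c ψ =
      (Cfsg.classInner (fun h : H => χ h) (fun h : H => χ h)).re := by
    have h2 : Cfsg.classInner (fun h : H => Φ h) (fun _ => 1) =
        Cfsg.classInner (fun h : H => χ h) (fun h : H => χ h) := by
      simp [classInner_def, Φ]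
    have h3 : (fun h : H => Φ h) =
        ∑ ψ : Cfsg.IrrCharacter G, (m ψ : ℂ) • (fun h : H => (ψ : G → ℂ) h) := by
      funext h
      simp [hm, Finset.sum_apply]
    rw [← h2, h3, classInner_sum_left, Complex.re_sum]
    refine Finset.sum_congr rfl fun ψ _ => ?_
    rw [classInner_smul_left, Complex.mul_re, Complex.natCast_re, Complex.natCast_im, zero_mul,
      sub_zero]
  have hM := degree_le_norm hab hχc (H := H)
  rw [hd, Complex.natCast_re, ← hfix] at hM
  have hcT : c (trivIrr G) = 1 := by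
    simp [c, classInner_def]
  have hposterm : ∃ ψ ∈ (Finset.univ : Finset (Cfsg.IrrCharacter G)).erase (trivIrr G), m ψ ≠ 0 := by
    by_contra hno
    push Not at hno
    rw [← Finset.add_sum_erase _ _ (Finset.mem_univ (trivIrr G)), hm1,
      Finset.sum_eq_zero (fun ψ hψ => by rw [hno ψ hψ, Nat.cast_zero, zero_mul]), trivIrr_coe,
      Complex.one_re] at hdeg
    push_cast at hdeg
    nlinarith
  have hrest : (0 : ℝ) < ∑ ψ ∈ (Finset.univ : Finset (Cfsg.IrrCharacter G)).erase (trivIrr G),
      (m ψ : ℝ) * (((ψ : G → ℂ) 1).re - s * c ψ) := by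
    obtain ⟨ψ₀, hψ₀, hm₀⟩ := hposterm
    refine Finset.sum_pos' (fun ψ hψ => mul_nonneg (Nat.cast_nonneg _)
      (sub_nonneg.2 (hterm ψ (Finset.ne_of_mem_erase hψ)).le)) ⟨ψ₀, hψ₀, ?_⟩
    exact mul_pos (by exact_mod_cast Nat.pos_of_ne_zero hm₀)
      (sub_pos.2 (hterm ψ₀ (Finset.ne_of_mem_erase hψ₀)))
  have htot : ∑ ψ : Cfsg.IrrCharacter G, (m ψ : ℝ) * (((ψ : G → ℂ) 1).re - s * c ψ) =
      (d : ℝ) ^ 2 - s * ∑ ψ : Cfsg.IrrCharacter G, (m ψ : ℝ) * c ψ := by
    rw [← hdeg, Finset.mul_sum, ← Finset.sum_sub_distrib]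
    exact Finset.sum_congr rfl fun ψ _ => by ring
  rw [← Finset.add_sum_erase _ _ (Finset.mem_univ (trivIrr G)), hm1, hcT, trivIrr_coe,
    Complex.one_re] at htot
  have hs0 : 0 ≤ s := Real.sqrt_nonneg _
  have hlt : s < (d : ℝ) + 1 := by
    by_contra hge
    push Not at hge
    push_cast at htot
    nlinarith [mul_le_mul_of_nonneg_left hM hs0,
      mul_le_mul_of_nonneg_right hge (show (0 : ℝ) ≤ (d : ℝ) - 1 by linarith)]
  rw [hd, Complex.natCast_re, ← Real.sq_sqrt (Nat.cast_nonneg (Nat.card H) : (0 : ℝ) ≤ _), ← hs]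
  nlinarith

end Cfsg.Agent.CharTheory.OneConjugate
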