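import Mathlib
import Cfsg.Agent.Lib.CharTheory.OneConjugate
import Cfsg.Agent.Lib.CharTheory.Ito
import Cfsg.Agent.Lib.Characters.Counting
import Cfsg.Agent.Lib.Characters.Schur
import Cfsg.Agent.S0185

/-!
A faithful representation of small degree compared to a prime forces a normal Sylow subgroup.
-/

set_option autoImplicit false
set_option linter.unusedSectionVars false

namespace Cfsg.Agent.CharTheory.SmallDegreeSylow

open Cfsg.Agent.Characters
open Cfsg.Agent.CharTheory
open scoped commutatorElement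

universe u

section Split

variable {G : Type u} [Group G] [Fintype G] {p : ℕ} [hp : Fact p.Prime] {x : G} {K : Subgroup G}
  [K.Normal]

/-- The hypotheses on a cyclic Sylow subgroup with normal complement. -/
structure Split (p : ℕ) (x : G) (K : Subgroup G) : Prop where
  gen : ∀ g : G, ∃ i : ℕ, ∃ k ∈ K, g = x ^ i * k
  pow : ∃ e : ℕ, orderOf x = p ^ e
  coprime : ¬ p ∣ Nat.card K
  central : x ^ p ∈ Subgroup.center G
  notCentral : x ∉ Subgroup.center G
  sylow : ∀ y : G, y ^ orderOf x = 1 → ∃ t ∈ K, ∃ i : ℕ, y = t * x ^ i * t⁻¹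

variable (hs : Split p x K)
include hs

theorem dvd_orderOf : p ∣ orderOf x := by
  obtain ⟨e, he⟩ := hs.pow
  rcases Nat.eq_zero_or_pos e with rfl | hpos
  · rw [pow_zero, orderOf_eq_one_iff] at he
    exact absurd (he ▸ one_mem _) hs.notCentral
  · exact he ▸ dvd_pow_self p hpos.ne'

theorem eq_one_of_mem_K {i : ℕ} (h : x ^ i ∈ K) : x ^ i = 1 := by
  obtain ⟨e, he⟩ := hs.pow
  rw [← orderOf_eq_one_iff]
  refine Nat.eq_one_of_dvd_coprimes ?_ (orderOf_pow_dvd i) (Subgroup.orderOf_dvd_natCard _ h)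
  rw [he]
  exact Nat.Coprime.pow_left e (hp.out.coprime_iff_not_dvd.2 hs.coprime)

theorem unique {i j : ℕ} {k k' : G} (hk : k ∈ K) (hk' : k' ∈ K) (h : x ^ i * k = x ^ j * k') :
    i % orderOf x = j % orderOf x ∧ k = k' := by
  have hpos : 0 < orderOf x := orderOf_pos x
  obtain ⟨m, hm⟩ : ∃ m : ℕ, x ^ m = (x ^ j)⁻¹ * x ^ i :=
    ⟨i + (orderOf x - j % orderOf x), by
      rw [eq_inv_mul_iff_mul_eq, ← pow_add, pow_eq_pow_iff_modEq, Nat.ModEq]
      have h1 := Nat.mod_lt j hpos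
      have h2 := Nat.div_add_mod j (orderOf x)
      rw [show j + (i + (orderOf x - j % orderOf x)) = i + orderOf x * (j / orderOf x + 1) by
        rw [Nat.mul_add, mul_one]; omega, Nat.add_mul_mod_self_left]⟩
  have h1 : (x ^ j)⁻¹ * x ^ i = k' * k⁻¹ := by
    rw [eq_mul_inv_iff_mul_eq, mul_assoc, h, inv_mul_cancel_left]
  have h2 := eq_one_of_mem_K hs (i := m) (by rw [hm, h1]; exact mul_mem hk' (inv_mem hk))
  rw [hm] at h2
  refine ⟨pow_eq_pow_iff_modEq.1 (inv_mul_eq_one.1 h2).symm, ?_⟩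
  rw [h2] at h1
  exact (mul_inv_eq_one.1 h1.symm).symm

theorem p_dvd_iff {i j : ℕ} (h : i % orderOf x = j % orderOf x) : p ∣ i ↔ p ∣ j := by
  have h' : i ≡ j [MOD p] := Nat.ModEq.of_dvd (dvd_orderOf hs) h
  exact ⟨fun hd => (Nat.ModEq.dvd_iff h' dvd_rfl).1 hd, fun hd => (Nat.ModEq.dvd_iff h' dvd_rfl).2 hd⟩

theorem commute_of_pow {i : ℕ} (hi : ¬ p ∣ i) {u : G} (h : u * x ^ i = x ^ i * u) :
    u * x = x * u := by
  obtain ⟨e, he⟩ := hs.pow
  have hcop : Nat.Coprime i (orderOf x) :=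
    he ▸ Nat.Coprime.pow_right e (hp.out.coprime_iff_not_dvd.2 hi).symm
  obtain ⟨m, -, hm⟩ := Nat.exists_mul_mod_eq_one_of_coprime hcop (by
    have := dvd_orderOf hs
    have h2 := hp.out.two_le
    have h3 := Nat.le_of_dvd (orderOf_pos x) this
    omega)
  have hx : x = (x ^ i) ^ m := by
    rw [← pow_mul, ← pow_mod_orderOf, hm, pow_one]
  rw [hx]
  exact (show Commute u (x ^ i) from h).pow_right m

/-- `|χ|²` is constant along central powers. -/
theorem normSq_pow {χ : G → ℂ} (hχ : Cfsg.IsIrrCharacter G χ) {i : ℕ} (hi : p ∣ i) (g : G) :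
    Complex.normSq (χ (x ^ i * g)) = Complex.normSq (χ g) := by
  obtain ⟨m, rfl⟩ := hi
  rw [pow_mul]
  have hz := (Subgroup.center G).pow_mem hs.central m
  obtain ⟨ω, hω⟩ := Extraspecial.central_scalar hχ hz
  rw [← Subgroup.mem_center_iff.1 hz g, hω, map_mul]
  have hω1 : ‖ω‖ = 1 := by
    refine Complex.norm_eq_one_of_pow_eq_one (n := orderOf ((x ^ p) ^ m)) ?_ (orderOf_pos _).ne'
    have hpw : ∀ k : ℕ, χ (((x ^ p) ^ m) ^ k) = ω ^ k * χ 1 := by
      intro k
      induction k with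
      | zero => simp
      | succ k ih => rw [pow_succ, hω, ih, pow_succ]; ring
    have h1 := hpw (orderOf ((x ^ p) ^ m))
    rw [pow_orderOf_eq_one] at h1
    exact mul_right_cancel₀ (irr_one_ne_zero hχ) (h1.symm.trans (one_mul _).symm)
  rw [Complex.normSq_eq_norm_sq ω, hω1, one_pow, one_mul]

/-- The sum over a subgroup `⟨x⟩ C`. -/
theorem sum_split (N C : Subgroup G) [Fintype N] [Fintype C] (hxN : x ∈ N) (hCK : C ≤ K)
    (hCN : C ≤ N) (hdec : ∀ n ∈ N, ∃ i : ℕ, ∃ c ∈ C, n = x ^ i * c) (F : G → ℝ) :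
    ∑ n : N, F n = ∑ i : Fin (orderOf x), ∑ c : C, F (x ^ (i : ℕ) * c) := by
  rw [← Fintype.sum_prod_type']
  let φ : Fin (orderOf x) × C → N := fun q => ⟨x ^ (q.1 : ℕ) * q.2,
    N.mul_mem (N.pow_mem hxN _) (hCN q.2.2)⟩
  refine (Fintype.sum_bijective φ ⟨?_, ?_⟩ _ (fun n : N => F n) fun q => rfl).symm
  · rintro ⟨i, c⟩ ⟨j, c'⟩ h
    obtain ⟨h1, h2⟩ := unique hs (hCK c.2) (hCK c'.2) (congrArg Subtype.val h)
    rw [Nat.mod_eq_of_lt i.2, Nat.mod_eq_of_lt j.2] at h1
    exact Prod.ext (Fin.ext h1) (Subtype.ext h2)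
  · rintro ⟨n, hn⟩
    obtain ⟨i, c, hc, rfl⟩ := hdec n hn
    exact ⟨(⟨i % orderOf x, Nat.mod_lt _ (orderOf_pos x)⟩, ⟨c, hc⟩),
      Subtype.ext (by simp [φ, pow_mod_orderOf])⟩

/-- The centralizer part. -/
abbrev cpart (x : G) (K : Subgroup G) : Subgroup G := Subgroup.centralizer ({x} : Set G) ⊓ K

theorem centralizer_decomp {n : G} (hn : n ∈ Subgroup.centralizer ({x} : Set G)) :
    ∃ i : ℕ, ∃ c ∈ cpart x K, n = x ^ i * c := by
  obtain ⟨i, k, hk, rfl⟩ := hs.gen n
  refine ⟨i, k, ⟨?_, hk⟩, rfl⟩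
  have h1 : x ^ i ∈ Subgroup.centralizer ({x} : Set G) :=
    pow_mem (Subgroup.mem_centralizer_singleton_iff.2 rfl) i
  simpa using mul_mem (inv_mem h1) hn

/-- Transport of the sums off the central part to the centralizer of `x`. -/
theorem sum_off {F : G → ℝ} (hF : ∀ a g : G, F (a * g * a⁻¹) = F g)
    [Fintype K] [Fintype (cpart x K)] :
    (Nat.card K : ℝ) * ∑ i ∈ (Finset.univ : Finset (Fin (orderOf x))).filter (fun i : Fin (orderOf x) => ¬ p ∣ (i : ℕ)),
        ∑ c : cpart x K, F (x ^ (i : ℕ) * c) =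
      (Nat.card (cpart x K) : ℝ) *
        ∑ i ∈ (Finset.univ : Finset (Fin (orderOf x))).filter (fun i : Fin (orderOf x) => ¬ p ∣ (i : ℕ)),
          ∑ k : K, F (x ^ (i : ℕ) * k) := by
  classical
  let C := cpart x K
  let I := {i : Fin (orderOf x) // ¬ p ∣ (i : ℕ)}
  have hpos := orderOf_pos x
  have hex : ∀ q : I × K, ∃ t : K, ∃ i : I, ∃ c : C,
      x ^ ((q.1.1 : Fin (orderOf x)) : ℕ) * (q.2 : G) = t * (x ^ (i.1 : ℕ) * c) * (t : G)⁻¹ := by
    rintro ⟨⟨j, hj⟩, k⟩
    set g := x ^ (j : ℕ) * (k : G)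
    have hgpow : ∀ m : ℕ, ∃ k' ∈ K, g ^ m = x ^ ((j : ℕ) * m) * k' := by
      intro m
      induction m with
      | zero => exact ⟨1, one_mem _, by simp⟩
      | succ m ih =>
        obtain ⟨k', hk', he⟩ := ih
        refine ⟨(x ^ (j : ℕ))⁻¹ * k' * x ^ (j : ℕ) * k, mul_mem ?_ k.2, ?_⟩
        · simpa using (inferInstance : K.Normal).conj_mem k' hk' (x ^ (j : ℕ))⁻¹
        · rw [pow_succ, he, Nat.mul_succ, pow_add]
          simp only [g]; group
    obtain ⟨k', hk', hgK⟩ := hgpow (Nat.card K)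
    have hy : (g ^ Nat.card K) ^ orderOf x = 1 := by
      have hG : Nat.card G ∣ Nat.card K * orderOf x := by
        refine dvd_of_eq ?_
        have h1 := sum_split hs ⊤ K (Subgroup.mem_top x) le_rfl le_top
          (fun n _ => hs.gen n) (fun _ => (1 : ℝ))
        simp only [Finset.sum_const, Finset.card_univ, nsmul_eq_mul, mul_one, Fintype.card_fin,
          ← Nat.card_eq_fintype_card, Subgroup.card_top, Nat.card_fin] at h1
        rw [mul_comm]
        exact_mod_cast h1
      rw [← pow_mul]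
      exact orderOf_dvd_iff_pow_eq_one.1 ((orderOf_dvd_natCard g).trans hG)
    obtain ⟨t, ht, m, htm⟩ := hs.sylow _ hy
    have hm : ¬ p ∣ m := by
      have h1 : x ^ m * ((x ^ m)⁻¹ * t * x ^ m * t⁻¹) = x ^ ((j : ℕ) * Nat.card K) * k' := by
        rw [← hgK, htm]; group
      have h2 := (unique hs (mul_mem (by
        simpa using (inferInstance : K.Normal).conj_mem t ht (x ^ m)⁻¹) (inv_mem ht)) hk' h1).1
      rw [p_dvd_iff hs h2]
      exact fun h => (hp.out.dvd_mul.1 h).elim hj hs.coprime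
    have hcom : (t⁻¹ * g * t) * x ^ m = x ^ m * (t⁻¹ * g * t) := by
      have h1 : g * (t * x ^ m * t⁻¹) = (t * x ^ m * t⁻¹) * g := by
        rw [← htm]; exact (Commute.pow_right (Commute.refl g) _).eq
      calc (t⁻¹ * g * t) * x ^ m = t⁻¹ * (g * (t * x ^ m * t⁻¹)) * t := by group
        _ = t⁻¹ * ((t * x ^ m * t⁻¹) * g) * t := by rw [h1]
        _ = x ^ m * (t⁻¹ * g * t) := by group
    obtain ⟨i, c, hc, hic⟩ := centralizer_decomp hs
      (Subgroup.mem_centralizer_singleton_iff.2 (commute_of_pow hs hm hcom))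
    have hi : ¬ p ∣ i % orderOf x := by
      have h1 : x ^ (j : ℕ) * ((x ^ (j : ℕ))⁻¹ * t⁻¹ * x ^ (j : ℕ) * k * t) = x ^ i * c := by
        rw [← hic]; simp only [g]; group
      have h2 := (unique hs (mul_mem (mul_mem (by
        simpa using (inferInstance : K.Normal).conj_mem t⁻¹ (inv_mem ht) (x ^ (j : ℕ))⁻¹) k.2) ht)
        hc.2 h1).1
      rw [p_dvd_iff hs (j := i) (Nat.mod_mod _ _), ← p_dvd_iff hs h2]
      exact hj
    refine ⟨⟨t, ht⟩, ⟨⟨i % orderOf x, Nat.mod_lt _ hpos⟩, hi⟩, ⟨c, hc⟩, ?_⟩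
    show g = t * (x ^ (i % orderOf x) * c) * t⁻¹
    rw [pow_mod_orderOf, ← hic]; group
  choose t i c htc using hex
  let σ : (I × K) × C → K × I × C := fun q =>
    (⟨(t q.1 : G) * q.2, mul_mem (t q.1).2 q.2.2.2⟩, i q.1,
      ⟨(q.2 : G)⁻¹ * c q.1 * q.2, mul_mem (mul_mem (inv_mem q.2.2) (c q.1).2) q.2.2⟩)
  have hval : ∀ q : (I × K) × C,
      x ^ (q.1.1.1 : ℕ) * (q.1.2 : G) =
        ((σ q).1 : G) * (x ^ ((σ q).2.1.1 : ℕ) * (σ q).2.2) * ((σ q).1 : G)⁻¹ := by
    intro q
    rw [htc q.1]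
    have hcomm : (q.2 : G) * x ^ ((i q.1).1 : ℕ) = x ^ ((i q.1).1 : ℕ) * q.2 :=
      (show Commute (q.2 : G) x from Subgroup.mem_centralizer_singleton_iff.1 q.2.2.1).pow_right _
    show _ = (t q.1 : G) * q.2 * (x ^ ((i q.1).1 : ℕ) * ((q.2 : G)⁻¹ * c q.1 * q.2)) *
      ((t q.1 : G) * q.2)⁻¹
    calc (t q.1 : G) * (x ^ ((i q.1).1 : ℕ) * c q.1) * (t q.1 : G)⁻¹
        = (t q.1 : G) * (x ^ ((i q.1).1 : ℕ) * q.2) * (q.2 : G)⁻¹ * c q.1 * (t q.1 : G)⁻¹ := by group
      _ = (t q.1 : G) * ((q.2 : G) * x ^ ((i q.1).1 : ℕ)) * (q.2 : G)⁻¹ * c q.1 * (t q.1 : G)⁻¹ := by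
          rw [hcomm]
      _ = _ := by group
  have hσ : Function.Bijective σ := by
    rw [Fintype.bijective_iff_injective_and_card]
    refine ⟨fun q q' h => ?_, by simp only [Fintype.card_prod]; ring⟩
    have h1 : x ^ (q.1.1.1 : ℕ) * (q.1.2 : G) = x ^ (q'.1.1.1 : ℕ) * (q'.1.2 : G) := by
      rw [hval q, hval q', h]
    obtain ⟨h2, h3⟩ := unique hs q.1.2.2 q'.1.2.2 h1
    rw [Nat.mod_eq_of_lt q.1.1.1.2, Nat.mod_eq_of_lt q'.1.1.1.2] at h2
    have h4 : q.1 = q'.1 := Prod.ext (Subtype.ext (Fin.ext h2)) (Subtype.ext h3)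
    have h5 : (t q.1 : G) * q.2 = t q'.1 * q'.2 := congrArg Subtype.val (congrArg Prod.fst h)
    rw [h4] at h5
    exact Prod.ext h4 (Subtype.ext (mul_left_cancel h5))
  have hI : ∀ f : Fin (orderOf x) → ℝ,
      ∑ i ∈ (Finset.univ : Finset (Fin (orderOf x))).filter (fun i : Fin (orderOf x) => ¬ p ∣ (i : ℕ)), f i =
        ∑ i : I, f i.1 := fun f => Finset.sum_subtype _ (by simp) f
  rw [hI, hI, Nat.card_eq_fintype_card, Nat.card_eq_fintype_card]
  calc (Fintype.card K : ℝ) * ∑ i : I, ∑ c : C, F (x ^ (i.1 : ℕ) * c)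
      = ∑ q : K × I × C, F ((q.1 : G) * (x ^ (q.2.1.1 : ℕ) * q.2.2) * (q.1 : G)⁻¹) := by
        simp only [Fintype.sum_prod_type, hF, Finset.sum_const, Finset.card_univ, nsmul_eq_mul]
    _ = ∑ q : (I × K) × C, F (x ^ (q.1.1.1 : ℕ) * q.1.2) :=
        (Fintype.sum_bijective σ hσ _ _ fun q => by rw [hval q]).symm
    _ = _ := by
        simp only [Fintype.sum_prod_type, Finset.sum_const, Finset.card_univ, nsmul_eq_mul,
          ← Finset.mul_sum]
        rfl

/-- An irreducible character of degree less than `p - 1` is scalar at `x`. -/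
theorem norm_eq {χ : G → ℂ} (hχ : Cfsg.IsIrrCharacter G χ) {d : ℕ} (hd : χ 1 = d) (hdp : d + 1 < p) :
    ‖χ x‖ = (d : ℝ) := by
  classical
  let N := Subgroup.centralizer ({x} : Set G)
  let C := cpart x K
  haveI : Fintype K := Fintype.ofFinite K
  haveI : Fintype N := Fintype.ofFinite N
  haveI : Fintype C := Fintype.ofFinite C
  haveI := Fintype.ofFinite (Cfsg.IrrCharacter N)
  have hxN : x ∈ N := Subgroup.mem_centralizer_singleton_iff.2 rfl
  set o := orderOf x with ho
  have hpo := dvd_orderOf hs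
  obtain ⟨q, hq⟩ := hpo
  have hqcard : ((Finset.univ : Finset (Fin o)).filter fun i : Fin o => p ∣ (i : ℕ)).card = q := by
    rw [← Fintype.card_fin q, ← Finset.card_univ (α := Fin q)]
    refine Finset.card_nbij' (fun i => ⟨(i : ℕ) / p, ?_⟩) (fun m => ⟨p * (m : ℕ), ?_⟩) ?_ ?_ ?_ ?_
    · exact Nat.div_lt_of_lt_mul (lt_of_lt_of_eq i.2 hq)
    · exact lt_of_lt_of_eq (Nat.mul_lt_mul_of_pos_left m.2 hp.out.pos) hq.symm
    · exact fun i _ => Finset.mem_univ _
    · intro m _; simp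
    · intro i hi
      exact Fin.ext (Nat.mul_div_cancel' (Finset.mem_filter.1 hi).2)
    · intro m _
      exact Fin.ext (Nat.mul_div_cancel_left _ hp.out.pos)
  let F : G → ℝ := fun g => Complex.normSq (χ g)
  have hsplit : ∀ (S : Subgroup G) [Fintype S],
      ∑ i : Fin o, ∑ c : S, F (x ^ (i : ℕ) * c) = (q : ℝ) * ∑ c : S, F c +
        ∑ i ∈ (Finset.univ : Finset (Fin o)).filter (fun i : Fin o => ¬ p ∣ (i : ℕ)),
          ∑ c : S, F (x ^ (i : ℕ) * c) := by
    intro S _
    rw [← Finset.sum_filter_add_sum_filter_not Finset.univ (fun i : Fin o => p ∣ (i : ℕ))]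
    congr 1
    rw [Finset.sum_congr rfl (g := fun _ => ∑ c : S, F c) fun i hi => Finset.sum_congr rfl fun c _ =>
      normSq_pow hs hχ (Finset.mem_filter.1 hi).2 _, Finset.sum_const, hqcard, nsmul_eq_mul]
  set U := ∑ i ∈ (Finset.univ : Finset (Fin o)).filter (fun i : Fin o => ¬ p ∣ (i : ℕ)),
    ∑ c : C, F (x ^ (i : ℕ) * c)
  set V := ∑ i ∈ (Finset.univ : Finset (Fin o)).filter (fun i : Fin o => ¬ p ∣ (i : ℕ)),
    ∑ k : K, F (x ^ (i : ℕ) * k)
  have hUV : (Nat.card K : ℝ) * U = (Nat.card C : ℝ) * V :=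
    sum_off hs fun a g => congrArg Complex.normSq (char_isClassFunction (isCharacter_of_isIrr hχ) g a)
  have hnorm : ∀ (S : Subgroup G) [Fintype S] (r : ℕ),
      Cfsg.classInner (fun s : S => χ s) (fun s : S => χ s) = (r : ℂ) →
      ∑ s : S, F s = (Nat.card S : ℝ) * r := by
    intro S _ r hr
    rw [classInner_def, inv_mul_eq_iff_eq_mul₀ natCard_ne_zero] at hr
    simp only [Complex.mul_conj] at hr
    exact_mod_cast hr
  have hχc := isCharacter_of_isIrr hχ
  obtain ⟨M, hM⟩ := classInner_char_nat (isCharacter_restrict K hχc) (isCharacter_restrict K hχc)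
  have hM1 : 1 ≤ M := by
    by_contra h
    obtain rfl : M = 0 := by omega
    rw [Nat.cast_zero, classInner_self_eq_zero] at hM
    have := congrFun hM 1
    exact irr_one_ne_zero hχ this
  obtain ⟨c₀, hc₀⟩ := classInner_char_nat (isCharacter_restrict C hχc) (isCharacter_restrict C hχc)
  obtain ⟨n₀, hn₀⟩ := classInner_char_nat (isCharacter_restrict N hχc) (isCharacter_restrict N hχc)
  have hG : ∑ g : G, F g = (Nat.card G : ℝ) := by
    have h1 := classInner_isIrr_self hχ
    rw [classInner_def, inv_mul_eq_iff_eq_mul₀ natCard_ne_zero, mul_one] at h1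
    simp only [Complex.mul_conj] at h1
    exact_mod_cast h1
  have hGsum : (Nat.card G : ℝ) = (q : ℝ) * ((Nat.card K : ℝ) * M) + V := by
    have htop : ∑ g : (⊤ : Subgroup G), F g = ∑ g : G, F g :=
      Fintype.sum_equiv Subgroup.topEquiv.toEquiv _ _ fun g => rfl
    rw [← hG, ← htop, sum_split hs ⊤ K (Subgroup.mem_top x) le_rfl le_top (fun n _ => hs.gen n) F,
      hsplit K, hnorm K M hM]
  have hGcard : (Nat.card G : ℝ) = (o : ℝ) * Nat.card K := by
    have h1 := sum_split hs ⊤ K (Subgroup.mem_top x) le_rfl le_top (fun n _ => hs.gen n)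
      (fun _ => (1 : ℝ))
    simp only [Finset.sum_const, Finset.card_univ, nsmul_eq_mul, mul_one, Fintype.card_fin,
      ← Nat.card_eq_fintype_card, Subgroup.card_top, Nat.card_fin] at h1
    exact h1
  have hNsum : (Nat.card N : ℝ) * n₀ = (q : ℝ) * ((Nat.card C : ℝ) * c₀) + U := by
    rw [← hnorm N n₀ hn₀, sum_split hs N C hxN inf_le_right inf_le_left
      (fun n hn => centralizer_decomp hs hn) F, hsplit C, hnorm C c₀ hc₀]
  have hNcard : (Nat.card N : ℝ) = (o : ℝ) * Nat.card C := by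
    have h1 := sum_split hs N C hxN inf_le_right inf_le_left (fun n hn => centralizer_decomp hs hn)
      (fun _ => (1 : ℝ))
    simp only [Finset.sum_const, Finset.card_univ, nsmul_eq_mul, mul_one, Fintype.card_fin,
      ← Nat.card_eq_fintype_card, Nat.card_fin] at h1
    exact h1
  have hmain : (p : ℝ) * n₀ + M = c₀ + p := by
    have hK0 : (0 : ℝ) < Nat.card K := by exact_mod_cast Nat.card_pos
    have hC0 : (0 : ℝ) < Nat.card C := by exact_mod_cast Nat.card_pos
    have hq0 : (0 : ℝ) < q := by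
      have : 0 < o := orderOf_pos x
      exact_mod_cast Nat.pos_of_mul_pos_left (lt_of_lt_of_eq this hq)
    have hoq : (o : ℝ) = p * q := by exact_mod_cast hq
    rw [hGcard, hoq] at hGsum
    rw [hNcard, hoq] at hNsum
    refine mul_left_cancel₀ (mul_pos (mul_pos hq0 hK0) hC0).ne' ?_
    linear_combination (Nat.card K : ℝ) * hNsum + hUV - (Nat.card C : ℝ) * hGsum
  -- the constituents of the restriction to the centralizer
  obtain ⟨a, ha⟩ := char_eq_sum_nat (isCharacter_restrict N hχc)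
  have hCirr : ∀ φ : Cfsg.IrrCharacter N,
      Cfsg.IsIrrCharacter C (fun c : C => (φ : N → ℂ) ⟨c, c.2.1⟩) := by
    intro φ
    have hφC : Cfsg.IsCharacter C (fun c : C => (φ : N → ℂ) ⟨c, c.2.1⟩) :=
      isCharacter_comp (Subgroup.inclusion (show C ≤ N from inf_le_left)) (irr_isCharacter φ)
    refine isIrr_of_isCharacter_of_norm_one hφC ?_
    have hxc : (⟨x, hxN⟩ : N) ∈ Subgroup.center N := Subgroup.mem_center_iff.2 fun m =>
      Subtype.ext (Subgroup.mem_centralizer_singleton_iff.1 m.2)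
    obtain ⟨ω, hω⟩ := Extraspecial.central_scalar φ.2 hxc
    have hω1 : ∀ (i : ℕ) (m : N),
        Complex.normSq ((φ : N → ℂ) (m * (⟨x, hxN⟩ : N) ^ i)) = Complex.normSq ((φ : N → ℂ) m) := by
      have hn : ‖ω‖ = 1 := by
        refine Complex.norm_eq_one_of_pow_eq_one (n := orderOf (⟨x, hxN⟩ : N)) ?_ (orderOf_pos _).ne'
        have hpw : ∀ k : ℕ, (φ : N → ℂ) ((⟨x, hxN⟩ : N) ^ k) = ω ^ k * (φ : N → ℂ) 1 := by
          intro k
          induction k with
          | zero => simp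
          | succ k ih => rw [pow_succ, hω, ih, pow_succ]; ring
        have h1 := hpw (orderOf (⟨x, hxN⟩ : N))
        rw [pow_orderOf_eq_one] at h1
        exact mul_right_cancel₀ (irr_one_ne_zero φ.2) (h1.symm.trans (one_mul _).symm)
      intro i m
      induction i with
      | zero => simp
      | succ i ih =>
        rw [pow_succ, ← mul_assoc, hω, map_mul, ih, Complex.normSq_eq_norm_sq ω, hn]; ring
    let F' : G → ℝ := fun g => if h : g ∈ N then Complex.normSq ((φ : N → ℂ) ⟨g, h⟩) else 0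
    have h1 : ∑ n : N, F' n = (o : ℝ) * ∑ c : C, F' c := by
      rw [sum_split hs N C hxN inf_le_right inf_le_left (fun n hn => centralizer_decomp hs hn) F',
        Finset.sum_congr rfl (g := fun _ => ∑ c : C, F' c) fun i _ => Finset.sum_congr rfl fun c _ => ?_,
        Finset.sum_const, Finset.card_univ, Fintype.card_fin, nsmul_eq_mul]
      have hm : x ^ (i : ℕ) * (c : G) ∈ N := N.mul_mem (N.pow_mem hxN _) c.2.1
      have hcN : (c : G) ∈ N := c.2.1
      simp only [F', dif_pos hm, dif_pos hcN]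
      rw [show (⟨x ^ (i : ℕ) * (c : G), hm⟩ : N) = ⟨c, c.2.1⟩ * (⟨x, hxN⟩ : N) ^ (i : ℕ) from
        Subtype.ext ((show Commute (c : G) x from
          Subgroup.mem_centralizer_singleton_iff.1 c.2.1).pow_right _).eq.symm, hω1]
    have h2 : ∑ n : N, F' n = (Nat.card N : ℝ) := by
      have h3 := classInner_isIrr_self φ.2
      rw [classInner_def, inv_mul_eq_iff_eq_mul₀ natCard_ne_zero, mul_one] at h3
      simp only [Complex.mul_conj] at h3
      have h4 : ∑ n : N, F' n = ∑ n : N, Complex.normSq ((φ : N → ℂ) n) :=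
        Finset.sum_congr rfl fun n _ => by simp [F', n.2]
      rw [h4]; exact_mod_cast h3
    rw [h2, hNcard] at h1
    have ho0 : (o : ℝ) ≠ 0 := Nat.cast_ne_zero.2 (orderOf_pos x).ne'
    have h5 : ∑ c : C, Complex.normSq ((φ : N → ℂ) ⟨c, c.2.1⟩) = (Nat.card C : ℝ) := by
      rw [mul_left_cancel₀ ho0 h1]
      refine Finset.sum_congr rfl fun c _ => ?_
      have hcN : (c : G) ∈ N := c.2.1
      simp only [F', dif_pos hcN]
    rw [classInner_def, inv_mul_eq_iff_eq_mul₀ natCard_ne_zero, mul_one]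
    simp only [Complex.mul_conj]
    exact_mod_cast h5
  set A := ∑ φ : Cfsg.IrrCharacter N, a φ with hA
  have hn₀' : n₀ = ∑ φ : Cfsg.IrrCharacter N, a φ * a φ := by
    have h1 : (n₀ : ℂ) = ∑ φ : Cfsg.IrrCharacter N, (a φ : ℂ) * (a φ : ℂ) := by
      rw [← hn₀, ha, classInner_sum_right]
      refine Finset.sum_congr rfl fun φ _ => ?_
      rw [classInner_smul_right, map_natCast, classInner_sum_smul_irr, if_pos (Finset.mem_univ _)]
    exact_mod_cast h1
  have hc₀' : c₀ ≤ A * A := by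
    have hres : (fun c : C => χ c) =
        ∑ φ : Cfsg.IrrCharacter N, (a φ : ℂ) • (fun c : C => (φ : N → ℂ) ⟨c, c.2.1⟩) := by
      funext c
      have := congrFun ha ⟨(c : G), c.2.1⟩
      simpa [Finset.sum_apply] using this
    have h1 : (c₀ : ℝ) ≤ ∑ φ : Cfsg.IrrCharacter N, ∑ φ' : Cfsg.IrrCharacter N,
        (a φ : ℝ) * (a φ' : ℝ) := by
      have h2 := congrArg Complex.re hc₀
      rw [Complex.natCast_re, hres, classInner_sum_left, Complex.re_sum] at h2
      rw [← h2]
      refine Finset.sum_le_sum fun φ _ => ?_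
      rw [classInner_sum_right, Complex.re_sum]
      refine Finset.sum_le_sum fun φ' _ => ?_
      rw [classInner_smul_left, classInner_smul_right, map_natCast]
      by_cases he : (fun c : C => (φ : N → ℂ) ⟨c, c.2.1⟩) = (fun c : C => (φ' : N → ℂ) ⟨c, c.2.1⟩)
      · rw [he, classInner_isIrr_self (hCirr φ'), mul_one, ← Nat.cast_mul, Complex.natCast_re]
        push_cast; exact le_rfl
      · rw [classInner_isIrr_ne (hCirr φ) (hCirr φ') he, mul_zero, mul_zero, Complex.zero_re]
        positivity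
    rw [← Finset.sum_mul_sum] at h1
    exact_mod_cast h1
  have hAd : A ≤ d := by
    have h1 := congrArg Complex.re (congrFun ha 1)
    simp only [OneMemClass.coe_one, hd, Complex.natCast_re, Finset.sum_apply, Pi.smul_apply,
      smul_eq_mul, Complex.re_sum, Complex.mul_re, Complex.natCast_im, zero_mul, sub_zero] at h1
    have h2 : (A : ℝ) ≤ d := by
      rw [h1, hA, Nat.cast_sum]
      refine Finset.sum_le_sum fun φ _ => ?_
      obtain ⟨r, hr, hr'⟩ := irr_one_pos φ.2
      rw [hr', Complex.natCast_re]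
      exact le_mul_of_one_le_right (Nat.cast_nonneg _) (by exact_mod_cast hr)
    exact_mod_cast h2
  have hn₀A : A ≤ n₀ := by
    rw [hn₀', hA]; exact Finset.sum_le_sum fun φ _ => Nat.le_mul_self _
  have hmain' : p * n₀ + M = c₀ + p := by exact_mod_cast hmain
  have hA1 : A = 1 := by
    have hA0 : A ≠ 0 := by
      intro h0
      have h1 := congrFun ha 1
      rw [hA, Finset.sum_eq_zero_iff] at h0
      rw [Finset.sum_apply, Finset.sum_eq_zero fun φ _ => by simp [h0 φ (Finset.mem_univ _)]] at h1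
      exact irr_one_ne_zero hχ h1
    by_contra h1
    have h2 : 2 ≤ A := by omega
    have h3 : p * A + 1 ≤ A * A + p := by
      have := Nat.mul_le_mul_left p hn₀A
      omega
    have h4 : A + 2 ≤ p := by omega
    nlinarith [Nat.mul_le_mul_left A h4]
  -- the restriction is irreducible, so `x` is scalar
  have hirr : Cfsg.IsIrrCharacter N (fun n : N => χ n) := by
    obtain ⟨φ, -, hφ⟩ : ∃ φ ∈ Finset.univ, a φ ≠ 0 := Finset.exists_ne_zero_of_sum_ne_zero
      (show ∑ φ : Cfsg.IrrCharacter N, a φ ≠ 0 by rw [← hA, hA1]; omega)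
    have hrest : ∀ φ' ∈ Finset.univ, φ' ≠ φ → (a φ' : ℂ) • (φ' : N → ℂ) = 0 := by
      intro φ' _ hne
      have h5 : a φ + a φ' ≤ A := by
        rw [hA, ← Finset.sum_pair hne.symm]
        exact Finset.sum_le_sum_of_subset (Finset.subset_univ _)
      rw [show a φ' = 0 by omega, Nat.cast_zero, zero_smul]
    rw [ha, Finset.sum_eq_single φ hrest (fun h => absurd (Finset.mem_univ _) h)]
    have : a φ = 1 := by
      have h5 : a φ ≤ A := Finset.single_le_sum (fun φ' _ => Nat.zero_le (a φ')) (Finset.mem_univ φ)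
      omega
    rw [this, Nat.cast_one, one_smul]
    exact φ.2
  obtain ⟨ω, hω⟩ := Extraspecial.central_scalar hirr (z := ⟨x, hxN⟩)
    (Subgroup.mem_center_iff.2 fun m => Subtype.ext (Subgroup.mem_centralizer_singleton_iff.1 m.2))
  have h1 := hω 1
  have h2 := hω (⟨x, hxN⟩ : N)⁻¹
  simp only [one_mul, inv_mul_cancel, Subgroup.coe_one, Subgroup.coe_inv] at h1 h2
  rw [char_inv hχc, h1] at h2
  rw [map_mul, hd, map_natCast, ← mul_assoc, Complex.mul_conj] at h2
  have hd0 : (d : ℂ) ≠ 0 := hd ▸ irr_one_ne_zero hχ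
  have h3 : (1 : ℂ) = ((Complex.normSq ω : ℝ) : ℂ) :=
    mul_right_cancel₀ hd0 ((one_mul _).trans h2)
  have h4 : ‖ω‖ = 1 := by
    rw [← Real.sqrt_sq (norm_nonneg ω), ← Complex.normSq_eq_norm_sq,
      show Complex.normSq ω = 1 by exact_mod_cast h3.symm, Real.sqrt_one]
  rw [h1, norm_mul, h4, one_mul, hd, Complex.norm_natCast]

end Split

/-! ## The theorem -/

variable (p : ℕ)

/-- The second hypothesis of the theorem. -/
def SubHyp (G : Type u) [Group G] : Prop :=
  ∀ K : Subgroup G, ¬ p ^ 2 ∣ Nat.card K → ∀ Q : Sylow p K, (Q : Subgroup K).Normal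

variable [hp : Fact p.Prime] {G : Type u} [Group G] [Finite G]

theorem le_of_normal (P : Sylow p G) (hP : (P : Subgroup G).Normal) {Q : Subgroup G}
    (hQ : IsPGroup p Q) : Q ≤ P := by
  obtain ⟨R, hR⟩ := hQ.exists_le_sylow
  letI := Sylow.unique_of_normal P hP
  rwa [Subsingleton.elim R P] at hR

theorem normal_of_equiv {A B : Type u} [Group A] [Group B] [Finite A] [Finite B] (e : A ≃* B)
    (h : ∀ Q : Sylow p B, (Q : Subgroup B).Normal) (Q : Sylow p A) : (Q : Subgroup A).Normal := by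
  have h1 := h (Q.mapSurjective (f := e.toMonoidHom) e.surjective)
  have h2 : (Q : Subgroup A) =
      ((Q.mapSurjective (f := e.toMonoidHom) e.surjective : Sylow p B) : Subgroup B).comap
        e.toMonoidHom := by
    show (Q : Subgroup A) = ((Q : Subgroup A).map e.toMonoidHom).comap e.toMonoidHom
    exact (Subgroup.comap_map_eq_self_of_injective e.injective _).symm
  rw [h2]
  exact h1.comap _

theorem subHyp_sub (h : SubHyp p G) (K : Subgroup G) : SubHyp p K := by
  intro L hL Q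
  refine normal_of_equiv p (L.equivMapOfInjective K.subtype K.subtype_injective) ?_ Q
  exact h _ (by rwa [Subgroup.card_map_of_injective K.subtype_injective])

theorem exists_radical (K : Subgroup G) (h : ∀ Q : Sylow p K, (Q : Subgroup K).Normal) :
    ∃ R ≤ K, IsPGroup p R ∧ (∀ k ∈ K, ∀ r ∈ R, k * r * k⁻¹ ∈ R) ∧
      ∀ Q ≤ K, IsPGroup p Q → Q ≤ R := by
  obtain ⟨Q₀⟩ : Nonempty (Sylow p K) := inferInstance
  refine ⟨(Q₀ : Subgroup K).map K.subtype, Subgroup.map_subtype_le _, Q₀.isPGroup'.map _, ?_, ?_⟩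
  · rintro k hk _ ⟨r, hr, rfl⟩
    exact ⟨(⟨k, hk⟩ : K) * r * (⟨k, hk⟩ : K)⁻¹, (h Q₀).conj_mem r hr _, rfl⟩
  · intro Q hQK hQ q hq
    exact ⟨⟨q, hQK hq⟩, le_of_normal p Q₀ (h Q₀)
      (hQ.comap_of_injective K.subtype K.subtype_injective) hq, rfl⟩

theorem main : ∀ (N : ℕ) {G : Type u} [Group G] [Finite G], Nat.card G ≤ N →
    ∀ (n : ℕ) (ρ : Representation ℂ G (Fin n → ℂ)), Function.Injective ρ → n + 1 < p →
    ((n + 1) ^ 2 ≤ p ∨ SubHyp p G) → ∀ P : Sylow p G, (P : Subgroup G).Normal := by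
  intro N
  induction N using Nat.strong_induction_on with
  | _ N ih =>
  intro G _ _ hN n ρ hρ hnp hcase P₀
  classical
  by_contra hP₀
  haveI := Fintype.ofFinite G
  haveI := Fintype.ofFinite (Cfsg.IrrCharacter G)
  -- proper subgroups
  have hprop : ∀ K : Subgroup G, K ≠ ⊤ → ∃ R ≤ K, IsPGroup p R ∧
      (∀ k ∈ K, ∀ r ∈ R, k * r * k⁻¹ ∈ R) ∧ ∀ Q ≤ K, IsPGroup p Q → Q ≤ R := by
    intro K hK
    refine exists_radical p K (ih (Nat.card K) ?_ le_rfl n (ρ.comp K.subtype)
      (hρ.comp K.subtype_injective) hnp (hcase.imp_right fun h => subHyp_sub p h K))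
    exact lt_of_lt_of_le (lt_of_le_of_ne (Subgroup.card_le_card_group K)
      fun h => hK (Subgroup.eq_top_of_card_eq K h)) hN
  have hab : ∀ Q : Subgroup G, IsPGroup p Q → ∀ a ∈ Q, ∀ b ∈ Q, a * b = b * a := by
    intro Q hQ a ha b hb
    obtain ⟨m, hm⟩ := IsPGroup.iff_card.1 hQ
    have h := Cfsg.Agent.S0185.result (ρ.comp Q.subtype) (hρ.comp Q.subtype_injective)
      (fun q hq hqd => by
        rw [hm] at hqd
        rw [Module.finrank_fin_fun, (Nat.prime_dvd_prime_iff_eq hq hp.out).1 (hq.dvd_of_dvd_pow hqd)]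
        omega) ⟨a, ha⟩ ⟨b, hb⟩
    exact congrArg Subtype.val h
  have hZle : ∀ (P : Sylow p G) (y : G), y ∈ Subgroup.center G → IsPGroup p (Subgroup.zpowers y) →
      y ∈ (P : Subgroup G) := by
    intro P y hy hyp
    obtain ⟨Q, hQ⟩ := hyp.exists_le_sylow
    obtain ⟨g, rfl⟩ := MulAction.exists_smul_eq G Q P
    have hm : y ∈ (Q : Subgroup G) := hQ (Subgroup.mem_zpowers y)
    rw [Sylow.smul_def, Sylow.pointwise_smul_def]
    refine ⟨y, hm, ?_⟩
    show g * y * g⁻¹ = y
    rw [Subgroup.mem_center_iff.1 hy g, mul_inv_cancel_right]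
  have hinter : ∀ Q R : Sylow p G, Q ≠ R →
      ∀ y ∈ (Q : Subgroup G), y ∈ (R : Subgroup G) → y ∈ Subgroup.center G := by
    intro Q R hne y hyQ hyR
    by_contra hyc
    obtain ⟨S, -, hS, -, hSmax⟩ := hprop (Subgroup.centralizer {y}) fun htop => hyc
      (Subgroup.mem_center_iff.2 fun g => by
        have hg : g ∈ Subgroup.centralizer ({y} : Set G) := htop ▸ Subgroup.mem_top g
        exact Subgroup.mem_centralizer_singleton_iff.1 hg)
    have hle : ∀ T : Sylow p G, y ∈ (T : Subgroup G) → (T : Subgroup G) = S := fun T hyT => by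
      have h1 : (T : Subgroup G) ≤ S := hSmax T (fun t ht =>
        Subgroup.mem_centralizer_singleton_iff.2 (hab T T.isPGroup' t ht y hyT)) T.isPGroup'
      exact (T.is_maximal' hS h1).symm
    exact hne (Sylow.ext ((hle Q hyQ).trans (hle R hyR).symm))
  have hnormal : ∀ M : Subgroup G, M.Normal → (P₀ : Subgroup G) ≤ M → M = ⊤ := by
    intro M hM hPM
    by_contra hMt
    obtain ⟨S, -, hS, hSn, hSmax⟩ := hprop M hMt
    have h1 : (P₀ : Subgroup G) ≤ S := hSmax P₀ hPM P₀.isPGroup'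
    have h2 := P₀.is_maximal' hS h1
    refine hP₀ ⟨fun y hy g => ?_⟩
    have h3 : ((P₀ : Subgroup G).map (MulAut.conj g).toMonoidHom) ≤ S := hSmax _
      (by
        rintro _ ⟨z, hz, rfl⟩
        exact hM.conj_mem z (hPM hz) g) (P₀.isPGroup'.map _)
    rw [h2] at h3
    exact h3 ⟨y, hy, rfl⟩
  have hfaith : ∀ g : G, (∀ χ : Cfsg.IrrCharacter G,
      Cfsg.classInner ρ.character (χ : G → ℂ) ≠ 0 → (χ : G → ℂ) g = (χ : G → ℂ) 1) → g = 1 := by
    intro g hg
    have hexp := classFun_eq_sum (rep_isClassFunction ρ)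
    have hval : ρ.character g = ρ.character 1 := by
      rw [hexp]
      simp only [Finset.sum_apply, Pi.smul_apply, smul_eq_mul]
      refine Finset.sum_congr rfl fun χ _ => ?_
      by_cases h0 : Cfsg.classInner ρ.character (χ : G → ℂ) = 0
      · rw [h0, zero_mul, zero_mul]
      · rw [hg χ h0]
    exact hρ ((rep_apply_eq_id_of_char_eq ρ g (hval.trans ρ.char_one)).trans
      (by rw [map_one]; rfl : (LinearMap.id : (Fin n → ℂ) →ₗ[ℂ] Fin n → ℂ) = ρ 1))
  have hdeg : ∀ χ : Cfsg.IrrCharacter G, Cfsg.classInner ρ.character (χ : G → ℂ) ≠ 0 →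
      ∃ d : ℕ, (χ : G → ℂ) 1 = d ∧ d ≤ n := by
    intro χ h0
    obtain ⟨d, -, hd⟩ := irr_one_pos χ.2
    have h1 := irr_degree_le (isCharacter_character ρ) χ.2 h0
    rw [hd, ρ.char_one, Module.finrank_fin_fun, Complex.natCast_re, Complex.natCast_re] at h1
    exact ⟨d, hd, by exact_mod_cast h1⟩
  have hPne : (P₀ : Subgroup G) ≠ ⊥ := fun h => hP₀ (by rw [h]; infer_instance)
  by_cases hD : (P₀ : Subgroup G) ⊓ Subgroup.center G = ⊥
  · -- the Sylow subgroups intersect trivially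
    haveI : Fintype (P₀ : Subgroup G) := Fintype.ofFinite _
    have hone : OneConjugate.OneConj (P₀ : Subgroup G) := by
      intro g hg a b ha hb
      obtain ⟨S, -, hS, -, hSmax⟩ := hprop (Subgroup.centralizer {g}) fun htop => hg
        (Subgroup.mem_center_iff.2 fun h => by
          have hh : h ∈ Subgroup.centralizer ({g} : Set G) := htop ▸ Subgroup.mem_top h
          exact Subgroup.mem_centralizer_singleton_iff.1 hh)
      obtain ⟨T, hT⟩ := hS.exists_le_sylow
      have key : ∀ c : G,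
          Subgroup.centralizer ({g} : Set G) ⊓ (P₀ : Subgroup G).map (MulAut.conj c).toMonoidHom ≠ ⊥ →
          (P₀ : Subgroup G).map (MulAut.conj c).toMonoidHom = T := by
        intro c hc'
        obtain ⟨y, hy, hy1⟩ := (Subgroup.bot_or_exists_ne_one _).resolve_left hc'
        have hsm : ((c • P₀ : Sylow p G) : Subgroup G) =
            (P₀ : Subgroup G).map (MulAut.conj c).toMonoidHom := rfl
        by_contra hne
        have hyT : y ∈ (T : Subgroup G) := hT (hSmax _ inf_le_left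
          ((c • P₀).isPGroup'.to_le (hsm ▸ inf_le_right)) hy)
        have hyc := hinter (c • P₀) T (fun h => hne (hsm ▸ congrArg _ h)) y (hsm ▸ hy.2) hyT
        have hyP := hZle P₀ y hyc (T.isPGroup'.to_le (Subgroup.zpowers_le.2 hyT))
        have : y ∈ (P₀ : Subgroup G) ⊓ Subgroup.center G := ⟨hyP, hyc⟩
        rw [hD, Subgroup.mem_bot] at this
        exact hy1 this
      rw [key a ha, key b hb]
    obtain ⟨χ, hχ0, hχ1⟩ : ∃ χ : Cfsg.IrrCharacter G,
        Cfsg.classInner ρ.character (χ : G → ℂ) ≠ 0 ∧ (χ : G → ℂ) 1 ≠ 1 := by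
      by_contra hno
      push Not at hno
      refine hP₀ ⟨fun y hy g => ?_⟩
      have h1 : g * y * g⁻¹ * y⁻¹ = 1 := hfaith _ fun χ h0 => by
        have hlam := linearOfDegreeOne_apply (irr_isCharacter χ) (hno χ h0)
        rw [← hlam, ← hlam, map_one]
        congr 1
        simp [mul_comm]
      rwa [mul_inv_eq_one.1 h1]
    obtain ⟨d, hd, hdn⟩ := hdeg χ hχ0
    have hsq := OneConjugate.one_add_sq_gt (hab _ P₀.isPGroup') hD hone χ.2 hχ1 hnormal
    rw [hd, Complex.natCast_re] at hsq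
    have hsq' : Nat.card (P₀ : Subgroup G) < (1 + d) ^ 2 := by exact_mod_cast hsq
    have hdd : (1 + d) ^ 2 ≤ (n + 1) ^ 2 := Nat.pow_le_pow_left (by omega) 2
    obtain ⟨m, hm⟩ := IsPGroup.iff_card.1 P₀.isPGroup'
    have hm1 : 1 ≤ m := Nat.one_le_iff_ne_zero.2 fun h =>
      hPne (Subgroup.card_eq_one.1 (by rw [hm, h, pow_zero]))
    rcases hcase with hsmall | hsub
    · have : p ≤ Nat.card (P₀ : Subgroup G) := hm ▸ Nat.le_self_pow (by omega) p
      omega
    · have hdvd : p ^ 2 ∣ Nat.card (⊤ : Subgroup G) := by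
        by_contra hno
        exact hP₀ (normal_of_equiv p Subgroup.topEquiv.symm (hsub ⊤ hno) P₀)
      rw [Subgroup.card_top] at hdvd
      have h2 : p ^ 2 ≤ Nat.card (P₀ : Subgroup G) :=
        Nat.le_of_dvd Nat.card_pos (P₀.pow_dvd_card_of_pow_dvd_card hdvd)
      have h3 : (n + 1) ^ 2 ≤ p ^ 2 := Nat.pow_le_pow_left (by omega) 2
      omega
  · -- the Sylow subgroups share a central subgroup
    have hdet : ∀ z ∈ (P₀ : Subgroup G), z ∈ Subgroup.center G → z ∈ commutator G → z = 1 := by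
      intro z hzP hzc hzd
      refine hfaith z fun χ h0 => ?_
      obtain ⟨d, hd, hdn⟩ := hdeg χ h0
      obtain ⟨k, σ, hσ, hχσ⟩ := χ.2
      obtain ⟨ω, hω⟩ := schur_scalar σ (σ z) fun g v => by
        rw [← Module.End.mul_apply, ← Module.End.mul_apply, ← map_mul, ← map_mul,
          Subgroup.mem_center_iff.1 hzc g]
      have hk : (d : ℂ) = (k : ℂ) := by
        rw [← hd, ← hχσ, σ.char_one, Module.finrank_fin_fun]
      have hk' : d = k := by exact_mod_cast hk
      have hdet1 : ω ^ k = 1 := by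
        let f : G →* ℂ := (LinearMap.det : ((Fin k → ℂ) →ₗ[ℂ] Fin k → ℂ) →* ℂ).comp σ
        have h1 := MonoidHom.mem_ker.1 (Abelianization.commutator_subset_ker f.toHomUnits hzd)
        have h2 : LinearMap.det (σ z) = 1 := congrArg (fun u : ℂˣ => (u : ℂ)) h1
        rw [hω, LinearMap.det_smul, Module.finrank_fin_fun, LinearMap.det_id, mul_one] at h2
        exact h2
      haveI : Nontrivial (Fin k → ℂ) := nontrivial_of_isIrreducible σ
      have hω1 : ω = 1 := by
        obtain ⟨j, hj⟩ := P₀.isPGroup' ⟨z, hzP⟩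
        have hj' : z ^ p ^ j = 1 := congrArg Subtype.val hj
        have h1 : ω ^ p ^ j = 1 := by
          have h2 := congrArg σ hj'
          rw [map_pow, hω, map_one] at h2
          have h3 : (ω • (LinearMap.id : (Fin k → ℂ) →ₗ[ℂ] Fin k → ℂ)) = ω • (1 : Module.End ℂ (Fin k → ℂ)) := rfl
          rw [h3, smul_pow, one_pow] at h2
          obtain ⟨v, hv⟩ := exists_ne (0 : Fin k → ℂ)
          have h4 := LinearMap.congr_fun h2 v
          simp only [LinearMap.smul_apply, Module.End.one_apply] at h4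
          exact smul_left_injective ℂ hv (h4.trans (one_smul ℂ v).symm)
        have hk0 : 0 < k := by
          obtain ⟨r, hr, hr'⟩ := irr_one_pos χ.2
          rw [hd] at hr'
          have : d = r := by exact_mod_cast hr'
          omega
        have hcop : Nat.Coprime k (p ^ j) := (Nat.Coprime.pow_left j
          (hp.out.coprime_iff_not_dvd.2 fun h => by have := Nat.le_of_dvd hk0 h; omega)).symm
        have h5 := Nat.dvd_gcd (orderOf_dvd_of_pow_eq_one hdet1) (orderOf_dvd_of_pow_eq_one h1)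
        rw [hcop.gcd_eq_one, Nat.dvd_one, orderOf_eq_one_iff] at h5
        exact h5
      rw [← hχσ]
      show LinearMap.trace ℂ _ (σ z) = LinearMap.trace ℂ _ (σ 1)
      rw [hω, hω1, one_smul, map_one]; rfl
    let K := commutator G
    have hKt : K ≠ ⊤ := by
      intro htop
      obtain ⟨z, hz, hz1⟩ := (Subgroup.bot_or_exists_ne_one _).resolve_left hD
      exact hz1 (hdet z hz.1 hz.2 (by rw [show commutator G = ⊤ from htop]; exact Subgroup.mem_top z))
    obtain ⟨R, hRK, hR, -, hRmax⟩ := hprop K hKt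
    obtain ⟨P₁, hP₁⟩ : ∃ P₁ : Sylow p G, P₁ ≠ P₀ := by
      by_contra hno
      push Not at hno
      haveI : Subsingleton (Sylow p G) := ⟨fun A B => (hno A).trans (hno B).symm⟩
      exact hP₀ P₀.normal_of_subsingleton
    have hKp : ¬ p ∣ Nat.card K := by
      intro hdvd
      obtain ⟨y, hy⟩ := exists_prime_orderOf_dvd_card' (G := K) p hdvd
      have hyG : orderOf (y : G) = p := (Subgroup.orderOf_coe y).trans hy
      have hyp : IsPGroup p (Subgroup.zpowers (y : G)) :=
        IsPGroup.of_card (n := 1) (by rw [Nat.card_zpowers, hyG, pow_one])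
      obtain ⟨T, hT⟩ := hR.exists_le_sylow
      have hconj : ∀ c : G, c * (y : G) * c⁻¹ ∈ (T : Subgroup G) := fun c => by
        refine hT (hRmax _ ?_ (hyp.map (MulAut.conj c).toMonoidHom)
          ⟨y, Subgroup.mem_zpowers _, rfl⟩)
        rintro _ ⟨u, hu, rfl⟩
        exact (inferInstance : K.Normal).conj_mem u
          ((Subgroup.zpowers_le.2 y.2) hu) c
      have hall : ∀ Q : Sylow p G, (y : G) ∈ (Q : Subgroup G) := by
        intro Q
        obtain ⟨g, rfl⟩ := MulAction.exists_smul_eq G T Q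
        rw [Sylow.smul_def, Sylow.pointwise_smul_def]
        refine ⟨g⁻¹ * y * g, ?_, ?_⟩
        · have h := hconj g⁻¹
          rw [inv_inv] at h
          exact h
        show g * (g⁻¹ * y * g) * g⁻¹ = y
        group
      have hy0 := hdet (y : G) (hall P₀) (hinter P₁ P₀ hP₁ _ (hall P₁) (hall P₀)) y.2
      rw [hy0, orderOf_one] at hyG
      exact hp.out.ne_one hyG.symm
    have hKn : K.Normal := inferInstance
    have htop : (P₀ : Subgroup G) ⊔ K = ⊤ := by
      refine hnormal _ ⟨fun y hy g => ?_⟩ le_sup_left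
      have h1 : ⁅g, y⁆ ∈ (P₀ : Subgroup G) ⊔ K := Subgroup.mem_sup_right
        (Subgroup.commutator_mem_commutator (Subgroup.mem_top g) (Subgroup.mem_top y))
      have h2 := mul_mem h1 hy
      rwa [commutatorElement_def, inv_mul_cancel_right] at h2
    have hcent : ∀ x ∈ (P₀ : Subgroup G), Subgroup.zpowers x ⊔ K ≠ ⊤ → x ∈ Subgroup.center G := by
      intro x hx hne
      obtain ⟨S, -, hS, hSn, hSmax⟩ := hprop _ hne
      have hxS : x ∈ S := hSmax _ le_sup_left
        (P₀.isPGroup'.to_le (Subgroup.zpowers_le.2 hx)) (Subgroup.mem_zpowers x)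
      have h1 : ∀ k ∈ K, k * x = x * k := fun k hk => by
        have h2 : k * x * k⁻¹ * x⁻¹ ∈ S :=
          mul_mem (hSn k (Subgroup.mem_sup_right hk) x hxS) (inv_mem hxS)
        have h3 : k * x * k⁻¹ * x⁻¹ ∈ K := by
          rw [mul_assoc, mul_assoc]
          exact mul_mem hk (by simpa [mul_assoc] using hKn.conj_mem k⁻¹ (inv_mem hk) x)
        have h4 : k * x * k⁻¹ * x⁻¹ = 1 := by
          obtain ⟨m, hm⟩ := hS ⟨_, h2⟩
          rw [← orderOf_eq_one_iff]
          refine Nat.eq_one_of_dvd_coprimes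
            (Nat.Coprime.pow_left m (hp.out.coprime_iff_not_dvd.2 hKp))
            (orderOf_dvd_of_pow_eq_one (congrArg Subtype.val hm)) (Subgroup.orderOf_dvd_natCard _ h3)
        rwa [mul_inv_eq_one, mul_inv_eq_iff_eq_mul] at h4
      refine Subgroup.mem_center_iff.2 fun g => ?_
      have hg : g ∈ Subgroup.centralizer ({x} : Set G) := by
        refine (?_ : (⊤ : Subgroup G) ≤ _) (Subgroup.mem_top g)
        rw [← htop, sup_le_iff]
        exact ⟨fun a ha => Subgroup.mem_centralizer_singleton_iff.2 (hab _ P₀.isPGroup' a ha x hx),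
          fun k hk => Subgroup.mem_centralizer_singleton_iff.2 (h1 k hk)⟩
      exact Subgroup.mem_centralizer_singleton_iff.1 hg
    obtain ⟨x, hx, hxc⟩ : ∃ x ∈ (P₀ : Subgroup G), x ∉ Subgroup.center G := by
      by_contra hno
      push Not at hno
      exact hP₀ ⟨fun y hy g => by
        rwa [Subgroup.mem_center_iff.1 (hno y hy) g, mul_inv_cancel_right]⟩
    have hxtop : Subgroup.zpowers x ⊔ K = ⊤ := by_contra fun h => hxc (hcent x hx h)
    have hcard : ∀ w ∈ (P₀ : Subgroup G), Subgroup.zpowers w ⊔ K = ⊤ →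
        Subgroup.zpowers w = (P₀ : Subgroup G) := by
      intro w hw hwt
      have h1 : Nat.card G ∣ orderOf w * Nat.card K := by
        rw [← Subgroup.index_mul_card K, ← Subgroup.relIndex_top_right, ← hwt, sup_comm,
          Subgroup.relIndex_sup_left, ← Nat.card_zpowers]
        exact Nat.mul_dvd_mul_right (Subgroup.index_dvd_card _) _
      refine Subgroup.eq_of_le_of_card_ge (Subgroup.zpowers_le.2 hw) (Nat.le_of_dvd Nat.card_pos ?_)
      rw [Nat.card_zpowers]
      refine Nat.Coprime.dvd_of_dvd_mul_right ?_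
        ((Subgroup.card_subgroup_dvd_card (P₀ : Subgroup G)).trans h1)
      obtain ⟨m, hm⟩ := IsPGroup.iff_card.1 P₀.isPGroup'
      rw [hm]
      exact Nat.Coprime.pow_left m (hp.out.coprime_iff_not_dvd.2 hKp)
    have hxP := hcard x hx hxtop
    obtain ⟨e, he⟩ := IsPGroup.iff_card.1 P₀.isPGroup'
    rw [← hxP, Nat.card_zpowers] at he
    have hxpc : x ^ p ∈ Subgroup.center G := by
      by_contra hc
      have hz := hcard _ (pow_mem hx p) (by_contra fun h => hc (hcent _ (pow_mem hx p) h))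
      rw [← hxP] at hz
      have h1 := congrArg (fun S : Subgroup G => Nat.card S) hz
      simp only [Nat.card_zpowers] at h1
      rw [orderOf_pow, Nat.div_eq_self] at h1
      rcases h1 with h1 | h1
      · exact (orderOf_pos x).ne' h1
      · have h3 : p ∣ orderOf x := by
          rcases Nat.eq_zero_or_pos e with rfl | hpos
          · rw [pow_zero, orderOf_eq_one_iff] at he
            exact absurd (he ▸ one_mem _) hxc
          · rw [he]; exact dvd_pow_self p hpos.ne'
        rw [Nat.gcd_eq_right h3] at h1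
        exact hp.out.ne_one h1
    have hsup : ∀ g : G, ∃ i : ℕ, ∃ k ∈ K, g = x ^ i * k := by
      intro g
      have hg : g ∈ Subgroup.zpowers x ⊔ K := hxtop ▸ Subgroup.mem_top g
      obtain ⟨a, ha, b, hb, rfl⟩ := Subgroup.mem_sup_of_normal_right.1 hg
      obtain ⟨i, rfl⟩ := (mem_powers_iff_mem_zpowers (x := x)).2 ha
      exact ⟨i, b, hb, rfl⟩
    have hs : Split p x K := by
      refine ⟨hsup, ⟨e, he⟩, hKp, hxpc, hxc, fun y hy => ?_⟩
      have hyp : IsPGroup p (Subgroup.zpowers y) := by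
        obtain ⟨j, -, hj⟩ := (Nat.dvd_prime_pow hp.out).1 (he ▸ orderOf_dvd_of_pow_eq_one hy)
        exact IsPGroup.of_card (n := j) (by rw [Nat.card_zpowers, hj])
      obtain ⟨T, hT⟩ := hyp.exists_le_sylow
      obtain ⟨g, rfl⟩ := MulAction.exists_smul_eq G P₀ T
      have hm : y ∈ (P₀ : Subgroup G).map (MulAut.conj g).toMonoidHom := hT (Subgroup.mem_zpowers y)
      obtain ⟨u, hu, rfl⟩ := hm
      rw [← hxP] at hu
      obtain ⟨i, rfl⟩ := (mem_powers_iff_mem_zpowers (x := x)).2 hu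
      obtain ⟨j, k, hk, rfl⟩ := hsup g
      refine ⟨x ^ j * k * (x ^ j)⁻¹, hKn.conj_mem k hk _, i, ?_⟩
      show x ^ j * k * x ^ i * (x ^ j * k)⁻¹ = _
      calc x ^ j * k * x ^ i * (x ^ j * k)⁻¹
          = x ^ j * k * ((x ^ j)⁻¹ * (x ^ j * x ^ i)) * (x ^ j * k)⁻¹ := by group
        _ = x ^ j * k * ((x ^ j)⁻¹ * (x ^ i * x ^ j)) * (x ^ j * k)⁻¹ := by rw [← pow_add, ← pow_add, add_comm]
        _ = _ := by group
    refine hxc (Subgroup.mem_center_iff.2 fun g => ?_)
    have h1 : g * x * g⁻¹ * x⁻¹ = 1 := hfaith _ fun χ h0 => by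
      obtain ⟨d, hd, hdn⟩ := hdeg χ h0
      have hnorm := norm_eq hs χ.2 hd (by omega)
      obtain ⟨k, σ, hσ, hχσ⟩ := χ.2
      rw [← hχσ] at hnorm hd ⊢
      rw [σ.char_one] at hd
      have hfin : Module.finrank ℂ (Fin k → ℂ) = d := by exact_mod_cast hd
      obtain ⟨ω, hω⟩ := rep_apply_eq_smul_of_norm_eq σ x (by rw [hnorm, hfin])
      have hc' : σ (g * x) = σ (x * g) := by
        rw [map_mul, map_mul, hω]
        exact LinearMap.ext fun v => by simp
      have h2 : σ (g * x * g⁻¹ * x⁻¹) = σ 1 := by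
        rw [mul_assoc, map_mul, hc', ← map_mul]
        congr 1; group
      show LinearMap.trace ℂ _ (σ _) = LinearMap.trace ℂ _ (σ 1)
      rw [h2]
    rwa [mul_inv_eq_one, mul_inv_eq_iff_eq_mul] at h1

end Cfsg.Agent.CharTheory.SmallDegreeSylow
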