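import Mathlib
import Cfsg.Agent.Lib.Characters.Schur
import Cfsg.Agent.Lib.Characters.Induction

/-!
Blocks of imprimitivity of an irreducible representation.
-/

set_option autoImplicit false

namespace Cfsg.Agent.CharTheory.Blocks

open Cfsg.Agent.Characters Module

universe u v

variable {G : Type u} [Group G] {V : Type v} [AddCommGroup V] [Module ℂ V]

/-- `W` is `Y`-invariant, nonzero, and small enough to be a block of imprimitivity. -/
structure IsBlock (ρ : Representation ℂ G V) (Y : Subgroup G) (W : Submodule ℂ V) : Prop where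
  invariant : ∀ y ∈ Y, ∀ w ∈ W, ρ y w ∈ W
  ne_bot : W ≠ ⊥
  dim_le : Y.index * finrank ℂ W ≤ finrank ℂ V

/-- The sum of the translates of `W`. -/
noncomputable def tmap (ρ : Representation ℂ G V) (Y : Subgroup G) (W : Submodule ℂ V)
    [Fintype (G ⧸ Y)] : ((G ⧸ Y) → W) →ₗ[ℂ] V :=
  ∑ q : G ⧸ Y, ρ q.out ∘ₗ W.subtype ∘ₗ LinearMap.proj q

theorem tmap_apply (ρ : Representation ℂ G V) (Y : Subgroup G) (W : Submodule ℂ V)
    [Fintype (G ⧸ Y)] (f : (G ⧸ Y) → W) : tmap ρ Y W f = ∑ q, ρ q.out (f q : V) := by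
  simp [tmap]

theorem exists_out_mul (Y : Subgroup G) (g : G) :
    ∃ y ∈ Y, g = (QuotientGroup.mk g : G ⧸ Y).out * y :=
  ⟨(QuotientGroup.mk g : G ⧸ Y).out⁻¹ * g, QuotientGroup.eq.1 (QuotientGroup.out_eq' _),
    (mul_inv_cancel_left _ _).symm⟩

theorem tmap_single (ρ : Representation ℂ G V) (Y : Subgroup G) (W : Submodule ℂ V)
    [Fintype (G ⧸ Y)] [DecidableEq (G ⧸ Y)] (q : G ⧸ Y) (w : W) :
    tmap ρ Y W (Pi.single q w) = ρ q.out (w : V) := by
  rw [tmap_apply, Finset.sum_eq_single q (fun b _ hb => by simp [hb]) (by simp), Pi.single_eq_same]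

theorem mem_range_tmap {ρ : Representation ℂ G V} {Y : Subgroup G} {W : Submodule ℂ V}
    (hW : ∀ y ∈ Y, ∀ w ∈ W, ρ y w ∈ W) [Fintype (G ⧸ Y)] (g : G) {w : V} (hw : w ∈ W) :
    ρ g w ∈ LinearMap.range (tmap ρ Y W) := by
  classical
  obtain ⟨y, hy, he⟩ := exists_out_mul Y g
  refine ⟨Pi.single (QuotientGroup.mk g) ⟨ρ y w, hW y hy w hw⟩, ?_⟩
  rw [tmap_single]
  conv_rhs => rw [he, map_mul]
  rfl

theorem tmap_surjective {ρ : Representation ℂ G V} (hρ : ρ.IsIrreducible) {Y : Subgroup G}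
    {W : Submodule ℂ V} (hW : ∀ y ∈ Y, ∀ w ∈ W, ρ y w ∈ W) (hne : W ≠ ⊥) [Fintype (G ⧸ Y)] :
    Function.Surjective (tmap ρ Y W) := by
  rw [← LinearMap.range_eq_top]
  refine (((isIrreducible_iff ρ).1 hρ).2 _ ?_).resolve_left fun h => hne ?_
  · rintro g _ ⟨f, rfl⟩
    rw [tmap_apply, map_sum]
    refine Submodule.sum_mem _ fun q _ => ?_
    rw [← Module.End.mul_apply, ← map_mul]
    exact mem_range_tmap hW _ (f q).2
  · refine Submodule.eq_bot_iff _ |>.2 fun w hw => ?_
    have h1 := mem_range_tmap hW 1 hw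
    rw [h, Submodule.mem_bot, map_one] at h1
    exact h1

variable [Finite G] [FiniteDimensional ℂ V]

theorem IsBlock.bijective {ρ : Representation ℂ G V} {Y : Subgroup G} {W : Submodule ℂ V}
    (h : IsBlock ρ Y W) (hρ : ρ.IsIrreducible) [Fintype (G ⧸ Y)] :
    Function.Bijective (tmap ρ Y W) := by
  have hs := tmap_surjective hρ h.invariant h.ne_bot
  have h1 : finrank ℂ ((G ⧸ Y) → W) ≤ finrank ℂ V := by
    rw [Module.finrank_pi_fintype]
    simpa [Finset.sum_const, ← Nat.card_eq_fintype_card, ← Subgroup.index_eq_card] using h.dim_le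
  have h2 := LinearMap.finrank_le_finrank_of_injective (R := ℂ)
    (f := (LinearMap.ker (tmap ρ Y W)).subtype) (Submodule.injective_subtype _)
  have h3 := LinearMap.finrank_range_add_finrank_ker (tmap ρ Y W)
  rw [LinearMap.range_eq_top.2 hs, finrank_top] at h3
  refine ⟨LinearMap.ker_eq_bot.1 ?_, hs⟩
  rw [← Submodule.finrank_eq_zero (R := ℂ)]
  omega

/-- A block for `Y` gives one for any larger subgroup. -/
theorem IsBlock.exists_of_le {ρ : Representation ℂ G V} {Y : Subgroup G} {W : Submodule ℂ V}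
    (h : IsBlock ρ Y W) {Y₁ : Subgroup G} (hle : Y ≤ Y₁) : ∃ W₁, IsBlock ρ Y₁ W₁ := by
  classical
  let ρ₁ : Representation ℂ Y₁ V := ρ.comp Y₁.subtype
  haveI := Fintype.ofFinite (Y₁ ⧸ Y.subgroupOf Y₁)
  have hW : ∀ y ∈ Y.subgroupOf Y₁, ∀ w ∈ W, ρ₁ y w ∈ W := fun y hy w hw => h.invariant _ hy w hw
  refine ⟨LinearMap.range (tmap ρ₁ (Y.subgroupOf Y₁) W), ⟨?_, ?_, ?_⟩⟩
  · rintro y hy _ ⟨f, rfl⟩
    rw [tmap_apply, map_sum]
    refine Submodule.sum_mem _ fun q _ => ?_
    have := mem_range_tmap hW ((⟨y, hy⟩ : Y₁) * q.out) (f q).2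
    rwa [map_mul] at this
  · intro hb
    refine h.ne_bot ((Submodule.eq_bot_iff _).2 fun w hw => ?_)
    have h1 := mem_range_tmap hW 1 hw
    rw [hb, Submodule.mem_bot, map_one] at h1
    exact h1
  · refine le_trans ?_ h.dim_le
    have h1 := LinearMap.finrank_range_le (tmap ρ₁ (Y.subgroupOf Y₁) W)
    rw [Module.finrank_pi_fintype, Finset.sum_const, Finset.card_univ, smul_eq_mul,
      ← Nat.card_eq_fintype_card, ← Subgroup.index_eq_card] at h1
    rw [← Subgroup.relIndex_mul_index hle, mul_comm (Y.relIndex Y₁), mul_assoc]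
    exact Nat.mul_le_mul_left _ h1

/-- An induced irreducible character gives a block of imprimitivity. -/
theorem exists_of_indFun [Fintype G] (ρ : Representation ℂ G V) (hρ : ρ.IsIrreducible)
    (Y : Subgroup G) {ψ : Y → ℂ} (hψ : Cfsg.IsCharacter Y ψ)
    (hind : Cfsg.indFun Y ψ = ρ.character) : ∃ W, IsBlock ρ Y W := by
  haveI := Fintype.ofFinite Y
  obtain ⟨n, τ, hτ⟩ := hψ
  have h1 : Cfsg.classInner ρ.character ρ.character = 1 :=
    haveI := hρ
    classInner_isIrr_self (isIrrCharacter_character ρ)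
  nth_rewrite 1 [← hind] at h1
  rw [frobenius_reciprocity Y ψ (char_isClassFunction (isCharacter_character ρ)),
    classInner_conj_symm] at h1
  have h2 : Cfsg.classInner (fun y : Y => ρ.character y) ψ = 1 := by
    simpa using congrArg (starRingEnd ℂ) h1
  let ρY : Representation ℂ Y V := ρ.comp Y.subtype
  rw [show (fun y : Y => ρ.character y) = ρY.character from rfl, ← hτ,
    classInner_character] at h2
  have hfin : 0 < finrank ℂ (Representation.IntertwiningMap τ ρY) := by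
    have : finrank ℂ (Representation.IntertwiningMap τ ρY) = 1 := by exact_mod_cast h2
    omega
  haveI := Module.nontrivial_of_finrank_pos hfin
  obtain ⟨f, hf⟩ := exists_ne (0 : Representation.IntertwiningMap τ ρY)
  refine ⟨LinearMap.range f.toLinearMap, ⟨?_, ?_, ?_⟩⟩
  · rintro y hy _ ⟨x, rfl⟩
    exact ⟨τ ⟨y, hy⟩ x, DFunLike.congr_fun (f.isIntertwining' ⟨y, hy⟩) x⟩
  · intro hb
    apply hf
    ext1
    rw [LinearMap.range_eq_bot.1 hb]
    rfl
  · have h3 := congrFun hind 1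
    rw [indFun_one, ← hτ, τ.char_one, ρ.char_one] at h3
    rw [show finrank ℂ V = Y.index * finrank ℂ (Fin n → ℂ) by exact_mod_cast h3.symm]
    exact Nat.mul_le_mul_left _ (LinearMap.finrank_range_le _)

end Cfsg.Agent.CharTheory.Blocks
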