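import Mathlib
import Cfsg.Agent.Lib.CharTheory.Blocks
import Cfsg.Agent.Lib.CharTheory.HomCentralizer
import Cfsg.Agent.Lib.Characters.Normal

/-!
The centralizer algebra of a representation with a block for a normal subgroup `N` is graded by
the cosets of `N`.
-/

set_option autoImplicit false

namespace Cfsg.Agent.CharTheory.GradedEnd

open Cfsg.Agent.Characters Module HomCentralizer Blocks

universe u v

variable {M : Type u} [Group M] {V : Type v} [AddCommGroup V] [Module ℂ V]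

/-- The graded piece at `x`. -/
def Grad (ρ : Representation ℂ M V) (W : Submodule ℂ V) (x : M) (T : Module.End ℂ V) : Prop :=
  T ∈ cent ρ ∧ ∀ w ∈ W, T w ∈ W.map (ρ x)

/-- The part of the centralizer commuting with the degree-one piece. -/
def rest (ρ : Representation ℂ M V) (W : Submodule ℂ V) : Subalgebra ℂ (Module.End ℂ V) :=
  Subalgebra.centralizer ℂ ((Set.range fun g : M => ρ g) ∪ {T | Grad ρ W 1 T})

/-- A representation with a homogeneous block for the normal subgroup `N`. -/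
structure Setup (ρ : Representation ℂ M V) (N : Subgroup M) (W : Submodule ℂ V) : Prop where
  invariant : ∀ n : N, ∀ w ∈ W, ρ (n : M) w ∈ W
  bij : ∀ [Fintype (M ⧸ N)], Function.Bijective (tmap ρ N W)
  hom : ∃ (θ : N → ℂ) (b : ℕ), Cfsg.IsIrrCharacter N θ ∧
    (subRep (ρ.comp N.subtype : Representation ℂ N V) W invariant).character = (b : ℂ) • θ
  twist : ∀ [N.Normal] (x : M),
    (subRep (ρ.comp N.subtype : Representation ℂ N V) W invariant).character ∘
      (MulAut.conjNormal x : N ≃* N) =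
        (subRep (ρ.comp N.subtype : Representation ℂ N V) W invariant).character

variable {ρ : Representation ℂ M V} {N : Subgroup M} {W : Submodule ℂ V}

theorem grad_mul {x z : M} {S T : Module.End ℂ V} (hS : Grad ρ W x S) (hT : Grad ρ W z T) :
    Grad ρ W (z * x) (S * T) := by
  refine ⟨(cent ρ).mul_mem hS.1 hT.1, fun w hw => ?_⟩
  obtain ⟨w', hw', he⟩ := hT.2 w hw
  obtain ⟨w'', hw'', he'⟩ := hS.2 w' hw'
  refine ⟨w'', hw'', ?_⟩
  rw [map_mul, Module.End.mul_apply, he', Module.End.mul_apply, ← he,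
    mem_cent_apply.1 hS.1 z w']

theorem grad_one : Grad ρ W 1 1 :=
  ⟨(cent ρ).one_mem, fun w hw => ⟨w, hw, by simp⟩⟩

variable (h : Setup ρ N W)
include h

theorem map_coset {x z : M} (he : x⁻¹ * z ∈ N) : W.map (ρ z) = W.map (ρ x) := by
  have key : ∀ x z : M, x⁻¹ * z ∈ N → W.map (ρ z) ≤ W.map (ρ x) := by
    rintro x z he _ ⟨w, hw, rfl⟩
    refine ⟨ρ (x⁻¹ * z) w, h.invariant ⟨_, he⟩ w hw, ?_⟩
    rw [← Module.End.mul_apply, ← map_mul, mul_inv_cancel_left]
  exact le_antisymm (key x z he) (key z x (by simpa using N.inv_mem he))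

theorem grad_congr {x z : M} (he : x⁻¹ * z ∈ N) {T : Module.End ℂ V} (hT : Grad ρ W z T) :
    Grad ρ W x T :=
  ⟨hT.1, fun w hw => map_coset h he ▸ hT.2 w hw⟩

variable [Finite M]

theorem ext_unique {S T : Module.End ℂ V} (hS : S ∈ cent ρ) (hT : T ∈ cent ρ)
    (he : ∀ w ∈ W, S w = T w) : S = T := by
  haveI := Fintype.ofFinite (M ⧸ N)
  refine LinearMap.ext fun v => ?_
  obtain ⟨f, rfl⟩ := h.bij.2 v
  rw [tmap_apply, map_sum, map_sum]
  refine Finset.sum_congr rfl fun q _ => ?_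
  rw [mem_cent_apply.1 hS, mem_cent_apply.1 hT, he _ (f q).2]

variable [N.Normal]

theorem exists_ext (f : W →ₗ[ℂ] V)
    (hf : ∀ (n : N) (w : W), f ⟨ρ (n : M) w, h.invariant n w w.2⟩ = ρ (n : M) (f w)) :
    ∃ T ∈ cent ρ, ∀ w : W, T (w : V) = f w := by
  classical
  haveI := Fintype.ofFinite (M ⧸ N)
  let E := LinearEquiv.ofBijective (tmap ρ N W) h.bij
  let F : ((M ⧸ N) → W) →ₗ[ℂ] V := ∑ q : M ⧸ N, ρ q.out ∘ₗ f ∘ₗ LinearMap.proj q
  let T : Module.End ℂ V := F ∘ₗ E.symm.toLinearMap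
  have key : ∀ (m : M) (w : W), T (ρ m (w : V)) = ρ m (f w) := by
    intro m w
    obtain ⟨n, hn, hm⟩ := exists_out_mul N m
    have he : E (Pi.single (QuotientGroup.mk m) ⟨ρ n w, h.invariant ⟨n, hn⟩ w w.2⟩) = ρ m w := by
      show tmap ρ N W _ = _
      rw [tmap_single, hm, map_mul]
      conv_lhs => rw [← hm]
      rfl
    show F (E.symm (ρ m w)) = _
    rw [← he, LinearEquiv.symm_apply_apply]
    simp only [F, LinearMap.sum_apply, LinearMap.comp_apply, LinearMap.proj_apply]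
    rw [Finset.sum_eq_single (QuotientGroup.mk m : M ⧸ N) (fun b _ hb => by simp [hb]) (by simp),
      Pi.single_eq_same, hf ⟨n, hn⟩ w]
    conv_rhs => rw [hm, map_mul]
    rfl
  refine ⟨T, mem_cent_apply.2 fun g v => ?_, fun w => ?_⟩
  · obtain ⟨p, rfl⟩ := h.bij.2 v
    simp only [tmap_apply, map_sum]
    refine Finset.sum_congr rfl fun q _ => ?_
    have h1 : ∀ v : V, ρ g (ρ q.out v) = ρ (g * q.out) v := fun v => by rw [map_mul]; rfl
    rw [key, h1, key, h1]
  · simpa using key 1 w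

/-- The graded decomposition. -/
theorem exists_decomp [Fintype (M ⧸ N)] {T : Module.End ℂ V} (hT : T ∈ cent ρ) :
    ∃ A : M ⧸ N → Module.End ℂ V, (∀ q, Grad ρ W q.out (A q)) ∧ T = ∑ q, A q := by
  classical
  let E := LinearEquiv.ofBijective (tmap ρ N W) h.bij
  let c : (M ⧸ N) → (W →ₗ[ℂ] V) := fun q =>
    ρ q.out ∘ₗ W.subtype ∘ₗ LinearMap.proj q ∘ₗ E.symm.toLinearMap ∘ₗ T ∘ₗ W.subtype
  have hc : ∀ q (n : N) (w : W), c q ⟨ρ (n : M) w, h.invariant n w w.2⟩ = ρ (n : M) (c q w) := by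
    intro q n w
    have hn : ∀ q : M ⧸ N, q.out⁻¹ * (n : M) * q.out ∈ N := fun q => by
      simpa using (inferInstance : N.Normal).conj_mem (n : M) n.2 q.out⁻¹
    set p := E.symm (T w) with hp
    have he : E (fun q => ⟨ρ (q.out⁻¹ * (n : M) * q.out) (p q),
        h.invariant ⟨_, hn q⟩ _ (p q).2⟩) = ρ (n : M) (E p) := by
      show tmap ρ N W _ = ρ (n : M) (tmap ρ N W p)
      simp only [tmap_apply, map_sum]
      refine Finset.sum_congr rfl fun q _ => ?_
      simp only [← Module.End.mul_apply, ← map_mul]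
      congr 2
      group
    rw [hp, LinearEquiv.apply_symm_apply, ← mem_cent_apply.1 hT] at he
    show ρ q.out ((E.symm (T (ρ (n : M) w))) q : V) = ρ (n : M) (ρ q.out (p q : V))
    rw [← he, LinearEquiv.symm_apply_apply]
    simp only [← Module.End.mul_apply, ← map_mul, hp]
    congr 2
    group
  choose A hA hAc using fun q => exists_ext h (c q) (hc q)
  refine ⟨A, fun q => ⟨hA q, fun w hw => ⟨_, SetLike.coe_mem _, (hAc q ⟨w, hw⟩).symm⟩⟩, ?_⟩
  refine ext_unique h hT ((cent ρ).sum_mem fun q _ => hA q) fun w hw => ?_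
  rw [LinearMap.sum_apply, Finset.sum_congr rfl fun q _ => hAc q ⟨w, hw⟩]
  conv_lhs => rw [← E.apply_symm_apply (T w)]
  exact tmap_apply ρ N W _

/-- Uniqueness of the graded decomposition. -/
theorem eq_zero_of_sum [Fintype (M ⧸ N)] {A : M ⧸ N → Module.End ℂ V}
    (hA : ∀ q, Grad ρ W q.out (A q)) (hsum : ∑ q, A q = 0) (q : M ⧸ N) : A q = 0 := by
  refine ext_unique h (hA q).1 (cent ρ).zero_mem fun w hw => ?_
  choose p hp hpe using fun q => (hA q).2 w hw
  have h0 : tmap ρ N W (fun q => ⟨p q, hp q⟩) = tmap ρ N W 0 := by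
    rw [map_zero, tmap_apply]
    calc ∑ q, ρ q.out (p q) = ∑ q, A q w := Finset.sum_congr rfl fun q _ => hpe q
      _ = 0 := by rw [← LinearMap.sum_apply, hsum, LinearMap.zero_apply]
  have h1 : p q = 0 := congrArg Subtype.val (congrFun (h.bij.1 h0) q)
  rw [← hpe q, h1, map_zero, LinearMap.zero_apply]

/-- The representation of `N` on the block. -/
abbrev sub : Representation ℂ N W :=
  subRep (ρ.comp N.subtype : Representation ℂ N V) W h.invariant

/-- An endomorphism of the block commuting with `N` extends to degree one. -/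
theorem exists_grad_one {s : Module.End ℂ W} (hs : s ∈ cent (sub h)) :
    ∃ S, Grad ρ W 1 S ∧ ∀ w : W, S (w : V) = (s w : V) := by
  obtain ⟨S, hS, hSw⟩ := exists_ext h (W.subtype ∘ₗ s) fun n w =>
    congrArg Subtype.val (mem_cent_apply.1 hs n w)
  refine ⟨S, ⟨hS, fun w hw => ⟨(s ⟨w, hw⟩ : V), SetLike.coe_mem _, ?_⟩⟩, hSw⟩
  rw [map_one, hSw ⟨w, hw⟩]
  rfl

/-- Degree one restricts to the block. -/
theorem exists_restrict {S : Module.End ℂ V} (hS : Grad ρ W 1 S) :
    ∃ s ∈ cent (sub h), ∀ w : W, S (w : V) = (s w : V) := by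
  have hmem : ∀ w ∈ W, S w ∈ W := fun w hw => by
    obtain ⟨w', hw', he⟩ := hS.2 w hw
    rw [map_one] at he
    exact he ▸ hw'
  exact ⟨S.restrict hmem, mem_cent_apply.2 fun n w =>
    Subtype.ext (mem_cent_apply.1 hS.1 (n : M) (w : V)), fun w => rfl⟩

/-- A degree-one element commuting with degree one is scalar. -/
theorem grad_one_center [FiniteDimensional ℂ V] {S : Module.End ℂ V} (hS : Grad ρ W 1 S)
    (hc : ∀ U, Grad ρ W 1 U → U * S = S * U) : ∃ c : ℂ, S = c • 1 := by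
  obtain ⟨θ, b, hθ, hb⟩ := h.hom
  obtain ⟨s, hs, hsw⟩ := exists_restrict h hS
  obtain ⟨c, hc'⟩ := center_scalar (sub h) hθ hb hs fun t ht => LinearMap.ext fun w => by
    obtain ⟨T, hT, hTw⟩ := exists_grad_one h ht
    have h1 := DFunLike.congr_fun (hc T hT) (w : V)
    rw [Module.End.mul_apply, Module.End.mul_apply, hsw, hTw, hTw, hsw] at h1
    exact Subtype.ext h1
  refine ⟨c, ext_unique h hS.1 ((cent ρ).smul_mem (cent ρ).one_mem c) fun w hw => ?_⟩
  rw [hsw ⟨w, hw⟩, hc']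
  rfl

/-- Every coset has an invertible element commuting with degree one. -/
theorem exists_unit [FiniteDimensional ℂ V] (x : M) :
    ∃ T T' : Module.End ℂ V, Grad ρ W x T ∧ Grad ρ W x⁻¹ T' ∧ T * T' = 1 ∧ T' * T = 1 ∧
      ∀ U, Grad ρ W 1 U → U * T = T * U := by
  obtain ⟨θ, b, hθ, hb⟩ := h.hom
  let α : N ≃* N := MulAut.conjNormal x⁻¹
  let σ' : Representation ℂ N W := (sub h).comp α.toMonoidHom
  obtain ⟨I⟩ := nonempty_equiv_of_character_eq (sub h) σ' (by
    funext n
    exact (congrFun (h.twist x⁻¹) n).symm)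
  have hI : ∀ (n : N) (w : W), I.toLinearEquiv (sub h n w) = sub h (α n) (I.toLinearEquiv w) :=
    fun n w => DFunLike.congr_fun (I.toIntertwiningMap.isIntertwining' n) w
  have hI' : ∀ (n : N) (w : W),
      I.toLinearEquiv.symm (sub h (α n) w) = sub h n (I.toLinearEquiv.symm w) := fun n w => by
    apply I.toLinearEquiv.injective
    rw [hI, LinearEquiv.apply_symm_apply, LinearEquiv.apply_symm_apply]
  have hα : ∀ n : N, ((α n : N) : M) = x⁻¹ * n * x := fun n => by simp [α]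
  obtain ⟨a, ha, haw⟩ := exists_ext h (ρ x ∘ₗ W.subtype ∘ₗ I.toLinearEquiv.toLinearMap)
    fun n w => by
      show ρ x ((I.toLinearEquiv (sub h n w) : W) : V) =
        ρ (n : M) (ρ x ((I.toLinearEquiv w : W) : V))
      rw [hI]
      show ρ x (ρ ((α n : N) : M) _) = _
      rw [hα, ← Module.End.mul_apply, ← Module.End.mul_apply, ← map_mul, ← map_mul]
      congr 2
      group
  obtain ⟨a', ha', haw'⟩ := exists_ext h (ρ x⁻¹ ∘ₗ W.subtype ∘ₗ I.toLinearEquiv.symm.toLinearMap)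
    fun n w => by
      show ρ x⁻¹ ((I.toLinearEquiv.symm (sub h n w) : W) : V) =
        ρ (n : M) (ρ x⁻¹ ((I.toLinearEquiv.symm w : W) : V))
      have hn : (n : N) = α (α.symm n) := (α.apply_symm_apply n).symm
      conv_lhs => rw [hn, hI']
      show ρ x⁻¹ (ρ ((α.symm n : N) : M) _) = _
      have hn' : ((α.symm n : N) : M) = x * n * x⁻¹ := by
        have h1 := hα (α.symm n)
        rw [MulEquiv.apply_symm_apply] at h1
        rw [h1]
        group
      rw [hn', ← Module.End.mul_apply, ← Module.End.mul_apply, ← map_mul, ← map_mul]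
      congr 2
      group
  have haa : a * a' = 1 := by
    refine ext_unique h ((cent ρ).mul_mem ha ha') (cent ρ).one_mem fun w hw => ?_
    rw [Module.End.mul_apply, haw' ⟨w, hw⟩]
    show a (ρ x⁻¹ ((I.toLinearEquiv.symm ⟨w, hw⟩ : W) : V)) = w
    rw [mem_cent_apply.1 ha, haw]
    show ρ x⁻¹ (ρ x ((I.toLinearEquiv (I.toLinearEquiv.symm ⟨w, hw⟩) : W) : V)) = w
    rw [LinearEquiv.apply_symm_apply, ← Module.End.mul_apply, ← map_mul, inv_mul_cancel, map_one]
    rfl
  have ha'a : a' * a = 1 := by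
    refine ext_unique h ((cent ρ).mul_mem ha' ha) (cent ρ).one_mem fun w hw => ?_
    rw [Module.End.mul_apply, haw ⟨w, hw⟩]
    show a' (ρ x ((I.toLinearEquiv ⟨w, hw⟩ : W) : V)) = w
    rw [mem_cent_apply.1 ha', haw']
    show ρ x (ρ x⁻¹ ((I.toLinearEquiv.symm (I.toLinearEquiv ⟨w, hw⟩) : W) : V)) = w
    rw [LinearEquiv.symm_apply_apply, ← Module.End.mul_apply, ← map_mul, mul_inv_cancel, map_one]
    rfl
  have hga : Grad ρ W x a :=
    ⟨ha, fun w hw => ⟨_, SetLike.coe_mem _, (haw ⟨w, hw⟩).symm⟩⟩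
  have hga' : Grad ρ W x⁻¹ a' :=
    ⟨ha', fun w hw => ⟨_, SetLike.coe_mem _, (haw' ⟨w, hw⟩).symm⟩⟩
  -- conjugation by `a` on degree one
  obtain ⟨s, s', hs, hs', hss, hs's, hconj⟩ := exists_inner (sub h) hθ hb
    (I.toLinearEquiv.conjAlgEquiv ℂ) fun t ht => mem_cent_apply.2 fun n w => by
      show I.toLinearEquiv (t (I.toLinearEquiv.symm (sub h n w))) =
        sub h n (I.toLinearEquiv (t (I.toLinearEquiv.symm w)))
      have hn : (n : N) = α (α.symm n) := (α.apply_symm_apply n).symm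
      conv_lhs => rw [hn, hI', mem_cent_apply.1 ht, hI, ← hn]
  obtain ⟨S, hS, hSw⟩ := exists_grad_one h hs
  obtain ⟨S', hS', hSw'⟩ := exists_grad_one h hs'
  have hS1 : S * S' = 1 := ext_unique h ((cent ρ).mul_mem hS.1 hS'.1) (cent ρ).one_mem
    fun w hw => by
      rw [Module.End.mul_apply, hSw' ⟨w, hw⟩, hSw, ← Module.End.mul_apply, hss]
      rfl
  have hS2 : S' * S = 1 := ext_unique h ((cent ρ).mul_mem hS'.1 hS.1) (cent ρ).one_mem
    fun w hw => by
      rw [Module.End.mul_apply, hSw ⟨w, hw⟩, hSw', ← Module.End.mul_apply, hs's]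
      rfl
  refine ⟨S' * a, a' * S, grad_congr h (by simp) (grad_mul hS' hga),
    grad_congr h (by simp) (grad_mul hga' hS), ?_, ?_, fun U hU => ?_⟩
  · rw [mul_assoc, ← mul_assoc a, haa, one_mul, hS2]
  · rw [mul_assoc, ← mul_assoc S, hS1, one_mul, ha'a]
  obtain ⟨t, ht, htw⟩ := exists_restrict h hU
  have key : a * U * a' = S * U * S' := by
    refine ext_unique h ((cent ρ).mul_mem ((cent ρ).mul_mem ha hU.1) ha')
      ((cent ρ).mul_mem ((cent ρ).mul_mem hS.1 hU.1) hS'.1) fun w hw => ?_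
    have h1 : I.toLinearEquiv (t (I.toLinearEquiv.symm ⟨w, hw⟩)) = s (t (s' ⟨w, hw⟩)) :=
      DFunLike.congr_fun (hconj t ht) ⟨w, hw⟩
    rw [Module.End.mul_apply, Module.End.mul_apply, Module.End.mul_apply, Module.End.mul_apply,
      hSw' ⟨w, hw⟩, htw, hSw, haw' ⟨w, hw⟩]
    show a (U (ρ x⁻¹ ((I.toLinearEquiv.symm ⟨w, hw⟩ : W) : V))) = _
    rw [mem_cent_apply.1 hU.1, htw, mem_cent_apply.1 ha, haw]
    show ρ x⁻¹ (ρ x ((I.toLinearEquiv (t (I.toLinearEquiv.symm ⟨w, hw⟩)) : W) : V)) = _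
    rw [h1, ← Module.End.mul_apply, ← map_mul, inv_mul_cancel, map_one]
    rfl
  calc U * (S' * a) = S' * (S * U * S') * a := by
        rw [← mul_assoc S' (S * U), ← mul_assoc S' S, hS2, one_mul, mul_assoc U S']
    _ = S' * (a * U * a') * a := by rw [key]
    _ = S' * a * U := by rw [mul_assoc S', mul_assoc (a * U) a', ha'a, mul_one, mul_assoc]

/-- The part commuting with degree one has one dimension in each coset. -/
theorem line [FiniteDimensional ℂ V] {x : M} {T T' U : Module.End ℂ V} (hT : Grad ρ W x T)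
    (hT' : Grad ρ W x⁻¹ T') (hTT : T * T' = 1) (hT'T : T' * T = 1)
    (hTc : ∀ A, Grad ρ W 1 A → A * T = T * A) (hU : Grad ρ W x U)
    (hUc : ∀ A, Grad ρ W 1 A → A * U = U * A) : ∃ c : ℂ, U = c • T := by
  obtain ⟨c, hc⟩ := grad_one_center h (S := U * T') (grad_congr h (by simp) (grad_mul hU hT'))
    fun A hA => by
      have h1 : A * T' = T' * A := by
        calc A * T' = T' * (T * A) * T' := by rw [← mul_assoc T', hT'T, one_mul]
          _ = T' * (A * T) * T' := by rw [hTc A hA]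
          _ = T' * A := by rw [mul_assoc T', mul_assoc A, hTT, mul_one]
      rw [← mul_assoc, hUc A hA, mul_assoc, h1, mul_assoc]
  refine ⟨c, ?_⟩
  calc U = U * T' * T := by rw [mul_assoc, hT'T, mul_one]
    _ = _ := by rw [hc, smul_mul_assoc, one_mul]

omit h [N.Normal] [Finite M] in
theorem mem_rest {T : Module.End ℂ V} :
    T ∈ rest ρ W ↔ T ∈ cent ρ ∧ ∀ A, Grad ρ W 1 A → A * T = T * A := by
  rw [rest, Subalgebra.mem_centralizer_iff, mem_cent]
  constructor
  · exact fun h => ⟨fun g => h _ (Or.inl ⟨g, rfl⟩), fun A hA => h A (Or.inr hA)⟩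
  · rintro ⟨h1, h2⟩ A (⟨g, rfl⟩ | hA)
    · exact h1 g
    · exact h2 A hA

/-- The dimension of the part commuting with degree one is the index of `N`. -/
theorem finrank_rest [FiniteDimensional ℂ V] (hne : W ≠ ⊥) :
    finrank ℂ (rest ρ W) = N.index := by
  classical
  haveI := Fintype.ofFinite (M ⧸ N)
  choose T T' hT hT' hTT hT'T hTc using fun q : M ⧸ N => exists_unit h q.out
  obtain ⟨w₀, hw₀, hw0⟩ := (Submodule.ne_bot_iff W).1 hne
  let Φ : ((M ⧸ N) → ℂ) →ₗ[ℂ] rest ρ W :=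
    ∑ q : M ⧸ N, LinearMap.smulRight (LinearMap.proj q)
      (⟨T q, mem_rest.2 ⟨(hT q).1, hTc q⟩⟩ : rest ρ W)
  have hΦ : ∀ c, ((Φ c : rest ρ W) : Module.End ℂ V) = ∑ q, c q • T q := fun c => by simp [Φ]
  have hinj : Function.Injective Φ := by
    rw [← LinearMap.ker_eq_bot, LinearMap.ker_eq_bot']
    intro c hc
    funext q
    have h1 := eq_zero_of_sum h (A := fun q => c q • T q)
      (fun q => ⟨(cent ρ).smul_mem (hT q).1 _, fun w hw => Submodule.smul_mem _ _ ((hT q).2 w hw)⟩)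
      (by rw [← hΦ, hc]; rfl) q
    refine (smul_eq_zero.1 h1).resolve_right fun h0 => hw0 ?_
    have h2 := DFunLike.congr_fun (hTT q) w₀
    rw [h0, zero_mul] at h2
    exact h2.symm
  have hsurj : Function.Surjective Φ := by
    intro U
    obtain ⟨hUc, hU1⟩ := mem_rest.1 U.2
    obtain ⟨A, hA, hsum⟩ := exists_decomp h hUc
    have hAc : ∀ q, ∀ B, Grad ρ W 1 B → B * A q = A q * B := by
      intro q B hB
      refine sub_eq_zero.1 (eq_zero_of_sum h (A := fun q => B * A q - A q * B) (fun q => ?_) ?_ q)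
      · have h1 := grad_congr h (by simp) (grad_mul hB (hA q)) (x := q.out)
        have h2 := grad_congr h (by simp) (grad_mul (hA q) hB) (x := q.out)
        exact ⟨(cent ρ).sub_mem h1.1 h2.1,
          fun w hw => Submodule.sub_mem _ (h1.2 w hw) (h2.2 w hw)⟩
      · rw [Finset.sum_sub_distrib, ← Finset.mul_sum, ← Finset.sum_mul, ← hsum, hU1 B hB, sub_self]
    choose c hc using fun q =>
      line h (hT q) (hT' q) (hTT q) (hT'T q) (hTc q) (hA q) (hAc q)
    refine ⟨c, Subtype.ext ?_⟩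
    rw [hΦ, hsum]
    exact Finset.sum_congr rfl fun q _ => (hc q).symm
  rw [← (LinearEquiv.ofBijective Φ ⟨hinj, hsurj⟩).finrank_eq, Module.finrank_pi,
    Subgroup.index_eq_card, Nat.card_eq_fintype_card]

/-- An element of the centralizer commuting with `rest` and degree one is central in it. -/
theorem commute_cent [FiniteDimensional ℂ V] {Z : Module.End ℂ V}
    (h1 : ∀ A, Grad ρ W 1 A → A * Z = Z * A) (h2 : ∀ A ∈ rest ρ W, A * Z = Z * A)
    {A : Module.End ℂ V} (hA : A ∈ cent ρ) : A * Z = Z * A := by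
  classical
  haveI := Fintype.ofFinite (M ⧸ N)
  obtain ⟨B, hB, hsum⟩ := exists_decomp h hA
  rw [hsum, Finset.sum_mul, Finset.mul_sum]
  refine Finset.sum_congr rfl fun q _ => ?_
  obtain ⟨T, T', hT, hT', -, hT'T, hTc⟩ := exists_unit h q.out
  have he : B q = B q * T' * T := by rw [mul_assoc, hT'T, mul_one]
  have hBT : Grad ρ W 1 (B q * T') := grad_congr h (by simp) (grad_mul (hB q) hT')
  rw [he, mul_assoc (B q * T'), h2 T (mem_rest.2 ⟨hT.1, hTc⟩), ← mul_assoc, h1 _ hBT, mul_assoc]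

/-- A nonzero element lies in the graded piece of one coset only. -/
theorem coset_eq {x z : M} {T : Module.End ℂ V} (hT : Grad ρ W x T) (hT' : Grad ρ W z T)
    (hne : T ≠ 0) : x⁻¹ * z ∈ N := by
  classical
  haveI := Fintype.ofFinite (M ⧸ N)
  by_contra hc
  refine hne (ext_unique h hT.1 (cent ρ).zero_mem fun w hw => ?_)
  obtain ⟨a, ha, hae⟩ := hT.2 w hw
  obtain ⟨b, hb, hbe⟩ := hT'.2 w hw
  have hne' : (QuotientGroup.mk x : M ⧸ N) ≠ QuotientGroup.mk z := fun he => hc (QuotientGroup.eq.1 he)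
  obtain ⟨n, hn, hx⟩ := exists_out_mul N x
  obtain ⟨n', hn', hz⟩ := exists_out_mul N z
  let a' : W := ⟨ρ n a, h.invariant ⟨n, hn⟩ a ha⟩
  let b' : W := ⟨ρ n' b, h.invariant ⟨n', hn'⟩ b hb⟩
  have h1 : tmap ρ N W (Pi.single (QuotientGroup.mk x) a') = T w := by
    rw [tmap_single, ← hae]
    conv_rhs => rw [hx, map_mul]
    rfl
  have h2 : tmap ρ N W (Pi.single (QuotientGroup.mk z) b') = T w := by
    rw [tmap_single, ← hbe]
    conv_rhs => rw [hz, map_mul]
    rfl
  have h3 := congrFun (h.bij.1 (h1.trans h2.symm)) (QuotientGroup.mk x)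
  rw [Pi.single_eq_same, Pi.single_eq_of_ne hne'] at h3
  rw [← h1, h3, Pi.single_zero, map_zero, LinearMap.zero_apply]

end Cfsg.Agent.CharTheory.GradedEnd
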