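import Mathlib
import Cfsg.Agent.Lib.CharTheory.GradedEnd
import Cfsg.Agent.Lib.CharTheory.Basics

/-!
Auxiliary facts for Berger's theorem: conjugation automorphisms, generalised eigenspaces,
homogeneous subrepresentations.
-/

set_option autoImplicit false

namespace Cfsg.Agent.CharTheory.Berger

open Cfsg.Agent.Characters Module HomCentralizer Blocks GradedEnd

universe u v

variable {G : Type u} [Group G] {V : Type v} [AddCommGroup V] [Module ℂ V]

/-- The linear automorphism given by `g`. -/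
noncomputable def actEquiv (ρ : Representation ℂ G V) (g : G) : V ≃ₗ[ℂ] V :=
  LinearEquiv.ofLinear (ρ g) (ρ g⁻¹)
    (by rw [← Module.End.mul_eq_comp, ← map_mul, mul_inv_cancel, map_one]; rfl)
    (by rw [← Module.End.mul_eq_comp, ← map_mul, inv_mul_cancel, map_one]; rfl)

/-- Conjugation by `g`. -/
noncomputable def conjEnd (ρ : Representation ℂ G V) (g : G) :
    Module.End ℂ V ≃ₐ[ℂ] Module.End ℂ V :=
  (actEquiv ρ g).conjAlgEquiv ℂ

theorem conjEnd_apply (ρ : Representation ℂ G V) (g : G) (T : Module.End ℂ V) :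
    conjEnd ρ g T = ρ g * T * ρ g⁻¹ := rfl

theorem conjEnd_one (ρ : Representation ℂ G V) (T : Module.End ℂ V) : conjEnd ρ 1 T = T := by
  simp [conjEnd_apply]

theorem conjEnd_conjEnd (ρ : Representation ℂ G V) (g h : G) (T : Module.End ℂ V) :
    conjEnd ρ g (conjEnd ρ h T) = conjEnd ρ (g * h) T := by
  simp [conjEnd_apply, mul_assoc]

theorem mul_eq_conjEnd_mul (ρ : Representation ℂ G V) (g : G) (T : Module.End ℂ V) :
    ρ g * T = conjEnd ρ g T * ρ g := by
  rw [conjEnd_apply, mul_assoc, ← map_mul, inv_mul_cancel, map_one, mul_one]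

variable {ρ : Representation ℂ G V}

theorem conjEnd_mem_cent {M : Subgroup G} [hM : M.Normal] (g : G) {T : Module.End ℂ V}
    (hT : T ∈ cent (ρ.comp M.subtype : Representation ℂ M V)) :
    conjEnd ρ g T ∈ cent (ρ.comp M.subtype : Representation ℂ M V) := by
  rw [mem_cent] at hT ⊢
  intro m
  have hm : g⁻¹ * (m : G) * g ∈ M := hM.conj_mem' _ m.2 g
  have h1 : ρ (g⁻¹ * (m : G) * g) * T = T * ρ (g⁻¹ * (m : G) * g) := hT ⟨_, hm⟩
  have h2 := congrArg (conjEnd ρ g) h1
  simp only [map_mul (conjEnd ρ g)] at h2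
  have h3 : conjEnd ρ g (ρ (g⁻¹ * (m : G) * g)) = ρ (m : G) := by
    rw [conjEnd_apply, ← map_mul, ← map_mul]
    congr 1
    group
  rw [h3] at h2
  exact h2

theorem conjEnd_fix {M : Subgroup G} {m : G} (hm : m ∈ M) {T : Module.End ℂ V}
    (hT : T ∈ cent (ρ.comp M.subtype : Representation ℂ M V)) : conjEnd ρ m T = T := by
  have h1 : ρ m * T = T * ρ m := mem_cent.1 hT ⟨m, hm⟩
  rw [conjEnd_apply, h1, mul_assoc, ← map_mul, mul_inv_cancel, map_one, mul_one]

/-- An intertwining map carries generalised eigenspaces into generalised eigenspaces. -/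
theorem mem_maxGenEigenspace_of_comm {e f f' : Module.End ℂ V} (he : e * f = f' * e) {μ : ℂ}
    {x : V} (hx : x ∈ f.maxGenEigenspace μ) : e x ∈ f'.maxGenEigenspace μ := by
  rw [Module.End.mem_maxGenEigenspace] at hx ⊢
  obtain ⟨k, hk⟩ := hx
  refine ⟨k, ?_⟩
  have h1 : SemiconjBy e (f - μ • 1) (f' - μ • 1) := by
    show e * (f - μ • 1) = (f' - μ • 1) * e
    rw [mul_sub, sub_mul, he, mul_smul_comm, smul_mul_assoc, mul_one, one_mul]
  have h2 : (f' - μ • 1) ^ k * e = e * (f - μ • 1) ^ k := (h1.pow_right k).eq.symm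
  rw [← Module.End.mul_apply, h2, Module.End.mul_apply, hk, map_zero]

variable [Finite G] [FiniteDimensional ℂ V]

/-- An invariant subspace of a homogeneous representation is homogeneous. -/
theorem exists_hom_sub (σ : Representation ℂ G V) {θ : G → ℂ} (hθ : Cfsg.IsIrrCharacter G θ)
    {e : ℕ} (hσ : σ.character = (e : ℂ) • θ) (U : Submodule ℂ V) (hU : IsInvariantUnder σ U) :
    ∃ b : ℕ, (subRep σ U hU).character = (b : ℂ) • θ := by
  classical
  haveI := Fintype.ofFinite G
  haveI := Fintype.ofFinite (Cfsg.IrrCharacter G)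
  obtain ⟨U', hU', hc⟩ := exists_invariant_compl σ hU
  have hadd := character_eq_add_of_isCompl σ hU hU' hc
  have hchar := isCharacter_character (subRep σ U hU)
  obtain ⟨b, hb⟩ := classInner_char_nat hchar (isCharacter_of_isIrr hθ)
  refine ⟨b, ?_⟩
  conv_lhs => rw [classFun_eq_sum (char_isClassFunction hchar)]
  rw [Finset.sum_eq_single (⟨θ, hθ⟩ : Cfsg.IrrCharacter G), hb]
  · intro ψ _ hne
    obtain ⟨k, hk⟩ := classInner_char_nat hchar (irr_isCharacter ψ)
    obtain ⟨k', hk'⟩ := classInner_char_nat (isCharacter_character (subRep σ U' hU'))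
      (irr_isCharacter ψ)
    have h1 : ((k + k' : ℕ) : ℂ) = 0 := by
      rw [Nat.cast_add, ← hk, ← hk', ← classInner_add_left, ← hadd, hσ, classInner_smul_left,
        classInner_isIrr_ne hθ ψ.2 (fun he => hne (Subtype.ext he.symm)), mul_zero]
    have h2 : k + k' = 0 := by exact_mod_cast h1
    rw [hk, show k = 0 by omega, Nat.cast_zero, zero_smul]
  · simp

end Cfsg.Agent.CharTheory.Berger
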