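import Mathlib
import Cfsg.Agent.Lib.CharTheory.BergerAux

/-!
The graded setup attached to a block, and the operator inducing an outer automorphism.
-/

set_option autoImplicit false

namespace Cfsg.Agent.CharTheory.Berger

open Cfsg.Agent.Characters Module HomCentralizer Blocks GradedEnd

universe u v

variable {G : Type u} [Group G] {V : Type v} [AddCommGroup V] [Module ℂ V]
  {ρ : Representation ℂ G V}

/-- The restriction of `ρ` to `M` is a multiple of an irreducible character. -/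
def Homogeneous (ρ : Representation ℂ G V) (M : Subgroup G) : Prop :=
  ∃ (θ : M → ℂ) (e : ℕ), Cfsg.IsIrrCharacter M θ ∧
    (fun m : M => ρ.character m) = (e : ℂ) • θ

variable [Finite G] [FiniteDimensional ℂ V]

theorem exists_setup (hρ : ρ.IsIrreducible) {N M Y : Subgroup G} [N.Normal]
    (hNM : N ≤ M) (hNY : N ≤ Y) (hidx : (N.subgroupOf M).index = Y.index)
    (hcov : ∀ g : G, ∃ m ∈ M, ∃ y ∈ Y, g = m * y) {W : Submodule ℂ V} (hW : IsBlock ρ Y W)
    (hq : Homogeneous ρ N) :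
    Setup (ρ.comp M.subtype : Representation ℂ M V) (N.subgroupOf M) W := by
  classical
  obtain ⟨θ, e, hθ, he⟩ := hq
  let ρM : Representation ℂ M V := ρ.comp M.subtype
  have hinv : ∀ n : N.subgroupOf M, ∀ w ∈ W, ρM (n : M) w ∈ W := fun n w hw =>
    hW.invariant _ (hNY n.2) w hw
  let ι := Subgroup.subgroupOfEquivOfLe hNM
  let θ' : N.subgroupOf M → ℂ := θ ∘ ι
  have hθ' : Cfsg.IsIrrCharacter (N.subgroupOf M) θ' := Basics.isIrrCharacter_comp_equiv ι hθ
  have hchar : Representation.character (ρM.comp (N.subgroupOf M).subtype :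
      Representation ℂ (N.subgroupOf M) V) = (e : ℂ) • θ' := by
    funext n
    exact congrFun he (ι n)
  obtain ⟨b, hb⟩ := exists_hom_sub _ hθ' hchar W hinv
  haveI := hρ
  haveI := nontrivial_of_isIrreducible ρ
  have he0 : (e : ℂ) ≠ 0 := by
    intro h0
    have h1 := congrFun he 1
    rw [Pi.smul_apply, h0, zero_smul, Subgroup.coe_one, ρ.char_one, Nat.cast_eq_zero] at h1
    exact Module.finrank_pos.ne' h1
  refine ⟨hinv, @fun _ => ?_, ⟨θ', b, hθ', hb⟩, @fun _ x => ?_⟩
  · haveI := Fintype.ofFinite (G ⧸ Y)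
    have hsurj : Function.Surjective (tmap ρM (N.subgroupOf M) W) := by
      rw [← LinearMap.range_eq_top, eq_top_iff]
      intro v _
      obtain ⟨f, rfl⟩ := tmap_surjective hρ hW.invariant hW.ne_bot v
      rw [tmap_apply]
      refine Submodule.sum_mem _ fun q _ => ?_
      obtain ⟨m, hm, y, hy, hg⟩ := hcov q.out
      rw [hg, map_mul, Module.End.mul_apply]
      exact mem_range_tmap (ρ := ρM) (fun n hn w hw => hinv ⟨n, hn⟩ w hw) ⟨m, hm⟩
        (hW.invariant y hy _ (f q).2)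
    have h1 : finrank ℂ ((M ⧸ N.subgroupOf M) → W) ≤ finrank ℂ V := by
      rw [Module.finrank_pi_fintype, Finset.sum_const, Finset.card_univ, smul_eq_mul,
        ← Nat.card_eq_fintype_card, ← Subgroup.index_eq_card, hidx]
      exact hW.dim_le
    have h3 := LinearMap.finrank_range_add_finrank_ker (tmap ρM (N.subgroupOf M) W)
    rw [LinearMap.range_eq_top.2 hsurj, finrank_top] at h3
    refine ⟨LinearMap.ker_eq_bot.1 ?_, hsurj⟩
    rw [← Submodule.finrank_eq_zero (R := ℂ)]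
    show finrank ℂ (LinearMap.ker (tmap ρM (N.subgroupOf M) W)) = 0
    omega
  · rw [hb]
    funext n
    show (b : ℂ) * θ' _ = (b : ℂ) * θ' n
    congr 1
    refine mul_left_cancel₀ he0 ?_
    have h1 := congrFun he (ι ((MulAut.conjNormal x : _ ≃* _) n))
    have h2 := congrFun he (ι n)
    simp only [Pi.smul_apply, smul_eq_mul] at h1 h2
    refine h1.symm.trans (Eq.trans ?_ h2)
    show ρ.character (((x : M) : G) * ((n : M) : G) * ((x : M) : G)⁻¹) = ρ.character ((n : M) : G)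
    exact char_isClassFunction (isCharacter_character ρ) _ _

variable {N M Y : Subgroup G} [N.Normal] [M.Normal] {W : Submodule ℂ V}

theorem grad_conjEnd (hWY : ∀ y ∈ Y, ∀ w ∈ W, ρ y w ∈ W) {y : G} (hy : y ∈ Y) {x : M}
    {T : Module.End ℂ V} (hT : Grad (ρ.comp M.subtype : Representation ℂ M V) W x T) :
    Grad (ρ.comp M.subtype : Representation ℂ M V) W
      ⟨y * x * y⁻¹, (inferInstance : M.Normal).conj_mem _ x.2 y⟩ (conjEnd ρ y T) := by
  refine ⟨conjEnd_mem_cent y hT.1, fun w hw => ?_⟩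
  obtain ⟨w', hw', he⟩ := hT.2 _ (hWY _ (inv_mem hy) w hw)
  refine ⟨ρ y w', hWY y hy _ hw', ?_⟩
  rw [conjEnd_apply, Module.End.mul_apply, Module.End.mul_apply, ← he]
  show ρ (y * (x : G) * y⁻¹) (ρ y w') = ρ y (ρ (x : G) w')
  rw [← Module.End.mul_apply, ← Module.End.mul_apply, ← map_mul, ← map_mul, inv_mul_cancel_right]

theorem rest_conjEnd (hWY : ∀ y ∈ Y, ∀ w ∈ W, ρ y w ∈ W) {y : G} (hy : y ∈ Y)
    {T : Module.End ℂ V} (hT : T ∈ rest (ρ.comp M.subtype : Representation ℂ M V) W) :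
    conjEnd ρ y T ∈ rest (ρ.comp M.subtype : Representation ℂ M V) W := by
  rw [mem_rest] at hT ⊢
  refine ⟨conjEnd_mem_cent y hT.1, fun A hA => ?_⟩
  have h1 := grad_conjEnd hWY (inv_mem hy) hA
  have he : (⟨y⁻¹ * ((1 : M) : G) * y⁻¹⁻¹,
      (inferInstance : M.Normal).conj_mem _ (1 : M).2 y⁻¹⟩ : M) = 1 := Subtype.ext (by simp)
  rw [he] at h1
  have h2 := congrArg (conjEnd ρ y) (hT.2 _ h1)
  rwa [map_mul, map_mul, conjEnd_conjEnd, mul_inv_cancel, conjEnd_one] at h2

/-- On the part commuting with degree one, `u` acts as conjugation by one of its elements. -/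
theorem exists_inner_rest (h : Setup (ρ.comp M.subtype : Representation ℂ M V) (N.subgroupOf M) W)
    {θ : M → ℂ} (hθ : Cfsg.IsIrrCharacter M θ) {b : ℕ}
    (hb : Representation.character (ρ.comp M.subtype : Representation ℂ M V) = (b : ℂ) • θ)
    {u : G} (hu : ∀ w ∈ W, ρ u w ∈ W) (hu' : ∀ w ∈ W, ρ u⁻¹ w ∈ W) :
    ∃ F F' : Module.End ℂ V, F ∈ rest (ρ.comp M.subtype : Representation ℂ M V) W ∧
      F' ∈ rest (ρ.comp M.subtype : Representation ℂ M V) W ∧ F * F' = 1 ∧ F' * F = 1 ∧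
      ∀ T ∈ rest (ρ.comp M.subtype : Representation ℂ M V) W, conjEnd ρ u T = F * T * F' := by
  let ρM : Representation ℂ M V := ρ.comp M.subtype
  obtain ⟨g, g', hg, hg', hgg, hg'g, hgc⟩ :=
    exists_inner ρM hθ hb (conjEnd ρ u) fun T hT => conjEnd_mem_cent u hT
  obtain ⟨θ₀, b₀, hθ₀, hb₀⟩ := h.hom
  let eW : W ≃ₗ[ℂ] W := LinearEquiv.ofLinear ((ρ u).restrict hu) ((ρ u⁻¹).restrict hu')
    (LinearMap.ext fun w => Subtype.ext (by
      show ρ u (ρ u⁻¹ (w : V)) = w
      rw [← Module.End.mul_apply, ← map_mul, mul_inv_cancel, map_one]; rfl))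
    (LinearMap.ext fun w => Subtype.ext (by
      show ρ u⁻¹ (ρ u (w : V)) = w
      rw [← Module.End.mul_apply, ← map_mul, inv_mul_cancel, map_one]; rfl))
  obtain ⟨s, s', hs, hs', hss, hs's, hsc⟩ := exists_inner (sub h) hθ₀ hb₀ (eW.conjAlgEquiv ℂ)
    fun t ht => mem_cent_apply.2 fun n w => Subtype.ext (by
      have hn : u⁻¹ * ((n : M) : G) * u ∈ N := (inferInstance : N.Normal).conj_mem' _ n.2 u
      have hn' : u⁻¹ * ((n : M) : G) * u ∈ M := (inferInstance : M.Normal).conj_mem' _ (n : M).2 u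
      let n' : N.subgroupOf M := ⟨⟨_, hn'⟩, hn⟩
      have h1 : eW.symm (sub h n w) = sub h n' (eW.symm w) := Subtype.ext (by
        show ρ u⁻¹ (ρ ((n : M) : G) (w : V)) = ρ (u⁻¹ * ((n : M) : G) * u) (ρ u⁻¹ (w : V))
        rw [← Module.End.mul_apply, ← Module.End.mul_apply, ← map_mul, ← map_mul,
          mul_inv_cancel_right])
      show ρ u ((t (eW.symm (sub h n w)) : W) : V) =
        ρ ((n : M) : G) (ρ u ((t (eW.symm w) : W) : V))
      rw [h1, mem_cent_apply.1 ht]
      show ρ u (ρ (u⁻¹ * ((n : M) : G) * u) _) = _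
      rw [← Module.End.mul_apply, ← Module.End.mul_apply, ← map_mul, ← map_mul, ← mul_assoc,
        mul_inv_cancel_left]
      rfl)
  obtain ⟨S, hS, hSw⟩ := exists_grad_one h hs
  obtain ⟨S', hS', hSw'⟩ := exists_grad_one h hs'
  have hS1 : S * S' = 1 := ext_unique h ((cent ρM).mul_mem hS.1 hS'.1) (cent ρM).one_mem
    fun w hw => by
      rw [Module.End.mul_apply, hSw' ⟨w, hw⟩, hSw, ← Module.End.mul_apply, hss]
      rfl
  have hS2 : S' * S = 1 := ext_unique h ((cent ρM).mul_mem hS'.1 hS.1) (cent ρM).one_mem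
    fun w hw => by
      rw [Module.End.mul_apply, hSw ⟨w, hw⟩, hSw', ← Module.End.mul_apply, hs's]
      rfl
  have key : ∀ A, Grad ρM W 1 A → g * A * g' = S * A * S' := by
    intro A hA
    obtain ⟨t, ht, htw⟩ := exists_restrict h hA
    rw [← hgc A hA.1]
    refine ext_unique h (conjEnd_mem_cent u hA.1)
      ((cent ρM).mul_mem ((cent ρM).mul_mem hS.1 hA.1) hS'.1) fun w hw => ?_
    have h1 : eW (t (eW.symm ⟨w, hw⟩)) = s (t (s' ⟨w, hw⟩)) :=
      DFunLike.congr_fun (hsc t ht) ⟨w, hw⟩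
    rw [conjEnd_apply, Module.End.mul_apply, Module.End.mul_apply, Module.End.mul_apply,
      Module.End.mul_apply, hSw' ⟨w, hw⟩, htw, hSw, htw ⟨ρ u⁻¹ w, hu' w hw⟩, ← h1]
    rfl
  have hFc : ∀ A, Grad ρM W 1 A → A * (S' * g) = S' * g * A := fun A hA => by
    calc A * (S' * g) = S' * (S * A * S') * g := by
          rw [← mul_assoc S' (S * A), ← mul_assoc S' S, hS2, one_mul, mul_assoc]
      _ = S' * (g * A * g') * g := by rw [key A hA]
      _ = S' * g * A := by rw [mul_assoc S', mul_assoc (g * A) g', hg'g, mul_one, mul_assoc]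
  have hFF : S' * g * (g' * S) = 1 := by
    rw [mul_assoc, ← mul_assoc g, hgg, one_mul, hS2]
  have hF'F : g' * S * (S' * g) = 1 := by
    rw [mul_assoc, ← mul_assoc S, hS1, one_mul, hg'g]
  have hF'c : ∀ A, Grad ρM W 1 A → A * (g' * S) = g' * S * A := fun A hA => by
    calc A * (g' * S) = g' * S * (S' * g * A) * (g' * S) := by
          rw [← mul_assoc (g' * S) (S' * g), hF'F, one_mul]
      _ = g' * S * (A * (S' * g)) * (g' * S) := by rw [hFc A hA]
      _ = g' * S * A := by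
          rw [mul_assoc (g' * S) (A * (S' * g)), mul_assoc A, hFF, mul_one]
  refine ⟨S' * g, g' * S, mem_rest.2 ⟨(cent ρM).mul_mem hS'.1 hg, hFc⟩,
    mem_rest.2 ⟨(cent ρM).mul_mem hg' hS.1, hF'c⟩, hFF, hF'F, fun T hT => ?_⟩
  obtain ⟨hT1, hT2⟩ := mem_rest.1 hT
  rw [hgc T hT1]
  have hX : S * (S' * g * T * (g' * S)) = S' * g * T * (g' * S) * S := by
    have h3 : ∀ A, Grad ρM W 1 A →
        A * (S' * g * T * (g' * S)) = S' * g * T * (g' * S) * A := fun A hA => by
      rw [← mul_assoc A, ← mul_assoc A, hFc A hA, mul_assoc (S' * g) A, hT2 A hA,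
        ← mul_assoc (S' * g) T A, mul_assoc (S' * g * T) A, hF'c A hA, ← mul_assoc]
    exact h3 S hS
  calc g * T * g' = S * S' * g * T * (g' * (S * S')) := by rw [hS1, one_mul, mul_one]
    _ = S * (S' * g * T * (g' * S)) * S' := by simp only [mul_assoc]
    _ = S' * g * T * (g' * S) * (S * S') := by rw [hX, mul_assoc]
    _ = _ := by rw [hS1, mul_one]

end Cfsg.Agent.CharTheory.Berger
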