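import Mathlib
import Cfsg.Agent.Lib.CharTheory.BergerSetup

/-!
The family of commuting operators, and the block of imprimitivity it gives.
-/

set_option autoImplicit false

namespace Cfsg.Agent.CharTheory.Berger

open Cfsg.Agent.Characters Module HomCentralizer Blocks GradedEnd

universe u v

variable {G : Type u} [Group G] {V : Type v} [AddCommGroup V] [Module ℂ V]
  [Finite G] [FiniteDimensional ℂ V] [Nontrivial V] {ρ : Representation ℂ G V}

theorem exists_operator {N M Y U : Subgroup G} [N.Normal] [M.Normal] {W : Submodule ℂ V}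
    (h : Setup (ρ.comp M.subtype : Representation ℂ M V) (N.subgroupOf M) W) (hne : W ≠ ⊥)
    (hWY : ∀ y ∈ Y, ∀ w ∈ W, ρ y w ∈ W) (hqM : Homogeneous ρ M) (hUY : U ≤ Y)
    (hUn : ∀ y ∈ Y, ∀ v ∈ U, y * v * y⁻¹ ∈ U)
    (hUc : ∀ v ∈ U, ∀ u ∈ U, v * u * v⁻¹ * u⁻¹ ∈ M)
    {n : ℕ} (hUp : ∀ u ∈ U, u ^ n ∈ M) (hcop : Nat.Coprime n (N.subgroupOf M).index)
    (hnc : ∃ u ∈ U, ∃ x ∈ M, u * x * u⁻¹ * x⁻¹ ∉ N) :
    ∃ F : Module.End ℂ V, F ∈ cent (ρ.comp M.subtype : Representation ℂ M V) ∧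
      (∃ c : ℂ, c ≠ 0 ∧ F ^ n = c • 1) ∧ (∀ c : ℂ, F ≠ c • 1) ∧
      (∀ y ∈ Y, ∀ z ∈ Y, Commute (conjEnd ρ y F) (conjEnd ρ z F)) ∧
      (∀ v ∈ U, ∀ y ∈ Y, conjEnd ρ v (conjEnd ρ y F) = conjEnd ρ y F) := by
  classical
  let ρM : Representation ℂ M V := ρ.comp M.subtype
  obtain ⟨θ, b, hθ, hb⟩ := hqM
  have hb' : ρM.character = (b : ℂ) • θ := hb
  obtain ⟨u, hu, x, hx, hux⟩ := hnc
  obtain ⟨F, F', hF, hF', hFF, hF'F, hconj⟩ := exists_inner_rest h hθ hb' (u := u)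
    (hWY u (hUY hu)) (hWY u⁻¹ (inv_mem (hUY hu)))
  have hone : (1 : Module.End ℂ V) ≠ 0 := one_ne_zero
  have hF0 : F ≠ 0 := fun h0 => hone (by rw [← hFF, h0, zero_mul])
  have hcent : ∀ T ∈ rest ρM W, T ∈ cent ρM := fun T hT => (mem_rest.1 hT).1
  have hscalar : ∀ Z ∈ rest ρM W, (∀ A ∈ rest ρM W, A * Z = Z * A) → ∃ c : ℂ, Z = c • 1 :=
    fun Z hZ hc => center_scalar ρM hθ hb' (hcent Z hZ)
      fun A hA => commute_cent h (mem_rest.1 hZ).2 hc hA
  -- powers of `u`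
  have hpow : ∀ k : ℕ, ∀ T ∈ rest ρM W, conjEnd ρ (u ^ k) T = F ^ k * T * F' ^ k := by
    intro k
    induction k with
    | zero => intro T _; simp [conjEnd_one]
    | succ k ih =>
      intro T hT
      rw [pow_succ, ← conjEnd_conjEnd, hconj T hT,
        ih _ ((rest ρM W).mul_mem ((rest ρM W).mul_mem hF hT) hF'), pow_succ F, pow_succ' F']
      simp only [mul_assoc]
  have hcomm : Commute F F' := by rw [commute_iff_eq, hFF, hF'F]
  have hFn1 : F ^ n * F' ^ n = 1 := by rw [← hcomm.mul_pow, hFF, one_pow]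
  have hFn2 : F' ^ n * F ^ n = 1 := by rw [← hcomm.symm.mul_pow, hF'F, one_pow]
  obtain ⟨c₀, hc₀⟩ := hscalar (F ^ n) ((rest ρM W).pow_mem hF n) fun A hA => by
    have h1 := hpow n A hA
    rw [conjEnd_fix (hUp u hu) (hcent A hA)] at h1
    calc A * F ^ n = F ^ n * A * F' ^ n * F ^ n := by rw [← h1]
      _ = F ^ n * A := by rw [mul_assoc, hFn2, mul_one]
  have hc₀0 : c₀ ≠ 0 := fun h0 => hone (by rw [← hFn1, hc₀, h0, zero_smul, zero_mul])
  have hFn0 : F ^ n ≠ 0 := fun h0 => hone (by rw [← hFn1, h0, zero_mul])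
  -- `U` fixes `F`
  have hfix : ∀ v ∈ U, conjEnd ρ v F = F := by
    intro v hv
    have hvY := hUY hv
    have hD := rest_conjEnd hWY hvY hF
    have hZ : ∀ A ∈ rest ρM W,
        A * (F' * conjEnd ρ v F) = F' * conjEnd ρ v F * A := by
      intro A hA
      have h1 : conjEnd ρ v (conjEnd ρ u (conjEnd ρ v⁻¹ A)) =
          conjEnd ρ v F * A * conjEnd ρ v F' := by
        rw [hconj _ (rest_conjEnd hWY (inv_mem hvY) hA), map_mul, map_mul, conjEnd_conjEnd,
          mul_inv_cancel, conjEnd_one]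
      have h2 : conjEnd ρ v (conjEnd ρ u (conjEnd ρ v⁻¹ A)) = F * A * F' := by
        rw [conjEnd_conjEnd, conjEnd_conjEnd,
          show v * u * v⁻¹ = v * u * v⁻¹ * u⁻¹ * u by group, ← conjEnd_conjEnd, hconj A hA,
          conjEnd_fix (hUc v hv u hu) (hcent _ ((rest ρM W).mul_mem ((rest ρM W).mul_mem hF hA) hF'))]
      have h3 : conjEnd ρ v F' * conjEnd ρ v F = 1 := by rw [← map_mul, hF'F, map_one]
      have h4 : conjEnd ρ v F * A = F * A * F' * conjEnd ρ v F := by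
        rw [← h2, h1, mul_assoc _ (conjEnd ρ v F'), h3, mul_one]
      calc A * (F' * conjEnd ρ v F) = F' * (F * A * F' * conjEnd ρ v F) := by
            rw [← mul_assoc F', ← mul_assoc F', ← mul_assoc F', hF'F, one_mul, mul_assoc]
        _ = F' * conjEnd ρ v F * A := by rw [← h4, mul_assoc]
    obtain ⟨c, hc⟩ := hscalar _ ((rest ρM W).mul_mem hF' hD) hZ
    have hcF : conjEnd ρ v F = c • F := by
      calc conjEnd ρ v F = F * (F' * conjEnd ρ v F) := by rw [← mul_assoc, hFF, one_mul]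
        _ = c • F := by rw [hc, mul_smul_comm, mul_one]
    have hcn : c ^ n = 1 := by
      refine smul_left_injective ℂ hFn0 ?_
      show c ^ n • F ^ n = (1 : ℂ) • F ^ n
      rw [one_smul, ← smul_pow, ← hcF, ← map_pow, hc₀, map_smul, map_one]
    -- the determinant of multiplication by `F`
    let R := rest ρM W
    let e : R ≃ₗ[ℂ] R :=
      { toFun := fun T => ⟨conjEnd ρ v (T : Module.End ℂ V), rest_conjEnd hWY hvY T.2⟩
        invFun := fun T => ⟨conjEnd ρ v⁻¹ (T : Module.End ℂ V), rest_conjEnd hWY (inv_mem hvY) T.2⟩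
        map_add' := fun a b => Subtype.ext (by simp)
        map_smul' := fun a b => Subtype.ext (by simp)
        left_inv := fun T => Subtype.ext (by simp [conjEnd_conjEnd, conjEnd_one])
        right_inv := fun T => Subtype.ext (by simp [conjEnd_conjEnd, conjEnd_one]) }
    let L : R →ₗ[ℂ] R := LinearMap.mulLeft ℂ (⟨F, hF⟩ : R)
    let L' : R →ₗ[ℂ] R := LinearMap.mulLeft ℂ (⟨F', hF'⟩ : R)
    have hL : (e : R →ₗ[ℂ] R) ∘ₗ L ∘ₗ (e.symm : R →ₗ[ℂ] R) = c • L := LinearMap.ext fun T =>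
      Subtype.ext (by
        show conjEnd ρ v (F * conjEnd ρ v⁻¹ (T : Module.End ℂ V)) = c • (F * (T : Module.End ℂ V))
        rw [map_mul, conjEnd_conjEnd, mul_inv_cancel, conjEnd_one, hcF, smul_mul_assoc])
    have hLL : L * L' = 1 := LinearMap.ext fun T => Subtype.ext (by
      show F * (F' * (T : Module.End ℂ V)) = T
      rw [← mul_assoc, hFF, one_mul])
    have hdet : LinearMap.det L ≠ 0 := fun h0 => by
      have h1 := congrArg LinearMap.det hLL
      rw [map_mul, h0, zero_mul, map_one] at h1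
      exact zero_ne_one h1
    have hcX : c ^ (N.subgroupOf M).index = 1 := by
      have h1 := LinearMap.det_conj L e
      rw [hL, LinearMap.det_smul] at h1
      rw [← finrank_rest h hne]
      exact mul_right_cancel₀ hdet (h1.trans (one_mul _).symm)
    have hc1 : c = 1 := by
      have h1 : c ^ Nat.gcd n (N.subgroupOf M).index = 1 := pow_gcd_eq_one.2 ⟨hcn, hcX⟩
      rwa [hcop, pow_one] at h1
    rw [hcF, hc1, one_smul]
  have hfix' : ∀ v ∈ U, ∀ y ∈ Y, conjEnd ρ v (conjEnd ρ y F) = conjEnd ρ y F := by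
    intro v hv y hy
    have hv' : y⁻¹ * v * y ∈ U := by simpa using hUn y⁻¹ (inv_mem hy) v hv
    conv_rhs => rw [← hfix _ hv']
    rw [conjEnd_conjEnd, conjEnd_conjEnd]
    congr 1
    group
  refine ⟨F, hcent F hF, ⟨c₀, hc₀0, hc₀⟩, fun c hc => ?_, fun y hy z hz => ?_, hfix'⟩
  · obtain ⟨T, T', hT, -, hTT, -, hTc⟩ := exists_unit h (⟨x, hx⟩ : M)
    have hTr : T ∈ rest ρM W := mem_rest.2 ⟨hT.1, hTc⟩
    have h1 : conjEnd ρ u T = T := by
      have h5 : c • F' = 1 := by rw [← hFF, hc, smul_mul_assoc, one_mul]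
      rw [hconj T hTr, hc, smul_mul_assoc, one_mul, smul_mul_assoc, ← mul_smul_comm, h5, mul_one]
    have h2 := grad_conjEnd hWY (hUY hu) hT
    rw [h1] at h2
    have h3 := coset_eq h hT h2 fun h0 => hone (by rw [← hTT, h0, zero_mul])
    refine hux ?_
    have h4 : x⁻¹ * (u * x * u⁻¹) ∈ N := h3
    simpa [mul_assoc] using (inferInstance : N.Normal).conj_mem _ h4 x
  · have hyu : y * u * y⁻¹ ∈ U := hUn y hy u hu
    have hzr := rest_conjEnd hWY hz hF
    have h1 := hfix' _ hyu z hz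
    rw [show y * u * y⁻¹ = y * (u * y⁻¹) by group, ← conjEnd_conjEnd ρ y (u * y⁻¹),
      ← conjEnd_conjEnd ρ u y⁻¹, hconj _ (rest_conjEnd hWY (inv_mem hy) hzr), map_mul, map_mul,
      conjEnd_conjEnd ρ y y⁻¹, mul_inv_cancel, conjEnd_one] at h1
    show conjEnd ρ y F * conjEnd ρ z F = conjEnd ρ z F * conjEnd ρ y F
    conv_rhs => rw [← h1]
    rw [mul_assoc _ (conjEnd ρ y F') (conjEnd ρ y F), ← map_mul (conjEnd ρ y) F' F, hF'F, map_one,
      mul_one]

/-- A commuting family of semisimple operators permuted by `G` gives a block. -/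
theorem exists_block_of_family (hρ : ρ.IsIrreducible) {K Y : Subgroup G}
    (hcov : ∀ g : G, ∃ k ∈ K, ∃ y ∈ Y, g = k * y) (F : Module.End ℂ V)
    (hcomm : ∀ y ∈ Y, ∀ z ∈ Y, Commute (conjEnd ρ y F) (conjEnd ρ z F))
    (hfix : ∀ k ∈ K, ∀ y ∈ Y, conjEnd ρ k (conjEnd ρ y F) = conjEnd ρ y F)
    (hF : F.IsSemisimple) (hns : ∀ c : ℂ, F ≠ c • 1) :
    ∃ Y' : Subgroup G, K ≤ Y' ∧ Y' ≠ ⊤ ∧ ∃ W, IsBlock ρ Y' W := by
  classical
  let f : Y → Module.End ℂ V := fun y => conjEnd ρ (y : G) F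
  let E : (Y → ℂ) → Submodule ℂ V := fun χ => ⨅ y : Y, (f y).maxGenEigenspace (χ y)
  let sh : Y → (Y → ℂ) → (Y → ℂ) := fun z χ y => χ (z⁻¹ * y)
  have htop : ⨆ χ, E χ = ⊤ :=
    Module.End.iSup_iInf_maxGenEigenspace_eq_top_of_iSup_maxGenEigenspace_eq_top_of_commute f
      (fun i j _ => hcomm i i.2 j j.2) fun i => Module.End.iSup_maxGenEigenspace_eq_top _
  obtain ⟨ξ, hξ⟩ : ∃ ξ, E ξ ≠ ⊥ := by
    by_contra hall
    push Not at hall
    simp only [hall, iSup_bot] at htop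
    exact bot_ne_top htop
  have hsh : ∀ (z : Y) χ v, v ∈ E χ → ρ (z : G) v ∈ E (sh z χ) := by
    intro z χ v hv
    rw [Submodule.mem_iInf] at hv ⊢
    intro y
    refine mem_maxGenEigenspace_of_comm ?_ (hv (z⁻¹ * y))
    show ρ (z : G) * conjEnd ρ ((z⁻¹ * y : Y) : G) F = conjEnd ρ (y : G) F * ρ (z : G)
    rw [mul_eq_conjEnd_mul, conjEnd_conjEnd]
    simp
  have hK : ∀ k ∈ K, ∀ χ, ∀ v, v ∈ E χ → ρ k v ∈ E χ := by
    intro k hk χ v hv
    rw [Submodule.mem_iInf] at hv ⊢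
    intro y
    refine mem_maxGenEigenspace_of_comm ?_ (hv y)
    rw [mul_eq_conjEnd_mul, hfix k hk y y.2]
  have heq : ∀ (g : G) (A B : Submodule ℂ V), (∀ v ∈ A, ρ g v ∈ B) → (∀ v ∈ B, ρ g⁻¹ v ∈ A) →
      A.map (ρ g) = B := by
    intro g A B h1 h2
    refine le_antisymm (Submodule.map_le_iff_le_comap.2 h1) fun v hv => ⟨ρ g⁻¹ v, h2 v hv, ?_⟩
    rw [← Module.End.mul_apply, ← map_mul, mul_inv_cancel, map_one]
    rfl
  have hmove : ∀ g : G, ∃ χ, (E ξ).map (ρ g) = E χ := by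
    intro g
    obtain ⟨k, hk, y, hy, rfl⟩ := hcov g
    refine ⟨sh ⟨y, hy⟩ ξ, ?_⟩
    rw [map_mul, Module.End.mul_eq_comp, Submodule.map_comp,
      heq y (E ξ) (E (sh ⟨y, hy⟩ ξ)) (hsh ⟨y, hy⟩ ξ) fun v hv => ?_,
      heq k _ _ (hK k hk _) (hK k⁻¹ (inv_mem hk) _)]
    have h1 := hsh ⟨y, hy⟩⁻¹ _ v hv
    simpa [sh] using h1
  let Y' : Subgroup G :=
    { carrier := {g | (E ξ).map (ρ g) = E ξ}
      one_mem' := by
        show (E ξ).map (ρ 1) = E ξ
        rw [map_one, Module.End.one_eq_id, Submodule.map_id]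
      mul_mem' := fun {a b} (ha : (E ξ).map (ρ a) = E ξ) (hb : (E ξ).map (ρ b) = E ξ) => by
        show (E ξ).map (ρ (a * b)) = E ξ
        rw [map_mul, Module.End.mul_eq_comp, Submodule.map_comp, hb, ha]
      inv_mem' := fun {a} (ha : (E ξ).map (ρ a) = E ξ) => by
        show (E ξ).map (ρ a⁻¹) = E ξ
        conv_lhs => rw [← ha]
        rw [← Submodule.map_comp, ← Module.End.mul_eq_comp, ← map_mul, inv_mul_cancel, map_one,
          Module.End.one_eq_id, Submodule.map_id] }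
  have hKY : K ≤ Y' := fun k hk => heq k _ _ (hK k hk ξ) (hK k⁻¹ (inv_mem hk) ξ)
  have hY'top : Y' ≠ ⊤ := by
    intro htop'
    have hinv : IsInvariantUnder ρ (E ξ) := fun g v hv => by
      have hg : g ∈ Y' := by rw [htop']; exact Subgroup.mem_top g
      have h1 : ρ g v ∈ (E ξ).map (ρ g) := ⟨v, hv, rfl⟩
      rwa [show (E ξ).map (ρ g) = E ξ from hg] at h1
    rcases ((isIrreducible_iff ρ).1 hρ).2 _ hinv with h | h
    · exact hξ h
    · have h1 : F.maxGenEigenspace (ξ 1) = ⊤ := by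
        rw [eq_top_iff, ← h]
        refine (iInf_le _ (1 : Y)).trans ?_
        simp [f, conjEnd_one]
      rw [(Module.End.isFinitelySemisimple_iff_isSemisimple.mpr hF).maxGenEigenspace_eq_eigenspace]
        at h1
      refine hns (ξ 1) (LinearMap.ext fun v => ?_)
      have hv : v ∈ F.eigenspace (ξ 1) := h1 ▸ Submodule.mem_top
      simpa using Module.End.mem_eigenspace_iff.1 hv
  haveI := Fintype.ofFinite (G ⧸ Y')
  choose χq hχq using fun q : G ⧸ Y' => hmove q.out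
  have hinj : Function.Injective χq := fun q q' he => by
    have h1 : (E ξ).map (ρ q.out) = (E ξ).map (ρ q'.out) := by rw [hχq, hχq, he]
    rw [← QuotientGroup.out_eq' q, ← QuotientGroup.out_eq' q', QuotientGroup.eq]
    show (E ξ).map (ρ (q.out⁻¹ * q'.out)) = E ξ
    rw [map_mul, Module.End.mul_eq_comp, Submodule.map_comp, ← h1, ← Submodule.map_comp,
      ← Module.End.mul_eq_comp, ← map_mul, inv_mul_cancel, map_one, Module.End.one_eq_id,
      Submodule.map_id]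
  have hind : iSupIndep fun q => E (χq q) :=
    (Module.End.independent_iInf_maxGenEigenspace_of_forall_mapsTo f fun i j φ =>
      Module.End.mapsTo_maxGenEigenspace_of_comm (hcomm j j.2 i i.2) φ).comp hinj
  have hker : Function.Injective (tmap ρ Y' (E ξ)) := by
    rw [← LinearMap.ker_eq_bot, LinearMap.ker_eq_bot']
    intro p hp
    funext q
    have hmem : ∀ q, ρ q.out (p q : V) ∈ E (χq q) := fun q => hχq q ▸ ⟨_, (p q).2, rfl⟩
    have h1 : ρ q.out (p q : V) ∈ ⨆ j, ⨆ (_ : j ≠ q), E (χq j) := by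
      rw [tmap_apply, ← Finset.add_sum_erase _ _ (Finset.mem_univ q)] at hp
      rw [eq_neg_of_add_eq_zero_left hp]
      refine neg_mem (Submodule.sum_mem _ fun j hj => ?_)
      exact Submodule.mem_iSup_of_mem j (Submodule.mem_iSup_of_mem (Finset.mem_erase.1 hj).1 (hmem j))
    have h2 : ρ q.out (p q : V) = 0 :=
      (Submodule.disjoint_def.1 (hind q)) _ (hmem q) h1
    have h3 := congrArg (ρ q.out⁻¹) h2
    rw [← Module.End.mul_apply, ← map_mul, inv_mul_cancel, map_one, map_zero] at h3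
    exact Subtype.ext h3
  refine ⟨Y', hKY, hY'top, E ξ, ⟨fun y hy w hw => ?_, hξ, ?_⟩⟩
  · have h1 : ρ y w ∈ (E ξ).map (ρ y) := ⟨w, hw, rfl⟩
    rwa [show (E ξ).map (ρ y) = E ξ from hy] at h1
  · have h1 := LinearMap.finrank_le_finrank_of_injective hker
    rwa [Module.finrank_pi_fintype, Finset.sum_const, Finset.card_univ, smul_eq_mul,
      ← Nat.card_eq_fintype_card, ← Subgroup.index_eq_card] at h1

end Cfsg.Agent.CharTheory.Berger
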