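import Mathlib
import Cfsg.Agent.Lib.CharTheory.BergerOperator
import Cfsg.Agent.Lib.Hall.MinimalNormal
import Cfsg.Agent.Lib.Cores.Nilpotent

/-!
Berger's theorem: a quasi-primitive character of a solvable group is primitive.
-/

set_option autoImplicit false

namespace Cfsg.Agent.CharTheory.Berger

open Cfsg.Agent.Characters Module HomCentralizer Blocks GradedEnd

universe u v

variable {G : Type u} [Group G]

/-- A minimal normal subgroup above a proper normal subgroup with solvable quotient. -/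
theorem exists_chief [Finite G] (N : Subgroup G) [N.Normal] (hN : N ≠ ⊤)
    (hsolv : Group.IsSolvable (G ⧸ N)) :
    ∃ (M : Subgroup G) (p i : ℕ), M.Normal ∧ N ≤ M ∧ M ≠ N ∧ p.Prime ∧
      (N.subgroupOf M).index = p ^ i ∧ (∀ a ∈ M, ∀ b ∈ M, a * b * a⁻¹ * b⁻¹ ∈ N) ∧
      (∀ a ∈ M, a ^ p ^ i ∈ N) ∧
      (∀ L : Subgroup G, L.Normal → N ≤ L → L ≤ M → L = N ∨ L = M) := by
  classical
  haveI := hsolv
  let π := QuotientGroup.mk' N
  have hsurj : Function.Surjective π := QuotientGroup.mk'_surjective N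
  have htop : (⊤ : Subgroup (G ⧸ N)) ≠ ⊥ := fun h => hN <| by
    rw [eq_top_iff]
    intro g _
    have h1 : π g ∈ (⊥ : Subgroup (G ⧸ N)) := h ▸ Subgroup.mem_top _
    exact (QuotientGroup.eq_one_iff g).1 h1
  obtain ⟨B, hBn, -, hB, hmin⟩ := Hall.exists_minimal_normal (⊤ : Subgroup (G ⧸ N)) htop
  haveI := hBn
  obtain ⟨p, hp, -, hpg, hel⟩ := Hall.minimal_normal_isElementaryAbelian hB hmin
  haveI := Fact.mk hp
  obtain ⟨i, hi⟩ := IsPGroup.iff_card.1 hpg
  have hker : ∀ g, g ∈ N → π g = 1 := fun g hg => (QuotientGroup.eq_one_iff g).2 hg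
  refine ⟨B.comap π, p, i, inferInstance, fun g hg => ?_, fun he => ?_, hp, ?_, ?_, ?_, ?_⟩
  · rw [Subgroup.mem_comap, hker g hg]
    exact B.one_mem
  · refine hB ((Subgroup.eq_bot_iff_forall B).2 fun b hb => ?_)
    obtain ⟨g, rfl⟩ := hsurj b
    have h1 : g ∈ B.comap π := hb
    rw [he] at h1
    exact hker g h1
  · let f : (B.comap π : Subgroup G) →* G ⧸ N := π.comp (B.comap π).subtype
    have h1 : f.ker = N.subgroupOf (B.comap π) := by
      ext x
      exact QuotientGroup.eq_one_iff _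
    have h2 : f.range = B := by
      ext b
      constructor
      · rintro ⟨x, rfl⟩
        exact x.2
      · intro hb
        obtain ⟨g, rfl⟩ := hsurj b
        exact ⟨⟨g, hb⟩, rfl⟩
    rw [← h1, Subgroup.index_ker, h2, hi]
  · intro a ha b hb
    haveI := hel.1
    rw [← QuotientGroup.eq_one_iff]
    have h1 : π a * π b = π b * π a := congrArg Subtype.val (mul_comm' (⟨π a, ha⟩ : B) ⟨π b, hb⟩)
    show π (a * b * a⁻¹ * b⁻¹) = 1
    rw [map_mul, map_mul, map_mul, h1, map_inv, map_inv, mul_inv_cancel_right, mul_inv_cancel]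
  · intro a ha
    rw [← QuotientGroup.eq_one_iff]
    show π (a ^ p ^ i) = 1
    rw [map_pow, ← hi]
    exact congrArg Subtype.val (pow_card_eq_one' (x := (⟨π a, ha⟩ : B)))
  · intro L hL hNL hLM
    haveI := hL
    rcases hmin (L.map π) (hL.map π hsurj) (Subgroup.map_le_iff_le_comap.2 hLM) with h | h
    · refine Or.inl (le_antisymm (fun g hg => ?_) hNL)
      have h1 : π g ∈ L.map π := Subgroup.mem_map_of_mem _ hg
      rw [h, Subgroup.mem_bot] at h1
      exact (QuotientGroup.eq_one_iff g).1 h1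
    · refine Or.inr (le_antisymm hLM ?_)
      rw [← h, Subgroup.comap_map_eq, QuotientGroup.ker_mk', sup_of_le_left hNL]

/-- The primes of two successive chief factors differ when the upper one does not centralize the
lower one. -/
theorem prime_ne [Finite G] {N M K : Subgroup G} [N.Normal] [M.Normal] [K.Normal] (hNM : N ≤ M)
    (hMK : M ≤ K) {p i r j : ℕ} (hp : p.Prime) (hMp : ∀ a ∈ M, a ^ p ^ i ∈ N)
    (hKr : ∀ a ∈ K, a ^ r ^ j ∈ M)
    (hmin : ∀ L : Subgroup G, L.Normal → N ≤ L → L ≤ M → L = N ∨ L = M)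
    (hnc : ∃ a ∈ K, ∃ x ∈ M, a * x * a⁻¹ * x⁻¹ ∉ N) : p ≠ r := by
  rintro rfl
  classical
  haveI := Fact.mk hp
  let π := QuotientGroup.mk' N
  let P := K.map π
  haveI hPn : P.Normal := (inferInstance : K.Normal).map π (QuotientGroup.mk'_surjective N)
  have hPp : IsPGroup p P := by
    rintro ⟨b, a, ha, rfl⟩
    refine ⟨j + i, Subtype.ext ?_⟩
    show π a ^ p ^ (j + i) = 1
    rw [← map_pow, pow_add, pow_mul]
    exact (QuotientGroup.eq_one_iff _).2 (hMp _ (hKr a ha))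
  haveI := hPp.isNilpotent
  let B := (M.map π).subgroupOf P
  have hBn : B.Normal :=
    Subgroup.Normal.subgroupOf ((inferInstance : M.Normal).map π (QuotientGroup.mk'_surjective N)) P
  obtain ⟨a, ha, x, hx, hax⟩ := hnc
  have hBne : B ≠ ⊥ := fun h0 => hax <| by
    have h1 : (⟨π x, Subgroup.mem_map_of_mem _ (hMK hx)⟩ : P) ∈ B :=
      Subgroup.mem_map_of_mem π hx
    rw [h0, Subgroup.mem_bot] at h1
    have h2 : x ∈ N := (QuotientGroup.eq_one_iff x).1 (congrArg Subtype.val h1)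
    exact N.mul_mem ((inferInstance : N.Normal).conj_mem x h2 a) (N.inv_mem h2)
  haveI := hBn
  have hz := Cores.inf_center_ne_bot hBne
  let C := (M.map π ⊓ Subgroup.centralizer (P : Set (G ⧸ N))).comap π
  haveI : (M.map π).Normal := (inferInstance : M.Normal).map π (QuotientGroup.mk'_surjective N)
  have hCN : N ≤ C := fun g hg => by
    have h1 : π g = 1 := (QuotientGroup.eq_one_iff g).2 hg
    show π g ∈ M.map π ⊓ Subgroup.centralizer (P : Set (G ⧸ N))
    rw [h1]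
    exact one_mem _
  have hCM : C ≤ M := fun g hg => by
    have h1 : g ∈ (M.map π).comap π := hg.1
    rwa [Subgroup.comap_map_eq, QuotientGroup.ker_mk', sup_of_le_left hNM] at h1
  rcases hmin C inferInstance hCN hCM with h | h
  · refine hz ((Subgroup.eq_bot_iff_forall _).2 fun z hz' => Subtype.ext ?_)
    obtain ⟨g, hg, hgz⟩ := Subgroup.mem_map.1 (show (z : G ⧸ N) ∈ M.map π from hz'.1)
    have h1 : g ∈ C := by
      refine ⟨show π g ∈ M.map π from Subgroup.mem_map_of_mem _ hg, ?_⟩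
      show π g ∈ Subgroup.centralizer (P : Set (G ⧸ N))
      rw [Subgroup.mem_centralizer_iff]
      intro b hb
      rw [hgz]
      exact congrArg Subtype.val (Subgroup.mem_center_iff.1 hz'.2 ⟨b, hb⟩)
    rw [h] at h1
    rw [← hgz]
    exact (QuotientGroup.eq_one_iff g).2 h1
  · have h1 : x ∈ C := h ▸ hx
    have h2 := Subgroup.mem_centralizer_iff.1 h1.2 (π a) (Subgroup.mem_map_of_mem _ ha)
    refine hax ((QuotientGroup.eq_one_iff _).1 ?_)
    show π (a * x * a⁻¹ * x⁻¹) = 1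
    rw [map_mul, map_mul, map_mul, h2, map_inv, map_inv, mul_inv_cancel_right, mul_inv_cancel]

variable [Finite G] {V : Type v} [AddCommGroup V] [Module ℂ V] [FiniteDimensional ℂ V]
  {ρ : Representation ℂ G V}

/-- No block lies over `N`. -/
theorem no_block (hρ : ρ.IsIrreducible) (d : ℕ) : ∀ (N : Subgroup G) [N.Normal], N.index = d →
    Group.IsSolvable (G ⧸ N) → (∀ M : Subgroup G, M.Normal → N ≤ M → Homogeneous ρ M) →
    ∀ Y : Subgroup G, Y ≠ ⊤ → N ≤ Y → ∀ W : Submodule ℂ V, ¬ IsBlock ρ Y W := by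
  induction d using Nat.strong_induction_on with | _ d ih => ?_
  intro N _ hd hsolv hqp Y₀ hY₀ hNY₀ W₀ hW₀
  subst hd
  classical
  haveI := hρ
  haveI := nontrivial_of_isIrreducible ρ
  have hrec : ∀ L : Subgroup G, L.Normal → N ≤ L → L ≠ N → ∀ Y : Subgroup G, Y ≠ ⊤ → L ≤ Y →
      ∀ W : Submodule ℂ V, ¬ IsBlock ρ Y W := by
    intro L hL hNL hne
    haveI := hsolv
    have hs : Group.IsSolvable (G ⧸ L) :=
      Group.isSolvable_of_surjective (f := QuotientGroup.map N L (MonoidHom.id G) (by simpa using hNL)) <| by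
        intro q
        induction q using QuotientGroup.induction_on with
        | H g => exact ⟨QuotientGroup.mk g, rfl⟩
    exact @ih L.index (Subgroup.index_strictAnti (lt_of_le_of_ne hNL hne.symm)) L hL rfl hs
      fun M hM hLM => hqp M hM (hNL.trans hLM)
  obtain ⟨Y, hY, hY₀Y⟩ := (eq_top_or_exists_le_coatom Y₀).resolve_left hY₀
  obtain ⟨W, hW⟩ := hW₀.exists_of_le hY₀Y
  have hNY : N ≤ Y := hNY₀.trans hY₀Y
  have hcore : ∀ L : Subgroup G, L.Normal → N ≤ L → L ≤ Y → L = N := fun L hL hNL hLY =>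
    by_contra fun hne => hrec L hL hNL hne Y hY.1 hLY W hW
  have hNtop : N ≠ ⊤ := fun h => hY.1 (top_le_iff.1 (h ▸ hNY))
  obtain ⟨M, q, i, hMn, hNM, hMN, hq, hidx, hMc, hMp, hMmin⟩ := exists_chief N hNtop hsolv
  haveI := hMn
  have hMY : ¬ M ≤ Y := fun h => hMN (hcore M hMn hNM h)
  have hsup : M ⊔ Y = ⊤ := hY.2 _ (lt_of_le_not_ge le_sup_right fun h => hMY (le_sup_left.trans h))
  have hcov : ∀ g : G, ∃ m ∈ M, ∃ y ∈ Y, g = m * y := by
    intro g
    obtain ⟨m, hm, y, hy, he⟩ :=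
      (Subgroup.mem_sup_of_normal_left (x := g)).1 (hsup ▸ Subgroup.mem_top g)
    exact ⟨m, hm, y, hy, he.symm⟩
  have hinf : ∀ g, g ∈ M → g ∈ Y → g ∈ N := by
    have h : (M ⊓ Y).Normal := by
      constructor
      intro a ha g
      obtain ⟨m, hm, y, hy, rfl⟩ := hcov g
      have hb : y * a * y⁻¹ ∈ M ⊓ Y :=
        ⟨hMn.conj_mem a ha.1 y, Y.mul_mem (Y.mul_mem hy ha.2) (Y.inv_mem hy)⟩
      have h1 : m * (y * a * y⁻¹) * m⁻¹ * (y * a * y⁻¹)⁻¹ ∈ M ⊓ Y :=
        ⟨hNM (hMc m hm _ hb.1), hNY (hMc m hm _ hb.1)⟩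
      have h2 := (M ⊓ Y).mul_mem h1 hb
      rw [inv_mul_cancel_right] at h2
      simpa [mul_assoc] using h2
    intro g hgM hgY
    rw [← hcore (M ⊓ Y) h (le_inf hNM hNY) inf_le_right]
    exact ⟨hgM, hgY⟩
  have hidxY : (N.subgroupOf M).index = Y.index := by
    rw [Subgroup.index_eq_card, Subgroup.index_eq_card]
    refine Nat.card_congr (Equiv.ofBijective
      (Quotient.map' (fun m : M => (m : G)) fun a b hab => ?_) ⟨?_, ?_⟩)
    · rw [QuotientGroup.leftRel_apply] at hab ⊢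
      exact hNY hab
    · rintro ⟨a⟩ ⟨b⟩ hab
      refine Quotient.sound' ?_
      rw [QuotientGroup.leftRel_apply]
      have h1 := Quotient.exact' hab
      rw [QuotientGroup.leftRel_apply] at h1
      exact hinf _ (M.mul_mem (M.inv_mem a.2) b.2) h1
    · rintro ⟨g⟩
      obtain ⟨m, hm, y, hy, rfl⟩ := hcov g
      refine ⟨Quotient.mk'' ⟨m, hm⟩, Quotient.sound' ?_⟩
      rw [QuotientGroup.leftRel_apply]
      simpa using hy
  have h := exists_setup hρ hNM hNY hidxY hcov hW (hqp N inferInstance le_rfl)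
  obtain ⟨x₀, hx₀, hx₀N⟩ := SetLike.exists_of_lt (lt_of_le_of_ne hNM hMN.symm)
  by_cases hMtop : M = ⊤
  · obtain ⟨T, T', hT, -, hTT, -, -⟩ := exists_unit h (⟨x₀, hx₀⟩ : M)
    obtain ⟨c, hc⟩ := schur_scalar ρ T fun g v =>
      mem_cent_apply.1 hT.1 ⟨g, hMtop ▸ Subgroup.mem_top g⟩ v
    have h1 : Grad (ρ.comp M.subtype : Representation ℂ M V) W 1 T := by
      refine ⟨hT.1, fun w hw => ⟨c • w, W.smul_mem c hw, ?_⟩⟩
      simp [hc]
    have h2 := coset_eq h hT h1 fun h0 => one_ne_zero (α := Module.End ℂ V) (by rw [← hTT, h0, zero_mul])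
    refine hx₀N ?_
    have h3 : x₀⁻¹ * 1 ∈ N := h2
    simpa using h3
  haveI := hsolv
  have hsM : Group.IsSolvable (G ⧸ M) :=
    Group.isSolvable_of_surjective (f := QuotientGroup.map N M (MonoidHom.id G) (by simpa using hNM)) <| by
      intro q
      induction q using QuotientGroup.induction_on with
      | H g => exact ⟨QuotientGroup.mk g, rfl⟩
  obtain ⟨K, r, j, hKn, hMK, hKM, hr, -, hKc, hKp, -⟩ := exists_chief M hMtop hsM
  haveI := hKn
  let U := K ⊓ Y
  have hKcov : ∀ k ∈ K, ∃ m ∈ M, ∃ v ∈ U, k = m * v := by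
    intro k hk
    obtain ⟨m, hm, y, hy, rfl⟩ := hcov k
    exact ⟨m, hm, y, ⟨(Subgroup.mul_mem_cancel_left K (hMK hm)).1 hk, hy⟩, rfl⟩
  have hnc : ∃ u ∈ U, ∃ x ∈ M, u * x * u⁻¹ * x⁻¹ ∉ N := by
    by_contra hall
    push Not at hall
    have hUn : U.Normal := by
      constructor
      intro a ha g
      obtain ⟨m, hm, y, hy, rfl⟩ := hcov g
      have hb : y * a * y⁻¹ ∈ U :=
        ⟨hKn.conj_mem a ha.1 y, Y.mul_mem (Y.mul_mem hy ha.2) (Y.inv_mem hy)⟩
      have h1 := N.inv_mem (hall _ hb m hm)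
      have h2 := U.mul_mem (⟨hMK (hNM h1), hNY h1⟩ : _ ∈ U) hb
      simpa [mul_assoc] using h2
    have hU : U = N := hcore U hUn (le_inf (hNM.trans hMK) hNY) inf_le_right
    refine hKM (le_antisymm (fun k hk => ?_) hMK)
    obtain ⟨m, hm, v, hv, rfl⟩ := hKcov k hk
    exact M.mul_mem hm (hNM (hU ▸ hv))
  have hne : q ≠ r := by
    obtain ⟨u, hu, x, hx, hux⟩ := hnc
    exact prime_ne hNM hMK hq hMp hKp hMmin ⟨u, hu.1, x, hx, hux⟩
  have hcop : Nat.Coprime (r ^ j) (N.subgroupOf M).index :=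
    hidx ▸ Nat.Coprime.pow j i ((Nat.coprime_primes hr hq).2 hne.symm)
  have hUn : ∀ y ∈ Y, ∀ v ∈ U, y * v * y⁻¹ ∈ U := fun y hy v hv =>
    ⟨hKn.conj_mem v hv.1 y, Y.mul_mem (Y.mul_mem hy hv.2) (Y.inv_mem hy)⟩
  obtain ⟨F, hFc, ⟨c, hc0, hFn⟩, hns, hcomm, hfix⟩ := exists_operator h hW.ne_bot hW.invariant
    (hqp M hMn hNM) inf_le_right hUn (fun v hv u hu => hKc v hv.1 u hu.1)
    (fun u hu => hKp u hu.1) hcop hnc
  have hfixK : ∀ k ∈ K, ∀ y ∈ Y, conjEnd ρ k (conjEnd ρ y F) = conjEnd ρ y F := by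
    intro k hk y hy
    obtain ⟨m, hm, v, hv, rfl⟩ := hKcov k hk
    rw [← conjEnd_conjEnd, hfix v hv y hy, conjEnd_fix hm (conjEnd_mem_cent y hFc)]
  have hss : F.IsSemisimple :=
    Module.End.isSemisimple_of_squarefree_aeval_eq_zero
      (Polynomial.separable_X_pow_sub_C c (Nat.cast_ne_zero.2 (pow_ne_zero j hr.pos.ne')) hc0).squarefree
      (by simp [hFn, Algebra.algebraMap_eq_smul_one])
  obtain ⟨Y', hKY', hY', W', hW'⟩ := exists_block_of_family hρ
    (fun g => by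
      obtain ⟨m, hm, y, hy, he⟩ := hcov g
      exact ⟨m, hMK hm, y, hy, he⟩) F hcomm hfixK hss hns
  exact hrec K hKn (hNM.trans hMK) (fun he => hMN (le_antisymm (he ▸ hMK) hNM)) Y' hY' hKY' W' hW'

end Cfsg.Agent.CharTheory.Berger
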