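import Mathlib

/-!
The double cover of the alternating group inside a Clifford algebra.
-/

set_option autoImplicit false

namespace Cfsg.Agent.CharTheory.DoubleCover

open scoped commutatorElement

variable {n : ℕ}

/-- Half the sum of squares. -/
noncomputable def half (n : ℕ) : QuadraticMap ℚ (Fin n → ℚ) ℚ :=
  QuadraticMap.weightedSumSquares ℚ fun _ : Fin n => (1 / 2 : ℚ)

/-- The Clifford algebra of `half n`. -/
abbrev Cl (n : ℕ) := CliffordAlgebra (half n)

/-- The root `e i - e j`. -/
def root (i j : Fin n) : Fin n → ℚ := fun k => (if k = i then 1 else 0) - (if k = j then 1 else 0)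

theorem half_apply (v : Fin n → ℚ) : half n v = (1 / 2) * ∑ k, v k * v k := by
  simp [half, QuadraticMap.weightedSumSquares_apply, Finset.mul_sum]

theorem polar_root (i j : Fin n) (w : Fin n → ℚ) :
    QuadraticMap.polar (half n) (root i j) w = w i - w j := by
  rw [QuadraticMap.polar, half_apply, half_apply, half_apply, ← mul_sub, ← mul_sub,
    ← Finset.sum_sub_distrib, ← Finset.sum_sub_distrib,
    Finset.sum_congr rfl (g := fun k => 2 * (root i j k * w k)) fun k _ => by
      simp only [Pi.add_apply]; ring]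
  rw [← Finset.mul_sum]
  simp [root, sub_mul, Finset.sum_sub_distrib]

theorem half_root {i j : Fin n} (h : i ≠ j) : half n (root i j) = 1 := by
  have h1 := QuadraticMap.polar_self (half n) (root i j)
  rw [polar_root] at h1
  simp [root, h, h.symm] at h1
  linarith

theorem root_comp (σ : Equiv.Perm (Fin n)) (k l : Fin n) :
    root k l ∘ σ.symm = root (σ k) (σ l) := by
  funext x
  simp [root, Equiv.symm_apply_eq]

theorem root_swap (i j : Fin n) : root j i = -root i j := by
  funext k; simp [root]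

theorem comp_swap {i j : Fin n} (w : Fin n → ℚ) :
    (w i - w j) • root i j - w = -(w ∘ Equiv.swap i j) := by
  funext k
  rcases eq_or_ne i j with rfl | h
  · simp
  rcases eq_or_ne k i with rfl | hi
  · simp [root, h]
  rcases eq_or_ne k j with rfl | hj
  · simp [root, h.symm]
  simp [root, hi, hj, Equiv.swap_apply_of_ne_of_ne]

/-- The lift of a transposition. -/
noncomputable def refl (i j : Fin n) (h : i ≠ j) : (Cl n)ˣ :=
  ⟨CliffordAlgebra.ι _ (root i j), CliffordAlgebra.ι _ (root i j),
    by rw [CliffordAlgebra.ι_sq_scalar, half_root h, map_one],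
    by rw [CliffordAlgebra.ι_sq_scalar, half_root h, map_one]⟩

/-- The ambient group. -/
abbrev Amb (n : ℕ) := Equiv.Perm (Fin n) × (Cl n)ˣ

/-- A transposition with its lift; junk value `1` on the diagonal. -/
noncomputable def gen (i j : Fin n) : Amb n :=
  if h : i ≠ j then (Equiv.swap i j, refl i j h) else 1

/-- The central involution. -/
noncomputable def eps : Amb n := (1, -1)

theorem eps_comm (x : Amb n) : eps * x = x * eps :=
  Prod.ext (by simp [eps]) (Units.ext (by simp [eps]))

theorem eps_sq : eps * eps = (1 : Amb n) :=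
  Prod.ext (by simp [eps]) (Units.ext (by simp [eps]))

theorem eps_ne_one : eps ≠ (1 : Amb n) := by
  intro h
  have h1 : (-1 : Cl n) = 1 := congrArg (fun x : Amb n => (x.2 : Cl n)) h
  haveI : Invertible (2 : ℚ) := invertibleOfNonzero two_ne_zero
  have h2 : (2 : ℚ) • (1 : Cl n) = 0 := by
    rw [two_smul]; nth_rewrite 1 [← h1]; simp
  exact one_ne_zero ((smul_eq_zero.1 h2).resolve_left two_ne_zero)

theorem gen_sq (i j : Fin n) : gen i j * gen i j = 1 := by
  rcases eq_or_ne i j with rfl | h
  · simp [gen]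
  · simp only [gen, dif_pos h]
    exact Prod.ext (by simp) (Units.ext (by
      simp [refl, CliffordAlgebra.ι_sq_scalar, half_root h]))

theorem gen_inv (i j : Fin n) : (gen i j)⁻¹ = gen i j := inv_eq_of_mul_eq_one_right (gen_sq i j)

theorem gen_swap {i j : Fin n} (h : i ≠ j) : gen j i = eps * gen i j := by
  simp only [gen, dif_pos h, dif_pos h.symm]
  refine Prod.ext (by simp [eps, Equiv.swap_comm]) (Units.ext ?_)
  simp [eps, refl, root_swap i j]

theorem gen_conj {i j k l : Fin n} (h : i ≠ j) (h' : k ≠ l) :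
    gen i j * gen k l * gen i j = eps * gen (Equiv.swap i j k) (Equiv.swap i j l) := by
  have h'' : Equiv.swap i j k ≠ Equiv.swap i j l := (Equiv.injective _).ne h'
  simp only [gen, dif_pos h, dif_pos h', dif_pos h'']
  refine Prod.ext ?_ (Units.ext ?_)
  · show Equiv.swap i j * Equiv.swap k l * Equiv.swap i j = 1 * _
    rw [one_mul, Equiv.swap_apply_apply, Equiv.swap_inv]
  · show CliffordAlgebra.ι (half n) (root i j) * CliffordAlgebra.ι _ (root k l) *
        CliffordAlgebra.ι _ (root i j) = (-1) * CliffordAlgebra.ι _ (root _ _)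
    rw [CliffordAlgebra.ι_mul_ι_mul_ι, polar_root, half_root h, one_smul, comp_swap, map_neg,
      neg_one_mul]
    congr 2
    conv_lhs => rw [← Equiv.symm_swap i j]
    rw [root_comp]

/-- The lift of the symmetric group on the first `m` points. -/
noncomputable def lift (n m : ℕ) : Subgroup (Amb n) :=
  Subgroup.closure ({eps} ∪ {x | ∃ i j : Fin n, i ≠ j ∧ (i : ℕ) < m ∧ (j : ℕ) < m ∧ x = gen i j})

theorem eps_mem (m : ℕ) : eps ∈ lift n m := Subgroup.subset_closure (Or.inl rfl)

theorem gen_mem {m : ℕ} {i j : Fin n} (h : i ≠ j) (hi : (i : ℕ) < m) (hj : (j : ℕ) < m) :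
    gen i j ∈ lift n m :=
  Subgroup.subset_closure (Or.inr ⟨i, j, h, hi, hj, rfl⟩)

theorem finite_zero : (lift n 0 : Set (Amb n)).Finite ∧ Nat.card (lift n 0) ≤ 2 := by
  have hsub : (lift n 0 : Set (Amb n)) ⊆ {1, eps} := by
    intro x hx
    induction hx using Subgroup.closure_induction with
    | mem y hy =>
      rcases hy with h | ⟨i, j, -, hi, -⟩
      · right; exact h
      · exact absurd hi (Nat.not_lt_zero _)
    | one => left; rfl
    | mul y z _ _ hy hz =>
      rcases hy with rfl | rfl <;> rcases hz with rfl | rfl <;> simp [eps_sq]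
    | inv y _ hy =>
      rcases hy with rfl | rfl
      · simp
      · exact Or.inr (inv_eq_of_mul_eq_one_right eps_sq)
  have hfin : ({1, eps} : Set (Amb n)).Finite := Set.toFinite _
  refine ⟨hfin.subset hsub, ?_⟩
  rw [← SetLike.coe_sort_coe, Nat.card_coe_set_eq]
  exact (Set.ncard_le_ncard hsub hfin).trans ((Set.ncard_insert_le _ _).trans (by simp))

theorem lift_subset {m : ℕ} (hm : m + 1 ≤ n) :
    (lift n (m + 1) : Set (Amb n)) ⊆ (fun p : Fin (m + 1) × Amb n =>
      (if (p.1 : ℕ) = m then 1 else gen (Fin.castLE hm p.1) ⟨m, hm⟩) * p.2) ''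
        (Set.univ ×ˢ (lift n m : Set (Amb n))) := by
  set M : Fin n := ⟨m, hm⟩
  -- membership in the explicit set
  have key : ∀ x : Amb n, x ∈ (fun p : Fin (m + 1) × Amb n =>
      (if (p.1 : ℕ) = m then 1 else gen (Fin.castLE hm p.1) M) * p.2) ''
        (Set.univ ×ˢ (lift n m : Set (Amb n))) ↔
      (x ∈ lift n m ∨ ∃ k : Fin n, (k : ℕ) < m ∧ ∃ y ∈ lift n m, x = gen k M * y) := by
    intro x
    constructor
    · rintro ⟨⟨k, y⟩, ⟨-, hy⟩, rfl⟩
      by_cases hk : (k : ℕ) = m
      · left; simpa [hk] using hy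
      · exact Or.inr ⟨Fin.castLE hm k, by have := k.2; simp only [Fin.val_castLE]; omega, y, hy,
          by simp [hk]⟩
    · rintro (hx | ⟨k, hk, y, hy, rfl⟩)
      · exact ⟨(⟨m, by omega⟩, x), ⟨trivial, hx⟩, by simp⟩
      · refine ⟨(⟨k, by omega⟩, y), ⟨trivial, hy⟩, ?_⟩
        show (if (k : ℕ) = m then 1 else gen _ M) * y = _
        rw [if_neg hk.ne]
        rfl
  intro x hx
  refine (key x).2 ?_
  have hM : ∀ k : Fin n, (k : ℕ) < m → k ≠ M := fun k hk h => by simp [h, M] at hk
  -- left multiplication by `gen l M`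
  have stepM : ∀ l : Fin n, (l : ℕ) < m → ∀ z : Amb n,
      (z ∈ lift n m ∨ ∃ k : Fin n, (k : ℕ) < m ∧ ∃ y ∈ lift n m, z = gen k M * y) →
      (gen l M * z ∈ lift n m ∨
        ∃ k : Fin n, (k : ℕ) < m ∧ ∃ y ∈ lift n m, gen l M * z = gen k M * y) := by
    intro l hl z hz
    rcases hz with hz | ⟨k, hk, y, hy, rfl⟩
    · exact Or.inr ⟨l, hl, z, hz, rfl⟩
    · rcases eq_or_ne l k with rfl | hlk
      · left; rwa [← mul_assoc, gen_sq, one_mul]
      · refine Or.inr ⟨k, hk, eps * gen l k * y, mul_mem (mul_mem (eps_mem m) (gen_mem hlk hl hk)) hy, ?_⟩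
        have h1 := gen_conj (hM k hk) (hM l hl)
        rw [Equiv.swap_apply_of_ne_of_ne hlk (hM l hl), Equiv.swap_apply_right] at h1
        rw [← mul_assoc (gen k M), ← h1]
        simp only [← mul_assoc, gen_sq, one_mul]
  have step : ∀ g ∈ ({eps} ∪ {x | ∃ i j : Fin n, i ≠ j ∧ (i : ℕ) < m + 1 ∧ (j : ℕ) < m + 1 ∧
      x = gen i j} : Set (Amb n)), ∀ z : Amb n,
      (z ∈ lift n m ∨ ∃ k : Fin n, (k : ℕ) < m ∧ ∃ y ∈ lift n m, z = gen k M * y) →
      (g * z ∈ lift n m ∨ ∃ k : Fin n, (k : ℕ) < m ∧ ∃ y ∈ lift n m, g * z = gen k M * y) := by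
    rintro g (rfl | ⟨i, j, hij, hi, hj, rfl⟩) z hz
    · rcases hz with hz | ⟨k, hk, y, hy, rfl⟩
      · exact Or.inl (mul_mem (eps_mem m) hz)
      · exact Or.inr ⟨k, hk, eps * y, mul_mem (eps_mem m) hy, by
          rw [← mul_assoc, eps_comm, mul_assoc]⟩
    · have hz' : eps * z ∈ lift n m ∨
          ∃ k : Fin n, (k : ℕ) < m ∧ ∃ y ∈ lift n m, eps * z = gen k M * y := by
        rcases hz with hz | ⟨k, hk, y, hy, rfl⟩
        · exact Or.inl (mul_mem (eps_mem m) hz)
        · exact Or.inr ⟨k, hk, eps * y, mul_mem (eps_mem m) hy, by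
            rw [← mul_assoc, eps_comm, mul_assoc]⟩
      rcases Nat.lt_succ_iff_lt_or_eq.1 hi with hi' | hi'
      · rcases Nat.lt_succ_iff_lt_or_eq.1 hj with hj' | hj'
        · rcases hz with hz | ⟨k, hk, y, hy, rfl⟩
          · exact Or.inl (mul_mem (gen_mem hij hi' hj') hz)
          · have h1 := gen_conj hij (hM k hk)
            rw [Equiv.swap_apply_of_ne_of_ne (hM i hi').symm (hM j hj').symm] at h1
            have hσ : ((Equiv.swap i j k : Fin n) : ℕ) < m := by
              rw [Equiv.swap_apply_def]; split_ifs <;> assumption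
            refine Or.inr ⟨_, hσ, eps * gen i j * y,
              mul_mem (mul_mem (eps_mem m) (gen_mem hij hi' hj')) hy, ?_⟩
            have h2 : gen i j * gen k M = eps * gen (Equiv.swap i j k) M * gen i j := by
              rw [← h1, mul_assoc (gen i j * gen k M), gen_sq, mul_one]
            rw [← mul_assoc, h2, eps_comm]
            simp only [mul_assoc]
        · obtain rfl : j = M := Fin.ext hj'
          exact stepM i hi' z hz
      · obtain rfl : i = M := Fin.ext hi'
        have hj' : (j : ℕ) < m := by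
          rcases Nat.lt_succ_iff_lt_or_eq.1 hj with h | h
          · exact h
          · exact absurd (Fin.ext (hi'.trans h.symm)) hij
        rw [gen_swap (hM j hj'), eps_comm, mul_assoc]
        exact stepM j hj' _ hz'
  refine Subgroup.closure_induction_left
    (p := fun x _ => x ∈ lift n m ∨ ∃ k : Fin n, (k : ℕ) < m ∧ ∃ y ∈ lift n m, x = gen k M * y)
    (Or.inl (one_mem _)) (fun g hg z _ hz => step g hg z hz) (fun g hg z _ hz => ?_) hx
  have : g⁻¹ = g := by
    rcases hg with rfl | ⟨i, j, -, -, -, rfl⟩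
    · exact inv_eq_of_mul_eq_one_right eps_sq
    · exact gen_inv i j
  rw [this]
  exact step g hg z hz

theorem lift_card : ∀ m : ℕ, m ≤ n →
    (lift n m : Set (Amb n)).Finite ∧ Nat.card (lift n m) ≤ 2 * m.factorial := by
  intro m
  induction m with
  | zero => intro _; simpa using finite_zero
  | succ m ih =>
    intro hm
    obtain ⟨hfin, hcard⟩ := ih (by omega)
    have hsub := lift_subset hm
    have hfin' := (Set.finite_univ.prod hfin).image (fun p : Fin (m + 1) × Amb n =>
      (if (p.1 : ℕ) = m then 1 else gen (Fin.castLE hm p.1) ⟨m, hm⟩) * p.2)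
    refine ⟨hfin'.subset hsub, ?_⟩
    rw [← SetLike.coe_sort_coe, Nat.card_coe_set_eq]
    refine (Set.ncard_le_ncard hsub hfin').trans
      ((Set.ncard_image_le (Set.finite_univ.prod hfin)).trans ?_)
    rw [Set.ncard_prod, Set.ncard_univ, Nat.card_fin, ← Nat.card_coe_set_eq, SetLike.coe_sort_coe,
      Nat.factorial_succ]
    exact le_of_le_of_eq (Nat.mul_le_mul_left _ hcard) (by ring)

/-- The projection to the symmetric group. -/
noncomputable def proj (n : ℕ) : lift n n →* Equiv.Perm (Fin n) :=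
  (MonoidHom.fst _ _).comp (lift n n).subtype

theorem proj_surjective : Function.Surjective (proj n) := by
  rw [← MonoidHom.range_eq_top, eq_top_iff, ← Equiv.Perm.closure_isSwap, Subgroup.closure_le]
  rintro σ ⟨i, j, hij, rfl⟩
  exact ⟨⟨gen i j, gen_mem hij i.2 j.2⟩, show (gen i j).1 = _ by simp [gen, hij]⟩

theorem proj_ker [Finite (lift n n)] :
    (proj n).ker = Subgroup.zpowers (⟨eps, eps_mem n⟩ : lift n n) := by
  set z : lift n n := ⟨eps, eps_mem n⟩
  have hz : orderOf z = 2 := orderOf_eq_prime (Subtype.ext (by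
    rw [SubmonoidClass.coe_pow, sq, OneMemClass.coe_one]; exact eps_sq))
    fun h => eps_ne_one (congrArg Subtype.val h)
  refine (Subgroup.eq_of_le_of_card_ge
    (Subgroup.zpowers_le.2 (show (eps (n := n)).1 = 1 from rfl)) ?_).symm
  have h1 := Subgroup.index_mul_card (proj n).ker
  rw [Subgroup.index_ker, MonoidHom.range_eq_top.2 proj_surjective, Subgroup.card_top,
    Nat.card_perm, Nat.card_fin] at h1
  rw [Nat.card_zpowers, hz]
  refine Nat.le_of_mul_le_mul_left ?_ (Nat.factorial_pos n)
  rw [h1, mul_comm]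
  exact (lift_card n le_rfl).2

theorem exists_double_cover (n : ℕ) (hn : 4 ≤ n) :
    ∃ (Γ : Type) (_ : Group Γ) (_ : Finite Γ) (z : Γ) (_ : z ∈ Subgroup.center Γ),
      orderOf z = 2 ∧ z ∈ commutator Γ ∧
        ∃ _ : (Subgroup.zpowers z).Normal,
          Nonempty (Γ ⧸ Subgroup.zpowers z ≃* alternatingGroup (Fin n)) := by
  haveI : Finite (lift n n) := (lift_card n le_rfl).1.to_subtype
  let A := (alternatingGroup (Fin n)).comap (proj n)
  let z₀ : lift n n := ⟨eps, eps_mem n⟩
  have hz₀ : z₀ ∈ A := show (1 : Equiv.Perm (Fin n)) ∈ alternatingGroup (Fin n) from one_mem _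
  let z : A := ⟨z₀, hz₀⟩
  have hzc : z ∈ Subgroup.center A := Subgroup.mem_center_iff.2 fun x =>
    Subtype.ext (Subtype.ext (eps_comm ((x : lift n n) : Amb n)).symm)
  have hord : orderOf z = 2 := orderOf_eq_prime
    (Subtype.ext (Subtype.ext (by simp only [SubmonoidClass.coe_pow, sq]; exact eps_sq)))
    fun h => eps_ne_one (congrArg (fun x : A => ((x : lift n n) : Amb n)) h)
  have hcomm : z ∈ commutator A := by
    let p : Fin 4 → Fin n := Fin.castLE hn
    have hp : Function.Injective p := Fin.castLE_injective hn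
    have hmem : ∀ i j k l : Fin 4, i ≠ j → k ≠ l → ∃ x : A,
        ((x : lift n n) : Amb n) = gen (p i) (p j) * gen (p k) (p l) := by
      intro i j k l hij hkl
      refine ⟨⟨⟨_, mul_mem (gen_mem (hp.ne hij) (p i).2 (p j).2)
        (gen_mem (hp.ne hkl) (p k).2 (p l).2)⟩, ?_⟩, rfl⟩
      show (gen (p i) (p j) * gen (p k) (p l)).1 ∈ alternatingGroup (Fin n)
      simp [gen, hp.ne hij, hp.ne hkl, Equiv.Perm.mem_alternatingGroup, Equiv.Perm.sign_swap]
    obtain ⟨x, hx⟩ := hmem 0 1 2 3 (by decide) (by decide)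
    obtain ⟨y, hy⟩ := hmem 0 2 1 3 (by decide) (by decide)
    have hzy : z = ⁅x, y⁆ := by
      refine Subtype.ext (Subtype.ext ?_)
      simp only [commutatorElement_def, Subgroup.coe_mul, Subgroup.coe_inv, hx, hy, mul_inv_rev,
        gen_inv]
      have hsw : ∀ i j k : Fin 4, i ≠ j → Equiv.swap (p i) (p j) (p k) = p (Equiv.swap i j k) :=
        fun i j k _ => (hp.map_swap i j k).symm
      have e1 : gen (p 2) (p 3) * gen (p 0) (p 2) * gen (p 2) (p 3) = eps * gen (p 0) (p 3) := by
        rw [gen_conj (hp.ne (by decide)) (hp.ne (by decide)), hsw _ _ _ (by decide),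
          hsw _ _ _ (by decide)]
        rfl
      have e2 : gen (p 0) (p 1) * gen (p 0) (p 3) * gen (p 0) (p 1) = eps * gen (p 1) (p 3) := by
        rw [gen_conj (hp.ne (by decide)) (hp.ne (by decide)), hsw _ _ _ (by decide),
          hsw _ _ _ (by decide)]
        rfl
      have e3 : gen (p 2) (p 3) * gen (p 1) (p 3) * gen (p 2) (p 3) = eps * gen (p 1) (p 2) := by
        rw [gen_conj (hp.ne (by decide)) (hp.ne (by decide)), hsw _ _ _ (by decide),
          hsw _ _ _ (by decide)]
        rfl
      have e4 : gen (p 0) (p 1) * gen (p 1) (p 2) * gen (p 0) (p 1) = eps * gen (p 0) (p 2) := by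
        rw [gen_conj (hp.ne (by decide)) (hp.ne (by decide)), hsw _ _ _ (by decide),
          hsw _ _ _ (by decide)]
        rfl
      have e5 : gen (p 1) (p 3) * gen (p 0) (p 2) * gen (p 1) (p 3) = eps * gen (p 0) (p 2) := by
        rw [gen_conj (hp.ne (by decide)) (hp.ne (by decide)), hsw _ _ _ (by decide),
          hsw _ _ _ (by decide)]
        rfl
      set a := gen (p 0) (p 1)
      set c := gen (p 2) (p 3)
      set u := gen (p 0) (p 2)
      set v := gen (p 1) (p 3)
      have h1 : a * (c * u * c) * a = v := by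
        rw [e1, ← mul_assoc, ← eps_comm, mul_assoc eps, mul_assoc eps, e2, ← mul_assoc, eps_sq,
          one_mul]
      have h2 : a * (c * v * c) * a = u := by
        rw [e3, ← mul_assoc, ← eps_comm, mul_assoc eps, mul_assoc eps, e4, ← mul_assoc, eps_sq,
          one_mul]
      show eps = _
      calc eps = (eps * u) * u := by rw [mul_assoc, gen_sq, mul_one]
        _ = v * u * v * u := by rw [e5]
        _ = (a * (c * u * c) * a) * (a * (c * v * c) * a) * v * u := by rw [h1, h2]
        _ = a * c * u * (c * ((a * a) * c)) * v * c * a * v * u := by simp only [mul_assoc]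
        _ = a * c * u * v * c * a * v * u := by
          rw [gen_sq, one_mul, gen_sq, mul_one]
        _ = _ := by simp only [mul_assoc]
    rw [hzy, commutator_def]
    exact Subgroup.commutator_mem_commutator (Subgroup.mem_top x) (Subgroup.mem_top y)
  let f : A →* alternatingGroup (Fin n) :=
    ((proj n).comp A.subtype).codRestrict _ fun x => x.2
  have hf : Function.Surjective f := by
    rintro ⟨σ, hσ⟩
    obtain ⟨w, rfl⟩ := proj_surjective σ
    exact ⟨⟨w, hσ⟩, rfl⟩
  have hker : f.ker = Subgroup.zpowers z := by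
    ext x
    have h1 : x ∈ f.ker ↔ (x : lift n n) ∈ (proj n).ker := by
      rw [MonoidHom.mem_ker, MonoidHom.mem_ker, Subtype.ext_iff]
      rfl
    rw [h1, proj_ker, Subgroup.mem_zpowers_iff, Subgroup.mem_zpowers_iff]
    refine exists_congr fun k => ?_
    rw [← Subtype.coe_inj (a := z ^ k), SubgroupClass.coe_zpow]
  haveI hnorm : (Subgroup.zpowers z).Normal := hker ▸ f.normal_ker
  refine ⟨A, inferInstance, inferInstance, z, hzc, hord, hcomm, hnorm, ?_⟩
  exact ⟨(QuotientGroup.quotientMulEquivOfEq hker.symm).trans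
    (QuotientGroup.quotientKerEquivOfSurjective f hf)⟩

end Cfsg.Agent.CharTheory.DoubleCover
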