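import Cfsg.Prelude.Def_KGroupFacts
import Cfsg.Agent.Lib.CharTheory.DoubleCover

/-!
A perfect group of even permutations with an involution made of `2` modulo `4` transpositions has a stem
extension with kernel of order two: the lifts of such an involution square to the central involution.
-/

set_option autoImplicit false

namespace Cfsg.Agent.CharTheory.DoubleCover

variable {n : ℕ}

/-- The lift of a product of transpositions. -/
noncomputable def genProd (l : List (Fin n × Fin n)) : Amb n := (l.map fun ab => gen ab.1 ab.2).prod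

/-- Pairs without common points. -/
def Apart (a b : Fin n × Fin n) : Prop := a.1 ≠ b.1 ∧ a.1 ≠ b.2 ∧ a.2 ≠ b.1 ∧ a.2 ≠ b.2

theorem gen_anticomm {a b : Fin n × Fin n} (ha : a.1 ≠ a.2) (hb : b.1 ≠ b.2) (h : Apart a b) :
    gen a.1 a.2 * gen b.1 b.2 = eps * (gen b.1 b.2 * gen a.1 a.2) := by
  have e := gen_conj ha hb
  rw [Equiv.swap_apply_of_ne_of_ne h.1.symm h.2.2.1.symm, Equiv.swap_apply_of_ne_of_ne h.2.1.symm h.2.2.2.symm] at e
  calc gen a.1 a.2 * gen b.1 b.2 = gen a.1 a.2 * gen b.1 b.2 * gen a.1 a.2 * gen a.1 a.2 := by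
        rw [mul_assoc, gen_sq, mul_one]
    _ = _ := by rw [e, mul_assoc]

theorem genProd_swap {a : Fin n × Fin n} (ha : a.1 ≠ a.2) : ∀ l : List (Fin n × Fin n),
    (∀ b ∈ l, b.1 ≠ b.2 ∧ Apart b a) → genProd l * gen a.1 a.2 = eps ^ l.length * (gen a.1 a.2 * genProd l)
  | [], _ => by simp [genProd]
  | b :: l, h => by
    obtain ⟨hb, hap⟩ := h b (List.mem_cons_self ..)
    have ih := genProd_swap ha l fun x hx => h x (List.mem_cons_of_mem _ hx)
    have hp : genProd (b :: l) = gen b.1 b.2 * genProd l := by simp [genProd]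
    have hc : Commute (eps ^ l.length) (gen b.1 b.2) := (show Commute eps (gen b.1 b.2) from eps_comm _).pow_left _
    rw [hp, mul_assoc, ih, ← mul_assoc, ← hc.eq, mul_assoc, ← mul_assoc (gen b.1 b.2) (gen a.1 a.2),
      gen_anticomm hb ha hap, List.length_cons, pow_succ]
    simp only [mul_assoc]

theorem genProd_sq : ∀ l : List (Fin n × Fin n), (∀ a ∈ l, a.1 ≠ a.2) → l.Pairwise Apart →
    genProd l * genProd l = eps ^ (l.length.choose 2)
  | [], _, _ => by simp [genProd]
  | a :: l, h, hl => by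
    obtain ⟨h1, h2⟩ := List.pairwise_cons.1 hl
    have ha := h a (List.mem_cons_self ..)
    have ih := genProd_sq l (fun x hx => h x (List.mem_cons_of_mem _ hx)) h2
    have hs := genProd_swap ha l fun b hb => by
      obtain ⟨e1, e2, e3, e4⟩ := h1 b hb
      exact ⟨h b (List.mem_cons_of_mem _ hb), e1.symm, e3.symm, e2.symm, e4.symm⟩
    have hp : genProd (a :: l) = gen a.1 a.2 * genProd l := by simp [genProd]
    have hc : Commute (eps ^ l.length) (gen a.1 a.2) := (show Commute eps (gen a.1 a.2) from eps_comm _).pow_left _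
    rw [hp, mul_assoc, ← mul_assoc (genProd l), hs, ← mul_assoc, ← mul_assoc, ← hc.eq,
      mul_assoc (eps ^ l.length), ← mul_assoc (gen a.1 a.2), gen_sq, one_mul, mul_assoc, ih, ← pow_add, List.length_cons,
      Nat.choose_succ_succ l.length 1, Nat.choose_one_right]

/-- A perfect group of even permutations with such an involution has a double cover. -/
theorem exists_stem {G : Type} [Group G] [Finite G] (hG : commutator G = ⊤)
    (φ : G →* Equiv.Perm (Fin n)) (hinj : Function.Injective φ) (hsign : ∀ g, Equiv.Perm.sign (φ g) = 1)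
    (x : G) (l : List (Fin n × Fin n)) (hne : ∀ a ∈ l, a.1 ≠ a.2) (hl : l.Pairwise Apart)
    (hodd : Odd (l.length.choose 2)) (hx : φ x = (l.map fun ab => Equiv.swap ab.1 ab.2).prod) :
    ∃ (Γ : Type) (_ : Group Γ) (_ : Finite Γ) (σ : Γ →* G), Cfsg.IsStemExtension σ ∧ Nat.card σ.ker = 2 := by
  classical
  haveI : Finite (lift n n) := (lift_card n le_rfl).1.to_subtype
  let A : Subgroup (lift n n) := φ.range.comap (proj n)
  let e : φ.range ≃* G := (MonoidHom.ofInjective hinj).symm
  let f : A →* φ.range := ((proj n).comp A.subtype).codRestrict φ.range fun a => a.2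
  let σ : A →* G := e.toMonoidHom.comp f
  let z₀ : lift n n := ⟨eps, eps_mem n⟩
  have hz₀ : z₀ ∈ A := show (1 : Equiv.Perm (Fin n)) ∈ φ.range from one_mem _
  let z : A := ⟨z₀, hz₀⟩
  have hsur : Function.Surjective σ := by
    refine e.surjective.comp ?_
    rintro ⟨p, hp⟩
    obtain ⟨w, rfl⟩ := proj_surjective p
    exact ⟨⟨w, hp⟩, rfl⟩
  have hker : σ.ker = Subgroup.zpowers z := by
    ext a
    have h1 : a ∈ σ.ker ↔ (a : lift n n) ∈ (proj n).ker := by
      rw [MonoidHom.mem_ker, MonoidHom.mem_ker]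
      show e (f a) = 1 ↔ _
      rw [e.map_eq_one_iff, Subtype.ext_iff]
      rfl
    rw [h1, proj_ker, Subgroup.mem_zpowers_iff, Subgroup.mem_zpowers_iff]
    refine exists_congr fun k => ?_
    rw [← Subtype.coe_inj (a := z ^ k), SubgroupClass.coe_zpow]
  have hzo : orderOf z = 2 := orderOf_eq_prime
    (Subtype.ext (Subtype.ext (by simp only [SubmonoidClass.coe_pow, sq]; exact eps_sq)))
    fun h => eps_ne_one (congrArg (fun a : A => ((a : lift n n) : Amb n)) h)
  have hz2 : z * z = 1 := by rw [← sq, ← hzo, pow_orderOf_eq_one]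
  have hzc : z ∈ Subgroup.center A := Subgroup.mem_center_iff.2 fun a =>
    Subtype.ext (Subtype.ext (eps_comm ((a : lift n n) : Amb n)).symm)
  have hmem : genProd l ∈ lift n n := list_prod_mem fun y hy => by
    obtain ⟨ab, hab, rfl⟩ := List.mem_map.1 hy
    exact gen_mem (hne ab hab) ab.1.2 ab.2.2
  have hproj : proj n ⟨genProd l, hmem⟩ = φ x := by
    show (MonoidHom.fst (Equiv.Perm (Fin n)) (Cl n)ˣ) (genProd l) = φ x
    rw [hx, genProd, map_list_prod, List.map_map]
    congr 1
    refine List.map_congr_left fun ab hab => ?_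
    simp [gen, hne ab hab]
  let y : A := ⟨⟨genProd l, hmem⟩, by
    show proj n _ ∈ φ.range
    exact ⟨x, hproj.symm⟩⟩
  have hy : y * y = z := Subtype.ext (Subtype.ext (by
    show genProd l * genProd l = eps
    rw [genProd_sq l hne hl]
    obtain ⟨k, hk⟩ := hodd
    rw [hk, pow_succ, pow_mul, sq, eps_sq, one_pow, one_mul]))
  have hmap : (commutator A).map σ = ⊤ := by
    rw [commutator_def, Subgroup.map_commutator, Subgroup.map_top_of_surjective σ hsur, ← commutator_def, hG]
  have hzA : z ∈ commutator A := by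
    obtain ⟨c, hc, hcy⟩ : σ y ∈ (commutator A).map σ := hmap ▸ Subgroup.mem_top _
    have hk : c⁻¹ * y ∈ σ.ker := by rw [MonoidHom.mem_ker, map_mul, map_inv, hcy, inv_mul_cancel]
    rw [hker, Subgroup.mem_zpowers_iff] at hk
    obtain ⟨k, hk⟩ := hk
    have hy' : y = c * z ^ k := by rw [hk, mul_inv_cancel_left]
    have hcz : Commute c (z ^ k) :=
      (show Commute c z from Subgroup.mem_center_iff.1 hzc c).zpow_right k
    have hzk : z ^ k * z ^ k = 1 := by rw [← (Commute.refl z).mul_zpow, hz2, one_zpow]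
    rw [← hy, hy', hcz.symm.mul_mul_mul_comm, hzk, mul_one]
    exact mul_mem hc hc
  refine ⟨A, inferInstance, inferInstance, σ, ⟨hsur, ?_, ?_⟩, ?_⟩
  · rw [hker, Subgroup.zpowers_le]; exact hzc
  · rw [hker, Subgroup.zpowers_le]; exact hzA
  · rw [hker, Nat.card_zpowers, hzo]

end Cfsg.Agent.CharTheory.DoubleCover
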