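import Mathlib
import Cfsg.Agent.Lib.Blocks.Star.Action
import Cfsg.Agent.BlockCharsA.PairLocal

/-!
# Characters of height zero with equal regular values
-/

set_option linter.style.haveILetI false
set_option linter.unusedSectionVars false

namespace Cfsg.Agent.CharTheory.HeightZeroOrbits

open Cfsg.Agent.Blocks Cfsg.Agent.Characters Cfsg.Agent.Blocks.Star
open Cfsg.Agent.BlockCharsA.BrauerPairs Cfsg.Agent.BlockCharsA.PairLocal
open MonoidAlgebra

universe u

variable {G : Type u} [Group G] [Finite G] {p : ℕ} {M : Ideal Cfsg.AlgInt}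

/-- The height-zero characters sharing a property of the regular values come in multiples of the
order of the top over the focal subgroup. -/
theorem dvd_card_height_zero_pred (hM : Cfsg.IsPModular p M) {B : Set (Cfsg.IrrCharacter G)} {P : Subgroup G}
    {e : Set (Cfsg.IrrCharacter (Subgroup.centralizer (P : Set G)))} {F : Cfsg.FusionSystem P}
    (hF : Cfsg.IsBlockFusionSystemOn p M B P e F) (Pr : Cfsg.IrrCharacter G → Prop)
    (hPr : ∀ χ ψ : Cfsg.IrrCharacter G, χ ∈ B → ψ ∈ B →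
      (∀ s, ¬ p ∣ orderOf s → (ψ : G → ℂ) s = (χ : G → ℂ) s) → Pr χ → Pr ψ) :
    (F.focalSubgroup.subgroupOf P).index ∣
      Nat.card {χ : Cfsg.IrrCharacter G //
        χ ∈ B ∧ Cfsg.blockHeight p B (χ : G → ℂ) = 0 ∧ Pr χ} := by
  classical
  haveI := Fintype.ofFinite G
  have hne : ∀ χ : Cfsg.IrrCharacter G, χ ∈ B → Cfsg.blockHeight p B (χ : G → ℂ) = 0 →
      ∀ v : P, ∃ s ∈ regAt p (v : G), th (χ : G → ℂ) (v : G) (eps p M e v) s ≠ 0 := by
    intro χ hχ h0 v
    obtain ⟨g, hg, -, he⟩ := eps_spec hM hF.1 v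
    rw [he]
    exact exists_th_ne_zero hM (orderOf_top hM hF.1 v)
      ((block_of_subpairLE hM hg).2 hF.1.1) hχ h0
  set N := F.focalSubgroup.subgroupOf P
  have hcomm : ∀ g v : P, v⁻¹ * (g * v * g⁻¹) ∈ N := fun g v => by
    rw [Subgroup.mem_subgroupOf]
    exact commutator_mem_focal F g.2 v.2
  haveI : N.Normal := ⟨fun v hv g => by
    have := N.mul_mem hv (hcomm g v)
    rwa [mul_inv_cancel_left] at this⟩
  letI : CommGroup (P ⧸ N) :=
    { (inferInstance : Group (P ⧸ N)) with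
      mul_comm := by
        intro a b
        induction a using QuotientGroup.induction_on with | H a => ?_
        induction b using QuotientGroup.induction_on with | H b => ?_
        rw [← QuotientGroup.mk_mul, ← QuotientGroup.mk_mul, QuotientGroup.eq]
        simpa [mul_assoc] using hcomm a⁻¹ b }
  haveI : Finite (P ⧸ N →* ℂˣ) := Finite.of_equiv _
    (CommGroup.monoidHom_mulEquiv_of_hasEnoughRootsOfUnity (P ⧸ N) ℂ).some.toEquiv.symm
  let L : (P ⧸ N →* ℂˣ) → (P →* ℂ) := fun φ =>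
    (Units.coeHom ℂ).comp (φ.comp (QuotientGroup.mk' N))
  have hL : ∀ φ, Stable p M e fun v => L φ v := fun φ =>
    stable_of_focal hM hF (L φ) fun z hz => by
      have h1 : QuotientGroup.mk' N z = 1 :=
        (QuotientGroup.eq_one_iff z).2 (Subgroup.mem_subgroupOf.2 hz)
      show ((φ (QuotientGroup.mk' N z) : ℂˣ) : ℂ) = 1
      rw [h1, map_one, Units.val_one]
  let X := {χ : Cfsg.IrrCharacter G //
    χ ∈ B ∧ Cfsg.blockHeight p B (χ : G → ℂ) = 0 ∧ Pr χ}
  let W : (P ⧸ N →* ℂˣ) → G → MonoidAlgebra ℂ G := fun φ => wt p M e fun v => L φ v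
  have hex : ∀ (φ : P ⧸ N →* ℂˣ) (χ : X), ∃ ψ : X,
      (ψ.1 : G → ℂ) = star hM (W φ) (χ.1 : G → ℂ) := by
    intro φ χ
    obtain ⟨ψ, hψB, hψ, hψ1⟩ := exists_twist hM hF.1 (L φ) (hL φ) χ.2.1
    refine ⟨⟨ψ, hψB, ?_, hPr χ.1 ψ χ.2.1 hψB (fun s hs => ?_) χ.2.2.2⟩, hψ⟩
    · rw [← χ.2.2.1]
      simp only [Cfsg.blockHeight, Cfsg.charDegree, hψ1]
    · rw [hψ, star_regular hM hF.1 (hL φ) χ.2.1 hs, map_one, one_mul]
  choose tw htw using hex
  letI : MulAction (P ⧸ N →* ℂˣ) X :=
    { smul := tw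
      one_smul := fun χ => Subtype.ext (Subtype.ext (by
        show ((tw 1 χ).1 : G → ℂ) = _
        rw [htw]
        show star hM (wt p M e fun v => L 1 v) (χ.1 : G → ℂ) = _
        rw [show (fun v => L 1 v) = fun _ : P => (1 : ℂ) from funext fun v => by simp [L]]
        exact star_one hM hF.1 χ.2.1))
      mul_smul := fun φ φ' χ => Subtype.ext (Subtype.ext (by
        show ((tw (φ * φ') χ).1 : G → ℂ) = ((tw φ (tw φ' χ)).1 : G → ℂ)
        rw [htw, htw, htw]
        show star hM (wt p M e fun v => L (φ * φ') v) (χ.1 : G → ℂ) =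
          star hM (wt p M e fun v => L φ v) (star hM (wt p M e fun v => L φ' v) (χ.1 : G → ℂ))
        rw [star_star hM _ _ (irr_isClassFunction χ.1)]
        · congr 2
        · rw [show star hM (wt p M e fun v => L φ' v) (χ.1 : G → ℂ) = ((tw φ' χ).1 : G → ℂ) from
            (htw φ' χ).symm]
          exact irr_isClassFunction _)) }
  set Z' := (⊤ : Subgroup P).map (QuotientGroup.mk' N)
  have hdiv : (MonoidHom.domRestrictHom Z' ℂˣ).ker.index ∣ Nat.card X := by
    refine dvd_card_of_stabilizer _ fun χ φ hφ => ?_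
    have hfix : star hM (W φ) (χ.1 : G → ℂ) = (χ.1 : G → ℂ) := by
      rw [← htw]
      exact congrArg (fun ψ : X => (ψ.1 : G → ℂ)) hφ
    rw [MonoidHom.mem_ker]
    refine MonoidHom.ext ?_
    rintro ⟨_, ⟨v, -, rfl⟩⟩
    obtain ⟨s, hs, hne'⟩ := hne χ.1 χ.2.1 χ.2.2.1 v
    have h1 := th_star (f := (χ.1 : G → ℂ)) hM (η := fun v => L φ v) (irr_isClassFunction _)
      (by rw [show star hM (wt p M e fun v => L φ v) (χ.1 : G → ℂ) = (χ.1 : G → ℂ) from hfix]
          exact irr_isClassFunction _)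
      (orderOf_top hM hF.1 v) (eps_mem_BI hM hF.1 v) hs
    rw [show star hM (wt p M e fun v => L φ v) (χ.1 : G → ℂ) = (χ.1 : G → ℂ) from hfix,
      hat_self hM hF.1 (hL φ)] at h1
    have h2 : L φ v = 1 := (mul_eq_right₀ hne').1 h1.symm
    exact Units.ext (show (φ (QuotientGroup.mk' N v) : ℂ) = ((1 : ℂˣ) : ℂ) from h2.trans Units.val_one.symm)
  have hindex : (MonoidHom.domRestrictHom Z' ℂˣ).ker.index = N.relIndex ⊤ := by
    rw [Subgroup.index_ker, MonoidHom.range_eq_top.2 (MonoidHom.domRestrict_surjective ℂ Z'),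
      Subgroup.card_top, CommGroup.card_monoidHom_of_hasEnoughRootsOfUnity]
    conv_rhs => rw [← QuotientGroup.ker_mk' N]
    rw [Subgroup.relIndex_ker]
  rwa [hindex, Subgroup.relIndex_top_right] at hdiv

end Cfsg.Agent.CharTheory.HeightZeroOrbits
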