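import Cfsg.Agent.Lib.Blocks.PGroupSum
import Cfsg.Agent.Lib.Blocks.LocalRing
import Cfsg.Agent.Lib.Characters.Inner
import Cfsg.Agent.Lib.Characters.Kernel
import Cfsg.Agent.BlockCharsA.DefectZeroVanish

/-! A `p`-group of automorphisms of a `p'`-group fixes as many real irreducible characters as
real classes. -/

set_option autoImplicit false
set_option linter.style.haveILetI false

namespace Cfsg.Agent.CharTheory.InvariantReal

open scoped ComplexConjugate
open Cfsg.Agent.Characters

universe u

/-- The fixed vectors of an involution of the coordinates. -/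
def fixedVec (F : Type*) [Field F] {X : Type*} (τ : X → X) : Submodule F (X → F) where
  carrier := {v | ∀ x, v (τ x) = v x}
  add_mem' ha hb x := by simp [ha x, hb x]
  zero_mem' _ := rfl
  smul_mem' c v hv x := by simp [hv x]

theorem two_mul_finrank_fixedVec (F : Type*) [Field F] {X : Type*} [Fintype X] [LinearOrder X]
    {τ : X → X} (hτ : Function.Involutive τ) :
    2 * Module.finrank F (fixedVec F τ) = Fintype.card X + Nat.card {x // τ x = x} := by
  classical
  let S : Finset X := Finset.univ.filter fun x => x ≤ τ x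
  let e : fixedVec F τ ≃ₗ[F] (S → F) :=
    { toFun := fun v x => v.1 x
      map_add' := fun _ _ => rfl
      map_smul' := fun _ _ => rfl
      invFun := fun w => ⟨fun x => if h : x ≤ τ x then w ⟨x, by simp [S, h]⟩
          else w ⟨τ x, by simp [S, hτ x, le_of_not_ge h]⟩, fun x => by
        by_cases h : x ≤ τ x <;> by_cases h' : τ x ≤ x
        · have e : τ x = x := le_antisymm h' h
          simp only [hτ x, h, h', dif_pos]
          congr 1
          exact Subtype.ext e
        · simp [hτ x, h, h']
        · simp [hτ x, h, h']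
        · exact absurd (le_total x (τ x)) (by simp [h, h'])⟩
      left_inv := fun v => Subtype.ext (funext fun x => by
        by_cases h : x ≤ τ x
        · simp [h]
        · simp [h, v.2 x])
      right_inv := fun w => funext fun x => by
        simp [(Finset.mem_filter.1 x.2).2] }
  rw [e.finrank_eq, Module.finrank_pi, Fintype.card_coe]
  have h1 : S ∪ S.image τ = Finset.univ := by
    ext x
    simp only [S, Finset.mem_union, Finset.mem_filter, Finset.mem_univ, true_and, Finset.mem_image,
      iff_true]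
    rcases le_total x (τ x) with h | h
    · exact Or.inl h
    · exact Or.inr ⟨τ x, by rw [hτ x]; exact h, hτ x⟩
  have h2 : S ∩ S.image τ = Finset.univ.filter (fun x => τ x = x) := by
    ext x
    simp only [S, Finset.mem_inter, Finset.mem_filter, Finset.mem_univ, true_and, Finset.mem_image]
    constructor
    · rintro ⟨h, y, hy, rfl⟩
      rw [hτ y] at h ⊢
      exact le_antisymm hy h
    · intro h
      exact ⟨h.ge, x, h.ge, h⟩
  have h3 := Finset.card_union_add_card_inter S (S.image τ)
  rw [h1, h2, Finset.card_image_of_injective _ hτ.injective, Finset.card_univ] at h3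
  rw [two_mul, ← h3, Nat.card_eq_fintype_card, Fintype.card_subtype]

variable {K : Type u} [Group K] {P : Type u} [Group P]

/-- The action on irreducible characters. -/
@[reducible] noncomputable def irrAction (φ : P →* MulAut K) :
    MulAction P (Cfsg.IrrCharacter K) where
  smul u θ := ⟨fun k => (θ : K → ℂ) (φ u⁻¹ k),
    (isIrrCharacter_comp_mulEquiv (φ u⁻¹)).2 θ.2⟩
  one_smul θ := Subtype.ext (funext fun k => by
    show (θ : K → ℂ) (φ (1 : P)⁻¹ k) = _
    simp)
  mul_smul u v θ := Subtype.ext (funext fun k => by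
    show (θ : K → ℂ) (φ (u * v)⁻¹ k) = (θ : K → ℂ) (φ v⁻¹ (φ u⁻¹ k))
    simp [mul_inv_rev])

/-- The action on classes. -/
@[reducible] def classAction (φ : P →* MulAut K) : MulAction P (ConjClasses K) where
  smul u c := ConjClasses.map (φ u).toMonoidHom c
  one_smul c := by
    obtain ⟨k, rfl⟩ := ConjClasses.exists_rep c
    show ConjClasses.mk (φ 1 k) = _
    simp
  mul_smul u v c := by
    obtain ⟨k, rfl⟩ := ConjClasses.exists_rep c
    show ConjClasses.mk (φ (u * v) k) = ConjClasses.mk (φ u (φ v k))
    simp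

/-- The class of inverses. -/
def invClass (c : ConjClasses K) : ConjClasses K :=
  Quotient.liftOn c (fun k => ConjClasses.mk k⁻¹) fun a b h => by
    obtain ⟨x, hx⟩ := isConj_iff.1 (show IsConj a b from h)
    exact ConjClasses.mk_eq_mk_iff_isConj.2 (isConj_iff.2 ⟨x, by rw [← hx]; group⟩)

theorem invClass_mk (k : K) : invClass (ConjClasses.mk k) = ConjClasses.mk k⁻¹ := rfl

theorem invClass_invClass : Function.Involutive (invClass (K := K)) := fun c => by
  obtain ⟨k, rfl⟩ := ConjClasses.exists_rep c
  rw [invClass_mk, invClass_mk, inv_inv]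

variable [Finite K] {p : ℕ} [Fact p.Prime]

theorem card_real_invariant_aux {F : Type*} [Field F] (q : Cfsg.AlgInt →+* F) (hpF : (p : F) = 0)
    (φ : P →* MulAut K) (hP : IsPGroup p P) (hK : ¬ p ∣ Nat.card K) :
    Nat.card {θ : Cfsg.IrrCharacter K // (∀ k, ((θ : K → ℂ) k).im = 0) ∧
        ∀ (u : P) (k : K), (θ : K → ℂ) (φ u k) = (θ : K → ℂ) k} =
      Nat.card {c : ConjClasses K // invClass c = c ∧
        ∀ u : P, ConjClasses.map (φ u).toMonoidHom c = c} := by
  classical
  haveI : CharP F p := (CharP.charP_iff_prime_eq_zero Fact.out).2 hpF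
  have hcast : ∀ n : ℕ, ¬ p ∣ n → (n : F) ≠ 0 := fun n hn h =>
    hn ((CharP.cast_eq_zero_iff F p n).1 h)
  haveI := Fintype.ofFinite K
  haveI := Fintype.ofFinite (Cfsg.IrrCharacter K)
  haveI := Fintype.ofFinite (ConjClasses K)
  letI := irrAction φ
  letI := classAction φ
  let a : Cfsg.IrrCharacter K → K → Cfsg.AlgInt := fun θ k =>
    ⟨(θ : K → ℂ) k, char_value_isIntegral (irr_isCharacter θ) k⟩
  let w : Cfsg.IrrCharacter K → K → F := fun θ k => q (a θ k)
  have hwcf : ∀ θ k l, IsConj k l → w θ k = w θ l := fun θ k l h => by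
    obtain ⟨x, rfl⟩ := isConj_iff.1 h
    exact congrArg q (Subtype.ext (irr_isClassFunction θ k x).symm)
  have hout : ∀ c : ConjClasses K, ConjClasses.mk (Quotient.out c) = c := fun c => Quotient.out_eq c
  have hwmk : ∀ θ k, w θ (Quotient.out (ConjClasses.mk k)) = w θ k := fun θ k =>
    hwcf θ _ _ (ConjClasses.mk_eq_mk_iff_isConj.1 (hout _))
  have orth1 : ∀ θ η, ∑ k : K, w θ k * w η k⁻¹ = if θ = η then (Nat.card K : F) else 0 := by
    intro θ η
    have h := classInner_irr θ η
    rw [classInner_def] at h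
    have h2 : ∑ k : K, a θ k * a η k⁻¹ = if θ = η then (Nat.card K : Cfsg.AlgInt) else 0 := by
      apply Subtype.ext
      rw [AddSubmonoidClass.coe_finsetSum]
      simp only [MulMemClass.coe_mul, a, char_inv (irr_isCharacter η)]
      split_ifs with he
      · rw [if_pos he] at h
        rw [SubringClass.coe_natCast]
        calc _ = (Nat.card K : ℂ) * ((Nat.card K : ℂ)⁻¹ *
              ∑ k : K, (θ : K → ℂ) k * conj ((η : K → ℂ) k)) := by
              rw [← mul_assoc, mul_inv_cancel₀ natCard_ne_zero, one_mul]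
          _ = _ := by rw [h, mul_one]
      · rw [if_neg he, mul_eq_zero, or_iff_right (inv_ne_zero natCard_ne_zero)] at h
        simpa using h
    have := congrArg q h2
    rw [map_sum, apply_ite q, map_zero, map_natCast] at this
    simpa only [map_mul, w] using this
  have orth2 : ∀ c d : ConjClasses K, ∑ θ, w θ (Quotient.out c) * w θ (Quotient.out d)⁻¹ =
      if c = d then (Nat.card (Subgroup.centralizer ({Quotient.out d} : Set K)) : F) else 0 := by
    intro c d
    have h := second_orthogonality (Quotient.out c) (Quotient.out d)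
    have h2 : ∑ θ, a θ (Quotient.out c) * a θ (Quotient.out d)⁻¹ =
        if c = d then (Nat.card (Subgroup.centralizer ({Quotient.out d} : Set K)) : Cfsg.AlgInt)
          else 0 := by
      apply Subtype.ext
      rw [AddSubmonoidClass.coe_finsetSum]
      simp only [MulMemClass.coe_mul, a]
      rw [Finset.sum_congr rfl fun θ _ => by rw [char_inv (irr_isCharacter θ)], h]
      have hiff : IsConj (Quotient.out c) (Quotient.out d) ↔ c = d := by
        rw [← ConjClasses.mk_eq_mk_iff_isConj, hout, hout]
      by_cases he : c = d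
      · rw [if_pos he, if_pos (hiff.2 he), SubringClass.coe_natCast]
      · rw [if_neg he, if_neg (mt hiff.1 he)]; rfl
    have := congrArg q h2
    rw [map_sum, apply_ite q, map_zero, map_natCast] at this
    simpa only [map_mul, w] using this
  have hsmul : ∀ (u : P) (θ : Cfsg.IrrCharacter K) k, w (u • θ) k = w θ (φ u⁻¹ k) := fun _ _ _ => rfl
  have hred : ∀ {X : Type u} [MulAction P X] [Fintype X] (f : X → F)
      (_ : ∀ (u : P) (x : X), f (u • x) = f x),
      ∑ x, f x = ∑ x : {x : X // ∀ u : P, u • x = x}, f x.1 := by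
    intro X _ _ f hf
    obtain ⟨b, hb⟩ := Blocks.exists_sum_eq_fixed_add hP f hf
      (Finset.univ.filter fun x => ∀ u : P, u • x = x) (fun x => by simp)
    rw [hb, nsmul_eq_mul, hpF, zero_mul, add_zero]
    exact Finset.sum_subtype _ (fun x => by simp) f
  -- the two sets
  let Θ := {θ : Cfsg.IrrCharacter K // ∀ u : P, u • θ = θ}
  let C := {c : ConjClasses K // ∀ u : P, u • c = c}
  have hΘ : ∀ (θ : Θ) (u : P) (k : K), w θ.1 (φ u k) = w θ.1 k := fun θ u k => by
    have := hsmul u⁻¹ θ.1 k
    rw [θ.2 u⁻¹, inv_inv] at this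
    exact this.symm
  have hC : ∀ (c : C) (u : P), IsConj (φ u (Quotient.out c.1)) (Quotient.out c.1) := fun c u => by
    rw [← ConjClasses.mk_eq_mk_iff_isConj, hout]
    conv_rhs => rw [← c.2 u, ← hout c.1]
    rfl
  let E : (C → F) →ₗ[F] (Θ → F) :=
    { toFun := fun v θ => ∑ c : C, w θ.1 (Quotient.out c.1) * v c
      map_add' := fun v v' => funext fun θ => by simp [mul_add, Finset.sum_add_distrib]
      map_smul' := fun r v => funext fun θ => by simp [Finset.mul_sum, mul_left_comm] }
  have hinj : Function.Injective E := by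
    rw [← LinearMap.ker_eq_bot, LinearMap.ker_eq_bot']
    intro v hv
    funext d
    have h0 : ∑ θ : Θ, E v θ * w θ.1 (Quotient.out d.1)⁻¹ = 0 := by simp [hv]
    have h1 : ∀ c : C, ∑ θ : Θ, w θ.1 (Quotient.out c.1) * w θ.1 (Quotient.out d.1)⁻¹ =
        if c = d then (Nat.card (Subgroup.centralizer ({Quotient.out d.1} : Set K)) : F) else 0 := by
      intro c
      rw [← hred (fun θ => w θ (Quotient.out c.1) * w θ (Quotient.out d.1)⁻¹) fun u θ => by
        rw [hsmul, hsmul, hwcf θ _ _ (hC c u⁻¹), map_inv (φ u⁻¹)]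
        congr 1
        refine hwcf θ _ _ ?_
        obtain ⟨x, hx⟩ := isConj_iff.1 (hC d u⁻¹)
        exact isConj_iff.2 ⟨x, by
          conv_rhs => rw [← hx]
          group⟩, orth2]
      exact if_congr (Subtype.ext_iff).symm rfl rfl
    simp only [E, LinearMap.coe_mk, AddHom.coe_mk, Finset.sum_mul] at h0
    rw [Finset.sum_comm, Finset.sum_eq_single d (fun c _ hne => ?_) (by simp)] at h0
    · rw [Finset.sum_congr rfl (g := fun θ : Θ =>
        (w θ.1 (Quotient.out d.1) * w θ.1 (Quotient.out d.1)⁻¹) * v d) fun θ _ => by ring,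
        ← Finset.sum_mul, h1, if_pos rfl, mul_eq_zero] at h0
      exact h0.resolve_left (hcast _ fun hd => hK (hd.trans (Subgroup.card_subgroup_dvd_card _)))
    · rw [Finset.sum_congr rfl (g := fun θ : Θ =>
        (w θ.1 (Quotient.out c.1) * w θ.1 (Quotient.out d.1)⁻¹) * v c) fun θ _ => by ring,
        ← Finset.sum_mul, h1, if_neg hne, zero_mul]
  have hsurj : Function.Surjective E := by
    have hbasis : ∀ η : Θ, E (fun c => (Nat.card K : F)⁻¹ *
        ∑ k ∈ Finset.univ.filter (fun k => ConjClasses.mk k = c.1), w η.1 k⁻¹) =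
        Pi.single η 1 := by
      intro η
      funext θ
      simp only [E, LinearMap.coe_mk, AddHom.coe_mk, Finset.mul_sum]
      let f : ConjClasses K → F := fun c =>
        ∑ k ∈ Finset.univ.filter (fun k => ConjClasses.mk k = c),
          (Nat.card K : F)⁻¹ * (w θ.1 k * w η.1 k⁻¹)
      have hf : ∀ (u : P) (c : ConjClasses K), f (u • c) = f c := by
        intro u c
        refine Finset.sum_bij' (fun k _ => φ u⁻¹ k) (fun k _ => φ u k) ?_ ?_ ?_ ?_ ?_
        · intro k hk
          rw [Finset.mem_filter] at hk ⊢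
          refine ⟨Finset.mem_univ _, ?_⟩
          rw [← inv_smul_smul u c, ← hk.2]; rfl
        · intro k hk
          rw [Finset.mem_filter] at hk ⊢
          exact ⟨Finset.mem_univ _, by rw [← hk.2]; rfl⟩
        · intro k _; simp
        · intro k _; simp
        · intro k _
          rw [hΘ θ, ← map_inv (φ u⁻¹), hΘ η]
      have hsum : ∑ c : C, f c.1 = if θ = η then 1 else 0 := by
        rw [← hred f hf]
        simp only [f]
        rw [Finset.sum_fiberwise Finset.univ ConjClasses.mk, ← Finset.mul_sum, orth1]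
        by_cases he : θ = η
        · rw [if_pos he, if_pos (congrArg Subtype.val he), inv_mul_cancel₀ (hcast _ hK)]
        · rw [if_neg he, if_neg (fun e => he (Subtype.ext e)), mul_zero]
      rw [Pi.single_apply, ← hsum]
      refine Finset.sum_congr rfl fun c _ => Finset.sum_congr rfl fun k hk => ?_
      rw [← (Finset.mem_filter.1 hk).2, hwmk]
      ring
    intro v
    refine ⟨∑ η : Θ, v η • fun c : C => (Nat.card K : F)⁻¹ *
        ∑ k ∈ Finset.univ.filter (fun k => ConjClasses.mk k = c.1), w η.1 k⁻¹, ?_⟩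
    rw [map_sum]
    simp only [map_smul, hbasis]
    funext θ
    simp only [Finset.sum_apply, Pi.smul_apply, smul_eq_mul, Pi.single_apply, mul_ite, mul_one, mul_zero]
    exact (Finset.sum_ite_eq _ _ _).trans (if_pos (Finset.mem_univ _))
  let e := LinearEquiv.ofBijective E ⟨hinj, hsurj⟩
  have hcard : Fintype.card C = Fintype.card Θ := by
    rw [← Module.finrank_pi (R := F), ← Module.finrank_pi (R := F), e.finrank_eq]
  -- the involutions
  let τ : C → C := fun c => ⟨invClass c.1, fun u => by
    rw [← hout c.1, invClass_mk]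
    show ConjClasses.mk (φ u (Quotient.out c.1)⁻¹) = _
    rw [map_inv, ← invClass_mk, ← invClass_mk]
    exact congrArg invClass (ConjClasses.mk_eq_mk_iff_isConj.2 (hC c u))⟩
  have hτ : Function.Involutive τ := fun c => Subtype.ext (invClass_invClass c.1)
  let σ : Θ → Θ := fun θ => ⟨⟨_, isIrrCharacter_conj θ.1.2⟩, fun u => Subtype.ext (funext fun k => by
    show conj ((θ.1 : K → ℂ) (φ u⁻¹ k)) = _
    exact congrArg conj (congrFun (congrArg Subtype.val (θ.2 u)) k))⟩
  have hσ : Function.Involutive σ := fun θ =>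
    Subtype.ext (Subtype.ext (funext fun k => Complex.conj_conj _))
  have hwσ : ∀ (θ : Θ) (k : K), w (σ θ).1 k = w θ.1 k⁻¹ := fun θ k =>
    congrArg q (Subtype.ext (char_inv (irr_isCharacter θ.1) k).symm)
  have heq : ∀ (v : C → F) (θ : Θ), E (fun c => v (τ c)) θ = E v (σ θ) := by
    intro v θ
    simp only [E, LinearMap.coe_mk, AddHom.coe_mk]
    refine Fintype.sum_equiv (Equiv.ofBijective τ hτ.bijective) _ _ fun c => ?_
    simp only [Equiv.ofBijective_apply]
    rw [hwσ]
    congr 1
    refine hwcf _ _ _ (ConjClasses.mk_eq_mk_iff_isConj.1 ?_)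
    show ConjClasses.mk (Quotient.out c.1) = ConjClasses.mk (Quotient.out (invClass c.1))⁻¹
    rw [hout, ← invClass_mk, hout, invClass_invClass]
  have hfix : (fixedVec F τ).map (E : (C → F) →ₗ[F] (Θ → F)) = fixedVec F σ := by
    ext y
    constructor
    · rintro ⟨v, hv, rfl⟩ θ
      rw [← heq]
      exact congrArg (fun z => E z θ) (funext hv)
    · intro hy
      obtain ⟨v, rfl⟩ := hsurj y
      exact ⟨v, fun c => congrFun (hinj (funext fun θ => (heq v θ).trans (hy θ))) c, rfl⟩
  letI : LinearOrder C := LinearOrder.lift' (Fintype.equivFin C) (Fintype.equivFin C).injective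
  letI : LinearOrder Θ := LinearOrder.lift' (Fintype.equivFin Θ) (Fintype.equivFin Θ).injective
  have hC2 := two_mul_finrank_fixedVec F hτ
  have hΘ2 := two_mul_finrank_fixedVec F hσ
  rw [← hfix, ← (Submodule.equivMapOfInjective E hinj (fixedVec F τ)).finrank_eq, hC2,
    hcard, Nat.add_left_cancel_iff] at hΘ2
  refine (Nat.card_congr ?_).trans (hΘ2.symm.trans (Nat.card_congr ?_))
  · refine ⟨fun θ => ⟨⟨θ.1, fun u => Subtype.ext (funext fun k => θ.2.2 u⁻¹ k)⟩,
      Subtype.ext (Subtype.ext (funext fun k => Complex.conj_eq_iff_im.2 (θ.2.1 k)))⟩,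
      fun θ => ⟨θ.1.1, fun k => Complex.conj_eq_iff_im.1
        (congrArg (fun z : Θ => (z.1 : K → ℂ) k) θ.2), fun u k => ?_⟩, fun _ => rfl, fun _ => rfl⟩
    have := congrFun (congrArg Subtype.val (θ.1.2 u⁻¹)) k
    change (θ.1.1 : K → ℂ) (φ u⁻¹⁻¹ k) = _ at this
    rwa [inv_inv] at this
  · exact ⟨fun c => ⟨c.1.1, congrArg Subtype.val c.2, c.1.2⟩,
      fun c => ⟨⟨c.1, c.2.2⟩, Subtype.ext c.2.1⟩, fun _ => rfl, fun _ => rfl⟩

/-- As many real invariant characters as real invariant classes. -/
theorem card_real_invariant (φ : P →* MulAut K) (hP : IsPGroup p P) (hK : ¬ p ∣ Nat.card K) :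
    Nat.card {θ : Cfsg.IrrCharacter K // (∀ k, ((θ : K → ℂ) k).im = 0) ∧
        ∀ (u : P) (k : K), (θ : K → ℂ) (φ u k) = (θ : K → ℂ) k} =
      Nat.card {c : ConjClasses K // invClass c = c ∧
        ∀ u : P, ConjClasses.map (φ u).toMonoidHom c = c} := by
  obtain ⟨M, hM⟩ := BlockCharsA.DefectZeroVanish.exists_modular (Fact.out : p.Prime)
  haveI : M.IsMaximal := hM.2.1
  letI := Ideal.Quotient.field M
  refine card_real_invariant_aux (Ideal.Quotient.mk M) ?_ φ hP hK
  rw [← map_natCast (Ideal.Quotient.mk M)]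
  exact Ideal.Quotient.eq_zero_iff_mem.2 hM.2.2

end Cfsg.Agent.CharTheory.InvariantReal
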