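import Mathlib
import Cfsg.Agent.Lib.CharTheory.ExtendChar
import Cfsg.Agent.Lib.CharTheory.Average
import Cfsg.Agent.Lib.CharTheory.IndBasic
import Cfsg.Agent.Lib.CharTheory.Clifford

/-!
Fully ramified characters and complements: the action of the normaliser of `K ⊓ S` on the constituents of
the restriction to `K ⊓ S`, `S / Z` a Sylow subgroup of `H / Z`.
-/

set_option autoImplicit false
set_option linter.unusedSectionVars false
set_option linter.style.haveILetI false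

namespace Cfsg.Agent.CharTheory.RamifiedComplement

open Cfsg.Agent.Characters Cfsg.Agent.CharTheory
open scoped ComplexConjugate

variable {G : Type*} [Group G]

/-- `X` is a character of `G` vanishing off `Z` and equal to `e • θ` on `Z`. -/
structure FR (Z : Subgroup G) (X : G → ℂ) (θ : Z → ℂ) (e : ℕ) : Prop where
  char : Cfsg.IsCharacter G X
  irr : Cfsg.IsIrrCharacter Z θ
  on : ∀ z : Z, X z = (e : ℂ) * θ z
  off : ∀ x, x ∉ Z → X x = 0
  pos : e ≠ 0

namespace FR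

variable {Z : Subgroup G} {X : G → ℂ} {θ : Z → ℂ} {e : ℕ}

theorem inv [Finite G] [Z.Normal] (h : FR Z X θ e) (g : G) : Clifford.conjBy Z g θ = θ :=
  funext fun z => mul_left_cancel₀ (Nat.cast_ne_zero.2 h.pos) (by
    rw [Clifford.conjBy_apply, ← h.on, ← h.on]
    exact char_isClassFunction h.char (z : G) g)

theorem theta_one_ne [Finite G] (h : FR Z X θ e) : θ 1 ≠ 0 := irr_one_ne_zero h.irr

theorem X_one (h : FR Z X θ e) : X 1 = (e : ℂ) * θ 1 := h.on 1

theorem const [Fintype G] [Z.Normal] (h : FR Z X θ e) {η : G → ℂ}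
    (hη : Cfsg.IsIrrCharacter G η) (hne : Cfsg.classInner X η ≠ 0) :
    ∃ f : ℕ, 0 < f ∧ ∀ z : Z, η z = (f : ℂ) * θ z := by
  classical
  haveI := Fintype.ofFinite Z
  have hXZ : (fun z : Z => X z) = (e : ℂ) • θ := funext h.on
  have hkey : ∀ φ : Z → ℂ, Cfsg.IsIrrCharacter Z φ → φ ≠ θ →
      Cfsg.classInner (fun z : Z => η z) φ = 0 := by
    intro φ hφ hφθ
    by_contra h0
    apply Clifford.classInner_restrict_ne_zero Z h.char hη (isCharacter_of_isIrr hφ) hne h0
    rw [hXZ, classInner_smul_left, classInner_isIrr_ne h.irr hφ (Ne.symm hφθ), mul_zero]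
  have hηθ : (fun z : Z => η z) = Cfsg.classInner (fun z : Z => η z) θ • θ := by
    refine classFun_ext (fun a b => ?_) (fun a b => ?_) fun φ hφ => ?_
    · exact classFun_restrict Z (char_isClassFunction (isCharacter_of_isIrr hη)) a b
    · simp only [Pi.smul_apply, smul_eq_mul]
      rw [char_isClassFunction (isCharacter_of_isIrr h.irr) a b]
    · rw [classInner_smul_left]
      by_cases hp : φ = θ
      · subst hp; rw [classInner_isIrr_self h.irr, mul_one]
      · rw [hkey φ hφ hp, classInner_isIrr_ne h.irr hφ (Ne.symm hp), mul_zero]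
  obtain ⟨f, hf⟩ := classInner_char_nat (isCharacter_restrict Z (isCharacter_of_isIrr hη))
    (isCharacter_of_isIrr h.irr)
  rw [hf] at hηθ
  refine ⟨f, Nat.pos_of_ne_zero fun hf0 => irr_one_ne_zero hη ?_, fun z => congrFun hηθ z⟩
  have h1 := congrFun hηθ 1
  simp only [hf0, Nat.cast_zero, zero_smul, Pi.zero_apply, OneMemClass.coe_one] at h1
  exact h1

theorem inner [Fintype G] [Z.Normal] (h : FR Z X θ e) {η : G → ℂ} {f : ℕ}
    (hη : ∀ z : Z, η z = (f : ℂ) * θ z) :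
    Cfsg.classInner X η * (Z.index : ℂ) = (e : ℂ) * f := by
  classical
  haveI := Fintype.ofFinite Z
  have h4 := classInner_isIrr_self h.irr
  rw [classInner_def, inv_mul_eq_iff_eq_mul₀ natCard_ne_zero, mul_one] at h4
  have hsum : ∑ g : G, X g * conj (η g) = (e : ℂ) * f * Nat.card Z := by
    rw [← Finset.sum_filter_add_sum_filter_not Finset.univ (fun y : G => y ∈ Z),
      Finset.sum_eq_zero (s := Finset.univ.filter fun y : G => y ∉ Z) (fun y hy => by
        rw [h.off y (Finset.mem_filter.1 hy).2, zero_mul]), add_zero,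
      Finset.sum_subtype (p := fun y : G => y ∈ Z) _ (fun y => by simp)]
    rw [← h4, Finset.mul_sum]
    refine Finset.sum_congr rfl fun z _ => ?_
    rw [h.on z, hη z, map_mul, Complex.conj_natCast]
    ring
  rw [classInner_def, hsum, ← Subgroup.index_mul_card Z, Nat.cast_mul]
  have h1 : (Nat.card Z : ℂ) ≠ 0 := natCard_ne_zero
  have h2 : (Z.index : ℂ) ≠ 0 := Nat.cast_ne_zero.2 Subgroup.index_ne_zero_of_finite
  field_simp

end FR

theorem sq_le_index [Fintype G] {Z : Subgroup G} [Z.Normal] {θ : Z → ℂ}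
    (hθ : Cfsg.IsIrrCharacter Z θ) {η : G → ℂ} (hη : Cfsg.IsIrrCharacter G η) {f : ℕ}
    (hf : ∀ z : Z, η z = (f : ℂ) * θ z) :
    f ^ 2 ≤ Z.index ∧ (f ^ 2 = Z.index → ∀ x, x ∉ Z → η x = 0) := by
  classical
  haveI := Fintype.ofFinite Z
  have h1 := classInner_isIrr_self hη
  rw [classInner_def, inv_mul_eq_iff_eq_mul₀ natCard_ne_zero, mul_one] at h1
  have h2 := congrArg Complex.re h1
  rw [Complex.re_sum, Complex.natCast_re] at h2
  simp only [Complex.mul_conj, Complex.ofReal_re] at h2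
  have h4 := classInner_isIrr_self hθ
  rw [classInner_def, inv_mul_eq_iff_eq_mul₀ natCard_ne_zero, mul_one] at h4
  have h5 := congrArg Complex.re h4
  rw [Complex.re_sum, Complex.natCast_re] at h5
  simp only [Complex.mul_conj, Complex.ofReal_re] at h5
  have h3 : ∑ z ∈ Finset.univ.filter (fun y : G => y ∈ Z), Complex.normSq (η z) =
      (f : ℝ) ^ 2 * (Nat.card Z : ℝ) := by
    rw [Finset.sum_subtype (p := fun y : G => y ∈ Z) _ (fun y => by simp), ← h5, Finset.mul_sum]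
    refine Finset.sum_congr rfl fun z _ => ?_
    rw [hf z, map_mul, Complex.normSq_natCast, sq]
  rw [← Finset.sum_filter_add_sum_filter_not Finset.univ (fun y : G => y ∈ Z), h3,
    ← Subgroup.index_mul_card Z, Nat.cast_mul] at h2
  have hrest : 0 ≤ ∑ y ∈ Finset.univ.filter (fun y : G => y ∉ Z), Complex.normSq (η y) :=
    Finset.sum_nonneg fun y _ => Complex.normSq_nonneg _
  have hZpos : (0 : ℝ) < (Nat.card Z : ℝ) := Nat.cast_pos.2 Nat.card_pos
  refine ⟨?_, fun heq x hx => ?_⟩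
  · have : (f : ℝ) ^ 2 ≤ (Z.index : ℝ) :=
      le_of_mul_le_mul_right (by linarith) hZpos
    exact_mod_cast this
  · rw [← heq, Nat.cast_pow, add_eq_left] at h2
    exact Complex.normSq_eq_zero.1
      ((Finset.sum_eq_zero_iff_of_nonneg fun y _ => Complex.normSq_nonneg _).1 h2 x
        (Finset.mem_filter.2 ⟨Finset.mem_univ _, hx⟩))

theorem fr_of_ramified [Fintype G] {Z : Subgroup G} [Z.Normal] {X : G → ℂ} {θ : Z → ℂ} {e : ℕ}
    (hX : Cfsg.IsIrrCharacter G X) (hθ : Cfsg.IsIrrCharacter Z θ) (he : e ^ 2 = Z.index)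
    (hres : ∀ z : Z, X z = (e : ℂ) * θ z) : FR Z X θ e :=
  ⟨isCharacter_of_isIrr hX, hθ, hres, (sq_le_index hθ hX hres).2 he, fun h0 => by
    subst h0; exact Subgroup.index_ne_zero_of_finite he.symm⟩

theorem FR.restrict [Finite G] {Z : Subgroup G} {X : G → ℂ} {θ : Z → ℂ} {e : ℕ}
    (h : FR Z X θ e) {L : Subgroup G} (hL : Z ≤ L) :
    FR (Z.subgroupOf L) (fun y : L => X y) (θ ∘ Subgroup.subgroupOfEquivOfLe hL) e :=
  ⟨isCharacter_restrict L h.char, Basics.isIrrCharacter_comp_equiv _ h.irr,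
    fun z => h.on (Subgroup.subgroupOfEquivOfLe hL z), fun y hy => h.off _ fun hz => hy hz, h.pos⟩

/-- `p`-part of the ramification index. -/
theorem exists_root {p : ℕ} (hp : p.Prime) {e n m : ℕ} (he : e ^ 2 = p ^ n * m) (hm : ¬ p ∣ m) :
    ∃ r k : ℕ, e = r * k ∧ r ^ 2 = p ^ n ∧ ¬ p ∣ k := by
  have he0 : e ≠ 0 := fun h => by
    subst h
    rcases Nat.mul_eq_zero.1 (he.symm.trans (zero_pow two_ne_zero)) with h' | h'
    · exact pow_ne_zero n hp.ne_zero h'
    · exact hm (h' ▸ dvd_zero p)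
  obtain ⟨i, k, hk, rfl⟩ := Nat.exists_eq_pow_mul_and_not_dvd he0 p hp.ne_one
  refine ⟨p ^ i, k, rfl, ?_, hk⟩
  rw [mul_pow] at he
  have hk2 : ¬ p ∣ k ^ 2 := fun h => hk (hp.dvd_of_dvd_pow h)
  refine Nat.dvd_antisymm ?_ ?_
  · refine (Nat.Coprime.dvd_of_dvd_mul_right ?_ (Dvd.intro _ he))
    exact ((hp.coprime_iff_not_dvd.2 hm).pow_left i).pow_left 2
  · refine (Nat.Coprime.dvd_of_dvd_mul_right ?_ (Dvd.intro _ he.symm))
    exact (hp.coprime_iff_not_dvd.2 hk2).pow_left n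

/-- Over `Z` with index a power of `p` the character is a multiple of a single irreducible. -/
theorem exists_eq_smul [Fintype G] {Z : Subgroup G} [Z.Normal] {X : G → ℂ} {θ : Z → ℂ} {e : ℕ}
    (h : FR Z X θ e) {p r k : ℕ} (hp : p.Prime) (he : e = r * k) (hr : r ^ 2 = Z.index)
    {n : ℕ} (hn : Z.index = p ^ n) (hk : ¬ p ∣ k) :
    ∃ η : G → ℂ, Cfsg.IsIrrCharacter G η ∧ X = (k : ℂ) • η := by
  classical
  haveI := Fintype.ofFinite (Cfsg.IrrCharacter G)
  obtain ⟨η, hne⟩ : ∃ η : Cfsg.IrrCharacter G, Cfsg.classInner X (η : G → ℂ) ≠ 0 := by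
    by_contra hall
    push Not at hall
    have hX := classFun_eq_sum (char_isClassFunction h.char)
    have h1 := congrFun hX 1
    simp only [hall, zero_smul, Finset.sum_const_zero, Pi.zero_apply] at h1
    exact mul_ne_zero (Nat.cast_ne_zero.2 h.pos) h.theta_one_ne (h.X_one.symm.trans h1)
  obtain ⟨f, hf0, hf⟩ := h.const η.2 hne
  obtain ⟨m, hm⟩ := classInner_char_nat h.char (irr_isCharacter η)
  have h1 := h.inner hf
  rw [hm, ← hr, he] at h1
  have h2 : m * r ^ 2 = r * k * f := by exact_mod_cast h1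
  have hr0 : 0 < r := Nat.pos_of_ne_zero fun h0 => h.pos (by rw [he, h0, zero_mul])
  have h3 : k * f = r * m := by
    apply Nat.eq_of_mul_eq_mul_left hr0
    rw [← mul_assoc, ← h2]; ring
  have hrk : Nat.Coprime r k := by
    refine Nat.Coprime.coprime_dvd_left (Dvd.intro_left r (?_ : r * r = Z.index))
      (hn ▸ (hp.coprime_iff_not_dvd.2 hk).pow_left n)
    rw [← hr, sq]
  have hdvd : r ∣ f := hrk.dvd_of_dvd_mul_left ⟨m, h3⟩
  obtain ⟨hle, hoff⟩ := sq_le_index h.irr η.2 hf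
  have hfr : f = r := le_antisymm
    ((Nat.pow_le_pow_iff_left two_ne_zero).1 (hle.trans_eq hr.symm)) (Nat.le_of_dvd hf0 hdvd)
  refine ⟨η, η.2, funext fun x => ?_⟩
  rw [Pi.smul_apply, smul_eq_mul]
  by_cases hx : x ∈ Z
  · rw [h.on ⟨x, hx⟩, hf ⟨x, hx⟩, he, hfr]; push_cast; ring
  · rw [h.off x hx, hoff (by rw [hfr, hr]) x hx, mul_zero]

theorem relIndex_dvd_index' [Finite G] (A B : Subgroup G) [B.Normal] :
    A.relIndex B ∣ A.index := by
  have h1 := Subgroup.relIndex_mul_relIndex (A ⊓ B) A (A ⊔ B) inf_le_left le_sup_left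
  have h2 := Subgroup.relIndex_mul_relIndex (A ⊓ B) B (A ⊔ B) inf_le_right le_sup_right
  rw [Subgroup.inf_relIndex_left] at h1
  rw [Subgroup.inf_relIndex_right, Subgroup.relIndex_sup_right, ← h1, mul_comm] at h2
  have h3 : A.relIndex B = A.relIndex (A ⊔ B) :=
    Nat.eq_of_mul_eq_mul_left (Nat.pos_of_ne_zero Subgroup.index_ne_zero_of_finite) h2
  rw [h3]
  exact Dvd.intro _ (Subgroup.relIndex_mul_index le_sup_left)

section Main

variable {H : Type*} [Group H]

/-- The action of the normaliser of `P` on functions on `P`. -/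
@[instance_reducible]
def normAction (P : Subgroup H) : MulAction (Subgroup.normalizer (P : Set H)) (P → ℂ) where
  smul g f x := f ⟨(g : H)⁻¹ * x * g, by
    simpa [mul_assoc] using (Subgroup.mem_normalizer_iff.1 g⁻¹.2 (x : H)).1 x.2⟩
  one_smul f := funext fun x => congrArg f (Subtype.ext (by simp))
  mul_smul a b f := funext fun x => congrArg f (Subtype.ext (by simp [mul_assoc]))

/-- What is known about the normaliser and the constituents on `K ⊓ S`. -/
theorem orbit_data [Fintype H] {Z : Subgroup H} [Z.Normal] {X : H → ℂ} {θ : Z → ℂ} {e : ℕ}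
    (h : FR Z X θ e) (K : Subgroup H) [K.Normal] (hZK : Z ≤ K) {p : ℕ} (hp : p.Prime)
    (S : Subgroup H) (hZS : Z ≤ S) {n : ℕ} (hS : Z.relIndex S = p ^ n) {r k : ℕ}
    (he : e = r * k) (hr : r ^ 2 = p ^ n) (hk : ¬ p ∣ k) [Fintype (K ⊓ S : Subgroup H)] :
    ∃ (φ : (K ⊓ S : Subgroup H) → ℂ) (d c : ℕ) (T : Subgroup H), 0 < d ∧
      Cfsg.IsIrrCharacter (K ⊓ S : Subgroup H) φ ∧
      (∀ z, ∀ hz : z ∈ Z, φ ⟨z, hZK hz, hZS hz⟩ = (d : ℂ) * θ ⟨z, hz⟩) ∧
      T ≤ Subgroup.normalizer ((K ⊓ S : Subgroup H) : Set H) ∧ K ⊓ S ≤ T ∧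
      T.relIndex (Subgroup.normalizer ((K ⊓ S : Subgroup H) : Set H)) = c ∧
      T.relIndex S = c ∧ c * d ^ 2 = Z.relIndex (K ⊓ S) ∧
      (∀ ψ : Cfsg.IrrCharacter (K ⊓ S : Subgroup H),
        Cfsg.classInner (fun y : (K ⊓ S : Subgroup H) => X y) (ψ : (K ⊓ S : Subgroup H) → ℂ) ≠ 0 →
          (ψ : (K ⊓ S : Subgroup H) → ℂ) 1 = (d : ℂ) * θ 1) ∧
      ∀ t, t ∈ T → ∀ (x : H) (hx : x ∈ K ⊓ S) (htx : t * x * t⁻¹ ∈ K ⊓ S),
        φ ⟨t * x * t⁻¹, htx⟩ = φ ⟨x, hx⟩ := by
  classical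
  set P : Subgroup H := K ⊓ S with hP
  have hZP : Z ≤ P := le_inf hZK hZS
  set N := Subgroup.normalizer (P : Set H) with hN
  letI act := normAction P
  have hSN : S ≤ N := fun s hs => Subgroup.mem_normalizer_iff.2 fun x =>
    ⟨fun hx => ⟨‹K.Normal›.conj_mem x hx.1 s, S.mul_mem (S.mul_mem hs hx.2) (S.inv_mem hs)⟩,
      fun hx => ⟨by simpa [mul_assoc] using ‹K.Normal›.conj_mem _ hx.1 s⁻¹, by
        simpa [mul_assoc] using S.mul_mem (S.mul_mem (S.inv_mem hs) hx.2) hs⟩⟩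
  haveI := Fintype.ofFinite S
  haveI := Fintype.ofFinite (P.subgroupOf S)
  haveI := Fintype.ofFinite (Cfsg.IrrCharacter P)
  set X0 : P → ℂ := fun y => X y with hX0
  set Ω : Finset (Cfsg.IrrCharacter P) :=
    Finset.univ.filter fun ψ => Cfsg.classInner X0 (ψ : P → ℂ) ≠ 0 with hΩ
  have hXc := char_isClassFunction h.char
  have hP0 := h.restrict hZP
  -- a constituent
  obtain ⟨φ, hφ⟩ : ∃ φ : Cfsg.IrrCharacter P, Cfsg.classInner X0 (φ : P → ℂ) ≠ 0 := by
    by_contra hall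
    push Not at hall
    have h1 := congrFun (classFun_eq_sum (char_isClassFunction hP0.char)) 1
    simp only [X0] at hall
    simp only [hall, zero_smul, Finset.sum_const_zero, Pi.zero_apply, OneMemClass.coe_one] at h1
    exact mul_ne_zero (Nat.cast_ne_zero.2 h.pos) h.theta_one_ne (h.X_one.symm.trans h1)
  obtain ⟨d, hd0, hd⟩ := hP0.const φ.2 hφ
  have hd1 : (φ : P → ℂ) 1 = (d : ℂ) * θ 1 := hd 1
  -- the action: invariance of the inner product with `X0`
  have hconjP : ∀ g : N, ∀ x : P, (g : H)⁻¹ * x * g ∈ P := fun g x => by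
    simpa [mul_assoc] using (Subgroup.mem_normalizer_iff.1 g⁻¹.2 (x : H)).1 x.2
  let aut : N → (P ≃* P) := fun g =>
    { toFun := fun x => ⟨(g : H)⁻¹ * x * g, hconjP g x⟩
      invFun := fun x => ⟨(g : H) * x * (g : H)⁻¹, (Subgroup.mem_normalizer_iff.1 g.2 (x : H)).1 x.2⟩
      left_inv := fun x => Subtype.ext (by simp [mul_assoc])
      right_inv := fun x => Subtype.ext (by simp [mul_assoc])
      map_mul' := fun x y => Subtype.ext (by simp [mul_assoc]) }
  have hsmul : ∀ (g : N) (f : P → ℂ), g • f = f ∘ aut g := fun g f => rfl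
  have hX0inv : ∀ g : N, X0 ∘ aut g = X0 := fun g => funext fun x => by
    have := hXc (x : H) (g : H)⁻¹
    simpa [X0, aut] using this
  have hstab : ∀ (g : N), Cfsg.IsIrrCharacter P (g • (φ : P → ℂ)) ∧
      Cfsg.classInner X0 (g • (φ : P → ℂ)) ≠ 0 := by
    intro g
    rw [hsmul]
    refine ⟨Basics.isIrrCharacter_comp_equiv _ φ.2, ?_⟩
    rw [← hX0inv g, Basics.classInner_comp_equiv]
    exact hφ
  -- transitivity, from `S`
  have hfrS := h.restrict hZS
  obtain ⟨η, hη, hηX⟩ := exists_eq_smul hfrS hp he (hr.trans hS.symm) hS hk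
  have hk0 : (k : ℂ) ≠ 0 := Nat.cast_ne_zero.2 fun h0 => h.pos (by rw [he, h0, mul_zero])
  let eS := Subgroup.subgroupOfEquivOfLe (inf_le_right : P ≤ S)
  have hnormS : (P.subgroupOf S).Normal := ⟨fun x hx s =>
    (Subgroup.mem_normalizer_iff.1 (hSN s.2) (x : H)).1 hx⟩
  have htrans : ∀ ψ : Cfsg.IrrCharacter P, Cfsg.classInner X0 (ψ : P → ℂ) ≠ 0 →
      ∃ s : N, (s : H) ∈ S ∧ s • (φ : P → ℂ) = (ψ : P → ℂ) := by
    intro ψ hψ
    have hη0 : ∀ χ : Cfsg.IrrCharacter P, Cfsg.classInner X0 (χ : P → ℂ) ≠ 0 →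
        Cfsg.classInner (fun y : P.subgroupOf S => η y) ((χ : P → ℂ) ∘ eS) ≠ 0 := by
      intro χ hχ h0
      apply hχ
      have hXη : (fun y : P.subgroupOf S => (k : ℂ) * η y) = X0 ∘ eS := funext fun y =>
        (congrFun hηX (y : S)).symm
      rw [← Basics.classInner_comp_equiv eS, ← hXη,
        show (fun y : P.subgroupOf S => (k : ℂ) * η y) =
          (k : ℂ) • (fun y : P.subgroupOf S => η y) from rfl, classInner_smul_left, h0, mul_zero]
    obtain ⟨s, hs⟩ := Clifford.exists_conjBy_eq (P.subgroupOf S) hη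
      (Basics.isIrrCharacter_comp_equiv eS φ.2) (Basics.isIrrCharacter_comp_equiv eS ψ.2)
      (hη0 φ hφ) (hη0 ψ hψ)
    refine ⟨⟨(s : H)⁻¹, N.inv_mem (hSN s.2)⟩, S.inv_mem s.2, funext fun x => ?_⟩
    have h1 := congrFun hs (eS.symm x)
    rw [Clifford.conjBy_apply] at h1
    simp only [Function.comp_apply, MulEquiv.apply_symm_apply] at h1
    rw [← h1, hsmul]
    exact congrArg (φ : P → ℂ) (Subtype.ext (by simp [aut, eS]))
  have horb : MulAction.orbit N (φ : P → ℂ) = Subtype.val '' (Ω : Set (Cfsg.IrrCharacter P)) := by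
    ext f
    constructor
    · rintro ⟨g, rfl⟩
      exact ⟨⟨_, (hstab g).1⟩, Finset.mem_coe.2 (Finset.mem_filter.2 ⟨Finset.mem_univ _, (hstab g).2⟩), rfl⟩
    · rintro ⟨ψ, hψ, rfl⟩
      obtain ⟨s, -, hs⟩ := htrans ψ (Finset.mem_filter.1 (Finset.mem_coe.1 hψ)).2
      exact ⟨s, hs⟩
  have horbS : MulAction.orbit (S.subgroupOf N) (φ : P → ℂ) = MulAction.orbit N (φ : P → ℂ) := by
    refine Set.Subset.antisymm (fun f ⟨g, hg⟩ => ⟨(g : N), hg⟩) ?_
    rw [horb]
    rintro _ ⟨ψ, hψ, rfl⟩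
    obtain ⟨s, hsS, hs⟩ := htrans ψ (Finset.mem_filter.1 (Finset.mem_coe.1 hψ)).2
    exact ⟨⟨s, hsS⟩, hs⟩
  set I := MulAction.stabilizer N (φ : P → ℂ) with hI
  have hIidx : I.index = Ω.card := by
    rw [MulAction.index_stabilizer, horb, Set.ncard_image_of_injective _ Subtype.val_injective,
      Set.ncard_coe_finset]
  have hIS : I.relIndex (S.subgroupOf N) = Ω.card := by
    have : I.subgroupOf (S.subgroupOf N) = MulAction.stabilizer (S.subgroupOf N) (φ : P → ℂ) := rfl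
    rw [Subgroup.relIndex, this, MulAction.index_stabilizer, horbS, horb,
      Set.ncard_image_of_injective _ Subtype.val_injective, Set.ncard_coe_finset]
  -- the multiplicities are equal
  have hdeg : ∀ ψ : Cfsg.IrrCharacter P, Cfsg.classInner X0 (ψ : P → ℂ) ≠ 0 →
      (ψ : P → ℂ) 1 = (d : ℂ) * θ 1 := by
    intro ψ hψ
    obtain ⟨s, -, hs⟩ := htrans ψ hψ
    rw [← hs, hsmul, Function.comp_apply, map_one, hd1]
  have hmult : ∀ ψ : Cfsg.IrrCharacter P, ψ ∈ Ω →
      Cfsg.classInner X0 (ψ : P → ℂ) * ((Z.subgroupOf P).index : ℂ) = (e : ℂ) * d := by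
    intro ψ hψ
    obtain ⟨f, -, hf⟩ := hP0.const ψ.2 (Finset.mem_filter.1 hψ).2
    have hf1 : (ψ : P → ℂ) 1 = (f : ℂ) * θ 1 := hf 1
    rw [hdeg ψ (Finset.mem_filter.1 hψ).2] at hf1
    have hfd : d = f := Nat.cast_injective (mul_right_cancel₀ h.theta_one_ne hf1)
    rw [hfd]
    exact hP0.inner hf
  have hcount : Ω.card * d ^ 2 = Z.relIndex P := by
    have h1 := congrFun (classFun_eq_sum (char_isClassFunction hP0.char)) 1
    rw [Finset.sum_apply] at h1
    rw [← Finset.sum_filter_add_sum_filter_not Finset.univ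
        (fun ψ : Cfsg.IrrCharacter P => Cfsg.classInner X0 (ψ : P → ℂ) ≠ 0),
      Finset.sum_eq_zero (s := Finset.univ.filter fun ψ : Cfsg.IrrCharacter P =>
          ¬ Cfsg.classInner X0 (ψ : P → ℂ) ≠ 0) (fun ψ hψ => by
        have := not_not.1 (Finset.mem_filter.1 hψ).2
        simp only [X0] at this
        simp [this]), add_zero, ← hΩ] at h1
    have h2 : ((Z.subgroupOf P).index : ℂ) * X 1 = (Ω.card : ℂ) * ((e : ℂ) * d * (d * θ 1)) := by
      rw [show X 1 = X ((1 : P) : H) from rfl, h1, Finset.mul_sum, ← nsmul_eq_mul,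
        ← Finset.sum_const]
      refine Finset.sum_congr rfl fun ψ hψ => ?_
      rw [Pi.smul_apply, smul_eq_mul, ← mul_assoc, hdeg ψ (Finset.mem_filter.1 hψ).2, ← hmult ψ hψ]
      ring
    have h3 : ((Ω.card * d ^ 2 : ℕ) : ℂ) * ((e : ℂ) * θ 1) =
        ((Z.subgroupOf P).index : ℂ) * ((e : ℂ) * θ 1) := by
      rw [← h.X_one, h2, h.X_one]; push_cast; ring
    have h4 := mul_right_cancel₀ (mul_ne_zero (Nat.cast_ne_zero.2 h.pos) h.theta_one_ne) h3
    exact Nat.cast_injective h4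
  refine ⟨φ, d, Ω.card, I.map N.subtype, hd0, φ.2, fun z hz => ?_, Subgroup.map_subtype_le _, ?_, ?_,
    ?_, hcount, fun ψ hψ => hdeg ψ (by convert hψ using 2), ?_⟩
  · exact hd ⟨⟨z, hZK hz, hZS hz⟩, hz⟩
  · intro x hx
    refine ⟨⟨x, Subgroup.le_normalizer hx⟩, funext fun y => ?_, rfl⟩
    have h1 := char_isClassFunction (irr_isCharacter φ) y (⟨x, hx⟩⁻¹ : P)
    rw [inv_inv] at h1
    rw [← h1]
    rfl
  · rw [Subgroup.relIndex, Subgroup.subgroupOf, Subgroup.comap_map_eq_self_of_injective N.subtype_injective]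
    exact hIidx
  · rw [← Subgroup.relIndex_map_map_of_injective I (S.subgroupOf N) N.subtype_injective,
      Subgroup.subgroupOf_map_subtype, inf_of_le_left hSN] at hIS
    exact hIS
  · rintro _ ⟨g, hg, rfl⟩ x hx htx
    have h1 := congrFun (hg : g • (φ : P → ℂ) = φ) ⟨(g : H) * x * (g : H)⁻¹, htx⟩
    rw [hsmul] at h1
    refine h1.symm.trans (congrArg (φ : P → ℂ) (Subtype.ext ?_))
    simp [aut, mul_assoc]

/-- The complement criterion. -/
theorem exists_complement [Fintype H] (K : Subgroup H) [K.Normal] {p : ℕ} (hp : p.Prime)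
    (S T : Subgroup H) {n a b c d r : ℕ} (hb : b * p ^ a = p ^ n) (hr : r ^ 2 = p ^ n)
    (hcd : c * d ^ 2 = b) (hle : d * r ≤ b)
    (hcS : T.relIndex S = c) (ha : (K ⊓ S).relIndex S = p ^ a)
    (hTN : T ≤ Subgroup.normalizer ((K ⊓ S : Subgroup H) : Set H)) (hPT : K ⊓ S ≤ T)
    (hc : T.relIndex (Subgroup.normalizer ((K ⊓ S : Subgroup H) : Set H)) = c)
    (hNK : Subgroup.normalizer ((K ⊓ S : Subgroup H) : Set H) ⊔ K = ⊤)
    (hcop : ¬ p ∣ (K ⊓ S).relIndex K) :
    ∃ M : Subgroup H, K ≤ M ∧ M.index = p ^ a := by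
  set N := Subgroup.normalizer ((K ⊓ S : Subgroup H) : Set H) with hN
  have hb0 : 0 < b := Nat.pos_of_ne_zero fun h0 => by
    rw [h0, zero_mul] at hb; exact pow_ne_zero n hp.ne_zero hb.symm
  have hd0 : 0 < d := Nat.pos_of_ne_zero fun h0 => by
    rw [h0, zero_pow two_ne_zero, mul_zero] at hcd; omega
  have hca : c = p ^ a := by
    have hdvd : c ∣ p ^ a := by
      rw [← hcS, ← ha]; exact Subgroup.relIndex_dvd_of_le_left S hPT
    refine le_antisymm (Nat.le_of_dvd (pow_pos hp.pos _) hdvd) ?_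
    have h2 : d ^ 2 * p ^ a ≤ c * d ^ 2 := by
      refine Nat.le_of_mul_le_mul_left ?_ hb0
      calc b * (d ^ 2 * p ^ a) = d ^ 2 * (b * p ^ a) := by ring
        _ = (d * r) ^ 2 := by rw [hb, ← hr]; ring
        _ ≤ b ^ 2 := Nat.pow_le_pow_left hle 2
        _ = b * (c * d ^ 2) := by rw [hcd]; ring
    rw [mul_comm c] at h2
    exact Nat.le_of_mul_le_mul_left h2 (pow_pos hd0 2)
  -- `N ⊓ K` is inside `T`
  have hNKT : N ⊓ K ≤ T := by
    set I := T.subgroupOf N
    set K' := K.subgroupOf N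
    have h1 : I.relIndex K' ∣ p ^ a := by
      rw [← hca, ← hc]
      exact relIndex_dvd_index' I K'
    have hPN : K ⊓ S ≤ N := Subgroup.le_normalizer
    have h2 : I.relIndex K' ∣ (K ⊓ S).relIndex K := by
      have h3 : I.relIndex K' = T.relIndex (N ⊓ K) := by
        rw [← Subgroup.relIndex_map_map_of_injective I K' N.subtype_injective,
          Subgroup.subgroupOf_map_subtype, Subgroup.subgroupOf_map_subtype, inf_of_le_left hTN,
          inf_comm K N]
      rw [h3]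
      refine (Subgroup.relIndex_dvd_of_le_left _ hPT).trans ?_
      exact Dvd.intro _ (Subgroup.relIndex_mul_relIndex _ _ _ (le_inf hPN inf_le_left) inf_le_right)
    have h4 : I.relIndex K' = 1 :=
      Nat.eq_one_of_dvd_coprimes ((hp.coprime_iff_not_dvd.2 hcop).pow_left a) h1 h2
    intro x hx
    exact (Subgroup.relIndex_eq_one.1 h4 (show (⟨x, hx.1⟩ : N) ∈ K' from hx.2) :)
  refine ⟨T ⊔ K, le_sup_right, ?_⟩
  have h1 : K.relIndex (T ⊔ K) * (T ⊔ K).index = K.index := Subgroup.relIndex_mul_index le_sup_right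
  have h2 : K.relIndex (T ⊔ K) = (N ⊓ K).relIndex T := by
    rw [Subgroup.relIndex_sup_right, ← Subgroup.inf_relIndex_right, ← Subgroup.inf_relIndex_right (H := N ⊓ K)]
    congr 1
    exact le_antisymm (le_inf (le_inf (inf_le_right.trans hTN) inf_le_left) inf_le_right)
      (inf_le_inf_right T inf_le_right)
  have h3 : K.index = (N ⊓ K).relIndex T * p ^ a := by
    rw [← hca, ← hc, Subgroup.relIndex_mul_relIndex _ _ _ hNKT hTN, inf_comm,
      Subgroup.inf_relIndex_right, ← Subgroup.relIndex_sup_right, hNK, Subgroup.relIndex_top_right]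
  rw [h2, h3] at h1
  exact Nat.eq_of_mul_eq_mul_left (Nat.pos_of_ne_zero Subgroup.index_ne_zero_of_finite) h1

/-- The subgroup `S`: Sylow data. -/
theorem exists_sylow_data [Fintype H] (Z : Subgroup H) [Z.Normal] (K : Subgroup H) [K.Normal]
    (hZK : Z ≤ K) {p : ℕ} (hp : p.Prime) :
    ∃ (S : Subgroup H) (n a b m : ℕ), Z ≤ S ∧ Z.relIndex S = p ^ n ∧ Z.index = p ^ n * m ∧ ¬ p ∣ m ∧
      (K ⊓ S).relIndex S = p ^ a ∧ b = Z.relIndex (K ⊓ S) ∧ b * p ^ a = p ^ n ∧
      (∃ u, K.index = p ^ a * u ∧ ¬ p ∣ u) ∧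
      Subgroup.normalizer ((K ⊓ S : Subgroup H) : Set H) ⊔ K = ⊤ ∧ ¬ p ∣ (K ⊓ S).relIndex K := by
  haveI : Fact p.Prime := ⟨hp⟩
  let π := QuotientGroup.mk' Z
  have hπ : Function.Surjective π := QuotientGroup.mk'_surjective Z
  let P : Sylow p (H ⧸ Z) := default
  set S := (P : Subgroup (H ⧸ Z)).comap π with hS
  have hZS : Z ≤ S := fun z hz => by
    rw [hS, Subgroup.mem_comap, show π z = 1 from (QuotientGroup.eq_one_iff z).2 hz]; exact one_mem _
  have hker : π.ker = Z := QuotientGroup.ker_mk' Z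
  obtain ⟨n, hn⟩ := (IsPGroup.iff_card.1 P.isPGroup')
  have hrel : Z.relIndex S = p ^ n := by
    have h1 := Subgroup.relIndex_comap (H := (⊥ : Subgroup (H ⧸ Z))) π S
    rw [MonoidHom.comap_bot, hker, hS, Subgroup.map_comap_eq_self_of_surjective hπ,
      Subgroup.relIndex_bot_left] at h1
    rw [hS, h1, hn]
  have hSi : ¬ p ∣ S.index := by
    rw [hS, Subgroup.index_comap_of_surjective _ hπ]; exact P.not_dvd_index
  have hSK : ¬ p ∣ (K ⊓ S).relIndex K := by
    rw [inf_comm, Subgroup.inf_relIndex_right]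
    exact fun hdvd => hSi (hdvd.trans (relIndex_dvd_index' S K))
  have hmul : Z.relIndex (K ⊓ S) * (K ⊓ S).relIndex S = p ^ n := by
    rw [Subgroup.relIndex_mul_relIndex _ _ _ (le_inf hZK hZS) inf_le_right, hrel]
  obtain ⟨a, -, ha⟩ := (Nat.dvd_prime_pow hp).1 (Dvd.intro_left _ hmul)
  refine ⟨S, n, a, _, S.index, hZS, hrel, ?_, hSi, ha, rfl, ha ▸ hmul,
    ⟨(S ⊔ K).index, ?_, fun h => hSi (h.trans ?_)⟩, ?_, hSK⟩
  · rw [← hrel, Subgroup.relIndex_mul_index hZS]
  · rw [← ha, Subgroup.inf_relIndex_right, ← Subgroup.relIndex_sup_right,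
      Subgroup.relIndex_mul_index le_sup_right]
  · exact Subgroup.index_dvd_of_le le_sup_left
  · set Kb := K.map π with hKb
    haveI hKbn : Kb.Normal := (inferInstance : K.Normal).map π hπ
    have hpg : IsPGroup p ((P : Subgroup (H ⧸ Z)).subgroupOf Kb) :=
      IsPGroup.of_injective P.isPGroup'
        { toFun := fun x => (⟨((x : Kb) : H ⧸ Z), x.2⟩ : (P : Subgroup (H ⧸ Z)))
          map_one' := rfl
          map_mul' := fun _ _ => rfl }
        fun x y hxy => Subtype.ext (Subtype.ext (congrArg (Subtype.val) hxy :))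
    have hidx : ¬ p ∣ ((P : Subgroup (H ⧸ Z)).subgroupOf Kb).index := by
      show ¬ p ∣ (P : Subgroup (H ⧸ Z)).relIndex Kb
      exact fun hdvd => P.not_dvd_index (hdvd.trans (relIndex_dvd_index' _ Kb))
    let Pk : Sylow p Kb := hpg.toSylow hidx
    have hfrat := Sylow.normalizer_sup_eq_top Pk
    have hmap : (Pk : Subgroup Kb).map Kb.subtype = (P : Subgroup (H ⧸ Z)) ⊓ Kb := by
      show ((P : Subgroup (H ⧸ Z)).subgroupOf Kb).map Kb.subtype = _
      rw [Subgroup.subgroupOf_map_subtype]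
    rw [hmap] at hfrat
    have hKpre : ∀ x, π x ∈ Kb → x ∈ K := fun x hx => by
      obtain ⟨y, hy, hyx⟩ := hx
      have : y⁻¹ * x ∈ Z := (QuotientGroup.eq (s := Z)).1 hyx
      simpa using K.mul_mem hy (hZK this)
    have hmem : ∀ x, x ∈ K ⊓ S ↔ π x ∈ (P : Subgroup (H ⧸ Z)) ⊓ Kb := fun x =>
      ⟨fun hx => ⟨hx.2, Subgroup.mem_map_of_mem π hx.1⟩, fun hx => ⟨hKpre x hx.2, hx.1⟩⟩
    rw [eq_top_iff]
    intro g _
    obtain ⟨q, hq, y, ⟨k', hk', rfl⟩, hqy⟩ := Subgroup.mem_sup_of_normal_right.1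
      (hfrat ▸ Subgroup.mem_top (π g))
    have hg : g = g * k'⁻¹ * k' := by simp
    rw [hg]
    refine Subgroup.mul_mem_sup (Subgroup.mem_normalizer_iff.2 fun x => ?_) hk'
    have hπg : π (g * k'⁻¹) = q := by rw [map_mul, map_inv, ← hqy, mul_inv_cancel_right]
    rw [hmem, hmem, map_mul, map_mul, map_inv, hπg]
    exact Subgroup.mem_normalizer_iff.1 hq (π x)

end Main

end Cfsg.Agent.CharTheory.RamifiedComplement
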