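import Mathlib

/-! Self-dual faithful irreducible modules of abelian groups over finite fields. -/

set_option autoImplicit false
set_option linter.style.haveILetI false
set_option linter.unusedSectionVars false

namespace Cfsg.Agent.CharTheory.SelfDualAbelian

open Module Polynomial
open scoped IsMulCommutative

variable {F : Type*} [Field F] [Fintype F] {H : Type*} [CommGroup H] [Finite H]
  {V : Type*} [AddCommGroup V] [Module F V]

theorem field_model {K : Type*} [Field K] [Finite K] [Algebra F K] (f : H →* K)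
    (hf : Function.Injective f) (hgen : ∀ x : K, x ∈ Algebra.adjoin F (Set.range f))
    (ev : K ≃ₗ[F] V) (ρ : Representation F H V) (hev : ∀ h a, ρ h (ev a) = ev (f h * a)) :
    (finrank F V = 1 → (∃ B : LinearMap.BilinForm F V, B.Nondegenerate ∧
        ∀ h : H, ∀ x y : V, B (ρ h x) (ρ h y) = B x y) → Nat.card H ≤ 2) ∧
      (2 ≤ finrank F V → ((∃ B : LinearMap.BilinForm F V, B.Nondegenerate ∧
        ∀ h : H, ∀ x y : V, B (ρ h x) (ρ h y) = B x y) ↔
          (Even (finrank F V) ∧ Nat.card H ∣ Fintype.card F ^ (finrank F V / 2) + 1))) := by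
  classical
  haveI : IsCyclic H := isCyclic_of_injective_ringHom f hf
  haveI : FiniteDimensional F K := Module.Finite.of_finite
  obtain ⟨h₀, hh₀⟩ := IsCyclic.exists_generator (α := H)
  set ζ := f h₀ with hζ
  set r := Fintype.card F with hr
  set n := finrank F K with hn
  have hnV : finrank F V = n := ev.finrank_eq.symm
  have hm : orderOf ζ = Nat.card H := by
    rw [hζ, orderOf_injective f hf, orderOf_eq_card_of_forall_mem_zpowers hh₀]
  have hpow : ∀ h : H, ∃ k : ℕ, f h = ζ ^ k := fun h => by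
    obtain ⟨k, hk⟩ := mem_powers_iff_mem_zpowers.2 (hh₀ h)
    exact ⟨k, by rw [← hk, map_pow]⟩
  have hζgen : Algebra.adjoin F {ζ} = ⊤ := by
    rw [eq_top_iff]
    intro x _
    refine Algebra.adjoin_le ?_ (hgen x)
    rintro _ ⟨h, rfl⟩
    obtain ⟨k, hk⟩ := hpow h
    rw [hk]
    exact pow_mem (Algebra.self_mem_adjoin_singleton F ζ) k
  set φ := FiniteField.frobeniusAlgHom F K with hφ
  have hφpow : ∀ (j : ℕ) (x : K), (φ ^ j) x = x ^ r ^ j := fun j x => by
    rw [hφ, AlgHom.coe_pow, FiniteField.coe_frobeniusAlgHom, pow_iterate]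
  have hζ0 : ζ ≠ 0 := fun e => by
    have := map_one f
    rw [← mul_inv_cancel h₀, map_mul, ← hζ, e, zero_mul] at this
    exact zero_ne_one this
  -- the exponents fixing the generator are the multiples of the dimension
  have hord : ∀ j : ℕ, ζ ^ r ^ j = ζ → n ∣ j := by
    intro j hj
    rw [hn, ← FiniteField.orderOf_frobeniusAlgHom F K]
    refine orderOf_dvd_of_pow_eq_one ?_
    refine AlgHom.ext_of_adjoin_eq_top hζgen ?_
    intro x hx
    rw [Set.mem_singleton_iff] at hx
    rw [hx, hφpow, hj]; rfl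
  have hsq : ∀ j : ℕ, ζ ^ r ^ j = ζ⁻¹ → ζ ^ r ^ (2 * j) = ζ := by
    intro j hj
    rw [two_mul, pow_add, pow_mul, hj, inv_pow, hj, inv_inv]
  -- forms give a field automorphism inverting the generator
  have hforward : (∃ B : LinearMap.BilinForm F V, B.Nondegenerate ∧
      ∀ h : H, ∀ x y : V, B (ρ h x) (ρ h y) = B x y) → ∃ j < n, ζ ^ r ^ j = ζ⁻¹ := by
    rintro ⟨B, hB, hBinv⟩
    have hadj : ∀ (q : F[X]) (a b : K),
        B (ev (aeval ζ q * a)) (ev b) = B (ev a) (ev (aeval ζ⁻¹ q * b)) := by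
      intro q
      induction q using Polynomial.induction_on' with
      | add q q' hq hq' => intro a b; simp [add_mul, hq, hq']
      | monomial k c =>
        intro a b
        rw [aeval_monomial, aeval_monomial, ← Algebra.smul_def, ← Algebra.smul_def,
          smul_mul_assoc, smul_mul_assoc, map_smul, map_smul, map_smul, map_smul,
          LinearMap.smul_apply]
        congr 1
        have hk : ∀ z : K, ρ (h₀ ^ k) (ev z) = ev (ζ ^ k * z) := fun z => by
          rw [hev, map_pow]
        have h := hBinv (h₀ ^ k) (ev a) (ev (ζ⁻¹ ^ k * b))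
        rwa [hk, hk, ← mul_assoc, ← mul_pow, mul_inv_cancel₀ hζ0, one_pow, one_mul] at h
    let π : F[X] →ₐ[F] K := aeval ζ
    have hπ : Function.Surjective π := by
      rw [← AlgHom.range_eq_top, ← Algebra.adjoin_singleton_eq_range_aeval, hζgen]
    let π' : F[X] →ₐ[F] K := aeval ζ⁻¹
    have hker : RingHom.ker π.toRingHom ≤ RingHom.ker π'.toRingHom := by
      intro q hq
      rw [RingHom.mem_ker] at hq ⊢
      change aeval ζ q = 0 at hq
      change aeval ζ⁻¹ q = 0
      by_contra hne
      have h1 : ev (aeval ζ⁻¹ q * 1) = 0 := hB.2 _ fun x => by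
        obtain ⟨a, rfl⟩ := ev.surjective x
        rw [← hadj, hq, zero_mul, map_zero, map_zero, LinearMap.zero_apply]
      rw [mul_one, map_eq_zero_iff ev ev.injective] at h1
      exact hne h1
    let σ := AlgHom.liftOfSurjective π hπ π' hker
    have hσ : σ ζ = ζ⁻¹ := by
      have := AlgHom.liftOfSurjective_apply π hπ π' hker X
      simpa [π, π'] using this
    obtain ⟨j, hj⟩ := (FiniteField.bijective_frobeniusAlgHom_pow F K).2 σ
    exact ⟨j, j.2, by rw [← hφpow, ← hσ, ← hj]⟩
  refine ⟨fun h1 hB => ?_, fun h2 => ⟨fun hB => ?_, fun ⟨hev2, hdvd⟩ => ?_⟩⟩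
  · obtain ⟨j, hj, he⟩ := hforward hB
    obtain rfl : j = 0 := by omega
    rw [pow_zero, pow_one] at he
    rw [← hm]
    refine Nat.le_of_dvd two_pos (orderOf_dvd_of_pow_eq_one ?_)
    rw [pow_two]
    nth_rw 2 [he]
    exact mul_inv_cancel₀ hζ0
  · obtain ⟨j, hj, he⟩ := hforward hB
    have hn2 := hord _ (hsq j he)
    have hj0 : j ≠ 0 := by
      rintro rfl
      rw [pow_zero, pow_one] at he
      -- `ζ = ±1` lies in the prime field
      have hζ1 : ζ ^ r ^ 1 = ζ := by
        rcases mul_self_eq_one_iff.1 (show ζ * ζ = 1 by nth_rw 2 [he]; exact mul_inv_cancel₀ hζ0)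
          with e | e <;> rw [e, ← hφpow]
        · exact map_one _
        · rw [map_neg, map_one]
      have := Nat.le_of_dvd one_pos (hord 1 hζ1)
      omega
    obtain ⟨c, hc⟩ := hn2
    have hc1 : c = 1 := by
      rcases c with _ | _ | c
      · omega
      · rfl
      · nlinarith
    subst hc1
    rw [mul_one] at hc
    refine ⟨⟨j, by omega⟩, ?_⟩
    rw [hnV, show n / 2 = j by omega, ← hm]
    refine orderOf_dvd_of_pow_eq_one ?_
    rw [pow_succ, he, inv_mul_cancel₀ hζ0]
  · obtain ⟨j, hj⟩ := hev2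
    set σ := φ ^ j with hσdef
    have hσζ : σ ζ * ζ = 1 := by
      rw [hσdef, hφpow, ← pow_succ]
      refine orderOf_dvd_iff_pow_eq_one.1 ?_
      rw [hm, show j = finrank F V / 2 by omega]
      exact hdvd
    obtain ⟨τ, hτ⟩ : ∃ τ : K →ₗ[F] F, τ 1 ≠ 0 := by
      by_contra hcon
      push Not at hcon
      exact one_ne_zero ((Module.forall_dual_apply_eq_zero_iff F (1 : K)).1 hcon)
    let B₀ : LinearMap.BilinForm F K :=
      ((LinearMap.mul F K).compl₂ σ.toLinearMap).compr₂ τ
    have hB₀ : ∀ a b, B₀ a b = τ (a * σ b) := fun a b => rfl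
    refine ⟨LinearMap.BilinForm.comp B₀ ev.symm.toLinearMap ev.symm.toLinearMap, ⟨?_, ?_⟩, ?_⟩
    · intro x hx
      by_contra hx0
      have hne : ev.symm x ≠ 0 := by simpa using hx0
      obtain ⟨b, hb⟩ : ∃ b, σ b = (ev.symm x)⁻¹ := by
        exact (Finite.injective_iff_surjective.1 σ.toRingHom.injective) _
      have := hx (ev b)
      simp only [LinearMap.BilinForm.comp_apply, LinearEquiv.coe_coe, LinearEquiv.symm_apply_apply,
        hB₀, hb, mul_inv_cancel₀ hne] at this
      exact hτ this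
    · intro y hy
      by_contra hy0
      have hne : σ (ev.symm y) ≠ 0 := by simpa using hy0
      have := hy (ev (σ (ev.symm y))⁻¹)
      simp only [LinearMap.BilinForm.comp_apply, LinearEquiv.coe_coe, LinearEquiv.symm_apply_apply,
        hB₀, inv_mul_cancel₀ hne] at this
      exact hτ this
    · intro h x y
      obtain ⟨a, rfl⟩ := ev.surjective x
      obtain ⟨b, rfl⟩ := ev.surjective y
      obtain ⟨k, hk⟩ := hpow h
      simp only [LinearMap.BilinForm.comp_apply, LinearEquiv.coe_coe, LinearEquiv.symm_apply_apply,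
        hev, hB₀, hk, map_mul, map_pow]
      congr 1
      rw [mul_mul_mul_comm, ← mul_pow, mul_comm ζ, hσζ, one_pow, one_mul]

theorem main [FiniteDimensional F V] (ρ : Representation F H V) (hfaith : Function.Injective ρ)
    (hirr : ∀ U : Submodule F V, (∀ h : H, ∀ u ∈ U, ρ h u ∈ U) → U = ⊥ ∨ U = ⊤) :
    (finrank F V = 1 → (∃ B : LinearMap.BilinForm F V, B.Nondegenerate ∧
        ∀ h : H, ∀ x y : V, B (ρ h x) (ρ h y) = B x y) → Nat.card H ≤ 2) ∧
      (2 ≤ finrank F V → ((∃ B : LinearMap.BilinForm F V, B.Nondegenerate ∧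
        ∀ h : H, ∀ x y : V, B (ρ h x) (ρ h y) = B x y) ↔
          (Even (finrank F V) ∧ Nat.card H ∣ Fintype.card F ^ (finrank F V / 2) + 1))) := by
  classical
  rcases subsingleton_or_nontrivial V with hV | hV
  · have : finrank F V = 0 := finrank_zero_of_subsingleton
    exact ⟨fun h => absurd h (by omega), fun h => absurd h (by omega)⟩
  haveI : Finite V := Module.finite_of_finite F
  set A := Algebra.adjoin F (Set.range ρ) with hA
  have hcomm : ∀ a ∈ Set.range ρ, ∀ b ∈ Set.range ρ, a * b = b * a := by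
    rintro _ ⟨a, rfl⟩ _ ⟨b, rfl⟩
    rw [← map_mul, ← map_mul, mul_comm]
  haveI := Algebra.isMulCommutative_adjoin F hcomm
  haveI : Nontrivial A := inferInstance
  have hmemA : ∀ h, ρ h ∈ A := fun h => Algebra.subset_adjoin ⟨h, rfl⟩
  have hst : ∀ a : A, ∀ h v, (a : V →ₗ[F] V) (ρ h v) = ρ h ((a : V →ₗ[F] V) v) := by
    intro a h v
    have := congrArg (fun z : A => (z : V →ₗ[F] V) v) (mul_comm a ⟨ρ h, hmemA h⟩)
    simpa using this
  have hinj : ∀ a : A, a ≠ 0 → ∀ v, (a : V →ₗ[F] V) v = 0 → v = 0 := by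
    intro a ha v hv
    rcases hirr (LinearMap.ker (a : V →ₗ[F] V)) (fun h u hu => by
      rw [LinearMap.mem_ker] at hu ⊢; rw [hst, hu, map_zero]) with e | e
    · exact (Submodule.mem_bot F).1 (e ▸ LinearMap.mem_ker.2 hv)
    · exact absurd (Subtype.ext (LinearMap.ker_eq_top.1 e)) ha
  haveI : NoZeroDivisors A := ⟨fun {a b} hab => by
    by_contra hne
    push Not at hne
    refine hne.2 (Subtype.ext (LinearMap.ext fun v => hinj a hne.1 _ ?_))
    exact LinearMap.congr_fun (congrArg Subtype.val hab) v⟩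
  haveI : IsDomain A := NoZeroDivisors.to_isDomain A
  haveI : Finite (Module.End F V) := Module.finite_of_finite F
  letI : Field A := (Finite.isField_of_domain A).toField
  obtain ⟨v₀, hv₀⟩ := exists_ne (0 : V)
  let ev₀ : A →ₗ[F] V :=
    { toFun := fun a => (a : V →ₗ[F] V) v₀
      map_add' := fun a b => rfl
      map_smul' := fun c a => rfl }
  have hevinj : Function.Injective ev₀ := by
    rw [← LinearMap.ker_eq_bot, LinearMap.ker_eq_bot']
    intro a ha
    by_contra hne
    exact hv₀ (hinj a hne v₀ ha)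
  have hevsurj : Function.Surjective ev₀ := by
    rw [← LinearMap.range_eq_top]
    refine (hirr _ ?_).resolve_left fun e => hv₀ ((Submodule.mem_bot F).1 (e.le ⟨1, rfl⟩))
    rintro h _ ⟨a, rfl⟩
    exact ⟨⟨ρ h, hmemA h⟩ * a, rfl⟩
  let f : H →* A :=
    { toFun := fun h => ⟨ρ h, hmemA h⟩
      map_one' := Subtype.ext (map_one ρ)
      map_mul' := fun a b => Subtype.ext (map_mul ρ a b) }
  refine field_model f (fun a b e => hfaith (congrArg Subtype.val e)) (fun x => ?_)
    (LinearEquiv.ofBijective ev₀ ⟨hevinj, hevsurj⟩) ρ (fun h a => rfl)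
  obtain ⟨x, hx⟩ := x
  have : x ∈ (Algebra.adjoin F (Set.range f)).map A.val := by
    rw [AlgHom.map_adjoin, ← Set.range_comp]
    exact hx
  obtain ⟨y, hy, e⟩ := this
  rwa [show (⟨x, hx⟩ : A) = y from Subtype.ext e.symm]

end Cfsg.Agent.CharTheory.SelfDualAbelian
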