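import Mathlib
import Cfsg.Prelude.Def_DegreeGraph
import Cfsg.Agent.S0887
import Cfsg.Agent.Lib.Characters.Burnside
import Cfsg.Agent.Lib.Characters.Kernel
import Cfsg.Agent.BlocksChars.IsaacsOdd.InvCase

/-!
# Character degrees with at most two prime divisors force solvability

In a non-abelian simple group a non-identity element `z` central in a Sylow `p`-subgroup is a zero
of every non-trivial irreducible character of `p`-power degree, so column orthogonality at `z`
shows that not every degree can be a `p`-power or divisible by `q`.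
-/

set_option autoImplicit false
set_option linter.style.haveILetI false

namespace Cfsg.Agent.CharTheory.TwoPrimeDegrees

open Module Cfsg.Agent.Characters
open scoped ComplexConjugate

universe u

theorem charDegree_eq_nat {G : Type u} [Group G] {χ : G → ℂ} {d : ℕ} (h : χ 1 = (d : ℂ)) :
    Cfsg.charDegree χ = d := by
  unfold Cfsg.charDegree
  rw [h]
  simp

/-- A non-trivial irreducible character of a non-abelian simple group vanishes at a non-identity
element whose class size is prime to the degree. -/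
theorem eq_zero_of_coprime_class {S : Type u} [Group S] [Finite S] [IsSimpleGroup S]
    (hna : ¬ ∀ a b : S, a * b = b * a) (χ : Cfsg.IrrCharacter S) (hχ : χ ≠ trivIrr S) {g : S}
    (hg : g ≠ 1) {d : ℕ} (hd : (χ : S → ℂ) 1 = (d : ℂ))
    (hcop : Nat.Coprime d (Subgroup.centralizer ({g} : Set S)).index) : (χ : S → ℂ) g = 0 := by
  classical
  obtain ⟨n, ρ, hρ, hchar⟩ := χ.2
  by_contra h0
  rw [← hchar] at h0 hd
  have hdn : finrank ℂ (Fin n → ℂ) = d := by
    have := ρ.char_one
    rw [hd] at this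
    exact_mod_cast this.symm
  have hnorm := (char_eq_zero_or_norm_eq_of_coprime ρ g (by rw [hdn]; exact hcop)).resolve_left h0
  obtain ⟨ω, hω⟩ := rep_apply_eq_smul_of_norm_eq ρ g hnorm
  rcases (inferInstance : (ρ.asGroupHom.ker).Normal).eq_bot_or_eq_top with hker | hker
  · have hinj := (MonoidHom.ker_eq_bot_iff ρ.asGroupHom).1 hker
    have hc : ∀ x : S, g * x = x * g := fun x => hinj (Units.ext (by
      simp [Representation.asGroupHom_apply, hω, Module.End.mul_eq_comp, map_mul]))
    have hz : g ∈ Subgroup.center S := Subgroup.mem_center_iff.2 fun x => (hc x).symm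
    have htop : Subgroup.center S = ⊤ :=
      ((inferInstance : (Subgroup.center S).Normal).eq_bot_or_eq_top).resolve_left
        fun h => hg (by rw [h, Subgroup.mem_bot] at hz; exact hz)
    refine hna fun a b => ?_
    have ha : a ∈ Subgroup.center S := htop ▸ Subgroup.mem_top a
    exact (Subgroup.mem_center_iff.1 ha b).symm
  · have hid : ∀ x : S, ρ x = LinearMap.id := fun x => by
      have hx : x ∈ ρ.asGroupHom.ker := hker ▸ Subgroup.mem_top x
      have := congrArg Units.val (MonoidHom.mem_ker.1 hx)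
      rw [Representation.asGroupHom_apply] at this
      exact this.trans (by rfl)
    have hconst : ∀ x : S, (χ : S → ℂ) x = (χ : S → ℂ) 1 := fun x => by
      rw [← hchar]; exact rep_char_eq_of_apply_eq_id (hid x)
    haveI := Fintype.ofFinite S
    have h1 := classInner_isIrr_ne χ.2 (trivIrr S).2 (fun e => hχ (Subtype.ext e))
    rw [classInner_def] at h1
    simp only [hconst, trivIrr_coe, map_one, mul_one, Finset.sum_const, Finset.card_univ,
      nsmul_eq_mul, ← Nat.card_eq_fintype_card] at h1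
    rw [inv_mul_cancel_left₀ natCard_ne_zero] at h1
    exact irr_one_ne_zero χ.2 h1

theorem dvd_card_of_mem {G : Type u} [Group G] [Finite G] {p : ℕ}
    (h : p ∈ Cfsg.degreePrimes G) : p ∣ Nat.card G := by
  obtain ⟨-, d, ⟨χ, rfl⟩, hpd⟩ := h
  obtain ⟨n, hn, -, hdvd⟩ := irr_degree_dvd_card χ.2
  rw [charDegree_eq_nat hn] at hpd
  exact hpd.trans hdvd

theorem false_of_simple {S : Type u} [Group S] [Finite S] [IsSimpleGroup S]
    (hna : ¬ ∀ a b : S, a * b = b * a) {p q : ℕ} (hp : p.Prime) (hq : q.Prime) (hpq : p ≠ q)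
    (hmem : p ∈ Cfsg.degreePrimes S) (h : ∀ r ∈ Cfsg.degreePrimes S, r = p ∨ r = q) : False := by
  classical
  haveI := Fact.mk hp
  haveI := Fintype.ofFinite S
  haveI := Fintype.ofFinite (Cfsg.IrrCharacter S)
  obtain ⟨P⟩ := (inferInstance : Nonempty (Sylow p S))
  have hP0 : (P : Subgroup S) ≠ ⊥ := P.ne_bot_of_dvd_card (dvd_card_of_mem hmem)
  haveI : Nontrivial (P : Subgroup S) := Subgroup.nontrivial_iff_ne_bot _ |>.2 hP0
  haveI := P.isPGroup'.center_nontrivial
  obtain ⟨z, hz⟩ := exists_ne (1 : Subgroup.center (P : Subgroup S))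
  set g : S := ((z : (P : Subgroup S)) : S) with hgdef
  have hg1 : g ≠ 1 := fun he => hz (Subtype.ext (Subtype.ext he))
  have hle : (P : Subgroup S) ≤ Subgroup.centralizer ({g} : Set S) := fun x hx =>
    Subgroup.mem_centralizer_singleton_iff.2
      (congrArg Subtype.val (Subgroup.mem_center_iff.1 z.2 ⟨x, hx⟩))
  have hpidx : ¬ p ∣ (Subgroup.centralizer ({g} : Set S)).index := fun hd =>
    P.not_dvd_index (hd.trans (Subgroup.index_dvd_of_le hle))
  have key : ∀ χ : Cfsg.IrrCharacter S, χ ≠ trivIrr S →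
      IsIntegral ℤ (((χ : S → ℂ) g * conj ((χ : S → ℂ) 1)) / (q : ℂ)) := by
    intro χ hχ
    obtain ⟨d, hd, hd0, -⟩ := irr_degree_dvd_card χ.2
    by_cases hqd : q ∣ d
    · obtain ⟨m, rfl⟩ := hqd
      rw [hd, Complex.conj_natCast, Nat.cast_mul, ← mul_assoc, mul_right_comm,
        mul_div_cancel_right₀ _ (Nat.cast_ne_zero.2 hq.ne_zero)]
      exact (char_value_isIntegral (irr_isCharacter χ) g).mul
        (isIntegral_algebraMap (R := ℤ) (x := (m : ℤ)))
    · have hzero : (χ : S → ℂ) g = 0 := by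
        refine eq_zero_of_coprime_class hna χ hχ hg1 hd ?_
        refine Nat.coprime_of_dvd fun r hr hrd hri => ?_
        rcases h r ⟨hr, Cfsg.charDegree (χ : S → ℂ), ⟨χ, rfl⟩,
          by rw [charDegree_eq_nat hd]; exact hrd⟩ with rfl | rfl
        · exact hpidx hri
        · exact hqd hrd
      rw [hzero]; simp [isIntegral_zero]
  have hcol := second_orthogonality g (1 : S)
  rw [if_neg (fun he => hg1 (isConj_one_left.1 he))] at hcol
  rw [← Finset.add_sum_erase _ _ (Finset.mem_univ (trivIrr S))] at hcol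
  have hint : IsIntegral ℤ ((∑ χ ∈ Finset.univ.erase (trivIrr S),
      (χ : S → ℂ) g * conj ((χ : S → ℂ) 1)) / (q : ℂ)) := by
    rw [Finset.sum_div]
    exact IsIntegral.sum _ fun χ hχ => key χ (Finset.ne_of_mem_erase hχ)
  have h1 : (∑ χ ∈ Finset.univ.erase (trivIrr S),
      (χ : S → ℂ) g * conj ((χ : S → ℂ) 1)) = -1 := by
    simp only [trivIrr_coe, map_one, mul_one] at hcol
    linear_combination hcol
  rw [h1] at hint
  have h2 := hint.neg
  rw [neg_div, neg_neg] at h2
  exact hq.not_dvd_one (dvd_of_isIntegral_div (a := 1) hq.ne_zero (by simpa using h2))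

theorem degreePrimes_subgroup {G : Type u} [Group G] [Finite G] (N : Subgroup G) [N.Normal] :
    Cfsg.degreePrimes N ⊆ Cfsg.degreePrimes G := by
  rintro r ⟨hr, d, ⟨θ, rfl⟩, hrd⟩
  haveI := Fintype.ofFinite G
  haveI := Fintype.ofFinite N
  obtain ⟨χ, hχ, hover⟩ := Cfsg.Agent.BlocksChars.IsaacsOdd.exists_irr_over N θ.2
  obtain ⟨c, hc, -, -⟩ := irr_degree_dvd_card hχ
  obtain ⟨e, he, -, -⟩ := irr_degree_dvd_card θ.2
  rw [charDegree_eq_nat he] at hrd
  exact ⟨hr, c, ⟨⟨χ, hχ⟩, charDegree_eq_nat hc⟩,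
    hrd.trans (Cfsg.Agent.S0887.result N χ hχ (θ : N → ℂ) θ.2 hover c e hc he).1⟩

theorem degreePrimes_quotient {G : Type u} [Group G] [Finite G] (N : Subgroup G) [N.Normal] :
    Cfsg.degreePrimes (G ⧸ N) ⊆ Cfsg.degreePrimes G := by
  rintro r ⟨hr, d, ⟨θ, rfl⟩, hrd⟩
  refine ⟨hr, _, ⟨⟨(θ : G ⧸ N → ℂ) ∘ (QuotientGroup.mk' N),
    isIrrCharacter_comp_surjective _ (QuotientGroup.mk'_surjective N) θ.2⟩, ?_⟩, hrd⟩
  unfold Cfsg.charDegree
  simp

theorem solvable_aux (n : ℕ) : ∀ (G : Type u) [Group G] [Finite G] (p q : ℕ), p.Prime → q.Prime →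
    p ≠ q → Nat.card G = n → (∀ r ∈ Cfsg.degreePrimes G, r = p ∨ r = q) → Group.IsSolvable G := by
  induction n using Nat.strong_induction_on with
  | _ n ih =>
    intro G _ _ p q hp hq hpq hn h
    rcases subsingleton_or_nontrivial G with hs | hs
    · infer_instance
    by_cases hN : ∃ N : Subgroup G, N.Normal ∧ N ≠ ⊥ ∧ N ≠ ⊤
    · obtain ⟨N, hNn, hN1, hN2⟩ := hN
      have hN' : 1 < Nat.card N := Subgroup.one_lt_card_iff_ne_bot N |>.2 hN1
      have hi : 1 < N.index := by
        have := N.index_ne_zero_of_finite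
        have : N.index ≠ 1 := fun h => hN2 (Subgroup.index_eq_one.1 h)
        omega
      have hmul := N.card_mul_index
      have s1 : Group.IsSolvable N :=
        ih _ (by rw [← hn, ← hmul]; exact lt_mul_of_one_lt_right (by omega) hi) N p q hp hq hpq
          rfl fun r hr => h r (degreePrimes_subgroup N hr)
      have s2 : Group.IsSolvable (G ⧸ N) :=
        ih _ (by rw [← hn, ← hmul]; exact lt_mul_of_one_lt_left (by omega) hN') (G ⧸ N) p q
          hp hq hpq N.index_eq_card.symm fun r hr => h r (degreePrimes_quotient N hr)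
      exact (Group.isSolvable_iff_subgroup_quotient N).2 ⟨s1, s2⟩
    push Not at hN
    haveI : IsSimpleGroup G := ⟨fun N hNn => or_iff_not_imp_left.2 (hN N hNn)⟩
    by_cases hab : ∀ a b : G, a * b = b * a
    · exact Group.isSolvable_of_comm hab
    exfalso
    by_cases hex : ∃ r, r ∈ Cfsg.degreePrimes G
    · obtain ⟨r, hr⟩ := hex
      rcases h r hr with rfl | rfl
      · exact false_of_simple hab hp hq hpq hr h
      · exact false_of_simple hab hq hp hpq.symm hr fun s hs' => (h s hs').symm
    · refine hab fun a b => comm_of_forall_degree_one (fun χ => ?_) a b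
      obtain ⟨d, hd, hd0, -⟩ := irr_degree_dvd_card χ.2
      by_contra hne
      refine hex ⟨d.minFac, Nat.minFac_prime ?_, _, ⟨χ, charDegree_eq_nat hd⟩, Nat.minFac_dvd d⟩
      rintro rfl
      exact hne (by simpa using hd)

/-- A finite group is solvable if at most two primes divide its irreducible character degrees. -/
theorem three_primes {G : Type u} [Group G] [Finite G] (hG : ¬ Group.IsSolvable G) :
    ∃ p q r : ℕ, p ≠ q ∧ q ≠ r ∧ p ≠ r ∧ p ∈ Cfsg.degreePrimes G ∧ q ∈ Cfsg.degreePrimes G ∧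
      r ∈ Cfsg.degreePrimes G := by
  by_contra hcon
  push Not at hcon
  apply hG
  by_cases h1 : ∃ a, a ∈ Cfsg.degreePrimes G
  · obtain ⟨a, ha⟩ := h1
    by_cases h2 : ∃ b, b ∈ Cfsg.degreePrimes G ∧ b ≠ a
    · obtain ⟨b, hb, hba⟩ := h2
      refine solvable_aux _ G a b ha.1 hb.1 hba.symm rfl fun r hr => ?_
      by_contra hne
      push Not at hne
      exact hcon a b r hba.symm (Ne.symm hne.2) (Ne.symm hne.1) ha hb hr
    · push Not at h2
      obtain ⟨b, hab, hb⟩ := Nat.exists_infinite_primes (a + 1)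
      exact solvable_aux _ G a b ha.1 hb (by omega) rfl fun r hr => Or.inl (h2 r hr)
  · exact solvable_aux _ G 2 3 Nat.prime_two Nat.prime_three (by decide) rfl
      fun r hr => absurd ⟨r, hr⟩ h1

end Cfsg.Agent.CharTheory.TwoPrimeDegrees
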